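import Cfsg.Agent.J4F.Tr
import Cfsg.Agent.J4T.AutM22
import Cfsg.Agent.J4T.CV

/-! The subgroup `2^11` of `J₄`: Sylow uniqueness, complement, orbits, second involution centraliser (helper16). -/

set_option autoImplicit false
set_option maxRecDepth 100000
set_option exponentiation.threshold 100000

namespace Cfsg.Agent.J4F
open Subgroup Cfsg.Agent.Comp Cfsg.Agent.Golay Cfsg.Agent.J4T Cfsg.Agent.J4T.C
open Cfsg.Agent.Spor (ev getL genL genW seq seq_eq)

theorem exσ (g : MG) : ∃ k, π k = g ∧ sy k = 0 := exists_K g (by decide +kernel)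

/-- the standard complement -/
noncomputable def σ : MG →* K := MonoidHom.mk' (fun g => (exσ g).choose) fun a b => by
  obtain ⟨c, hc⟩ := exC (π (exσ a).choose)
  refine ext_K ?_ ?_
  · rw [map_mul, (exσ _).choose_spec.1, (exσ _).choose_spec.1, (exσ _).choose_spec.1]
  · rw [sy_mul hc.1, (exσ _).choose_spec.2, (exσ _).choose_spec.2, (exσ _).choose_spec.2, act_zero hc.1]; rfl

theorem π_σ (g : MG) : π (σ g) = g := (exσ g).choose_spec.1
theorem sy_σ (g : MG) : sy (σ g) = 0 := (exσ g).choose_spec.2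
theorem σ_inj : Function.Injective σ := fun a b h => by rw [← π_σ a, h, π_σ]
theorem RK_σ {c : ℕ} {g : MG} (h : CM c g) : RK (pk c 0) (σ g) := RK.pk (by rwa [π_σ]) (sy_σ g).symm
theorem σ_V {g : MG} (h : σ g ∈ V) : g = 1 := by rw [← π_σ g, π_V h]

theorem mapι_inf (A B : Subgroup K) : A.map ι ⊓ B.map ι = (A ⊓ B).map ι := (map_inf _ _ _ ι_inj).symm

/-- isomorphism onto the image in `J₄` -/
noncomputable def mapιE (A : Subgroup K) : A ≃* A.map ι := A.equivMapOfInjective ι ι_inj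

theorem cent_ι {t : K} (h : centralizer {ι t} ≤ N0) : centralizer {ι t} = (centralizer {t}).map ι := by
  refine le_antisymm (fun g hg => ?_) ?_
  · obtain ⟨k, rfl⟩ := h hg
    exact ⟨k, mem_centralizer_singleton_iff.2 (ι_inj (by
      rw [map_mul, map_mul]; exact mem_centralizer_singleton_iff.1 hg)), rfl⟩
  · rintro _ ⟨k, hk, rfl⟩
    rw [mem_centralizer_singleton_iff, ← map_mul, ← map_mul, mem_centralizer_singleton_iff.1 hk]

theorem V_two : IsPGroup 2 V := IsPGroup.of_card card_V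

variable {G : Type*} [Group G]

theorem r66 (f : J ≃* G) (T : Sylow 2 G) :
    ∃! E : Subgroup G, E ≤ (T : Subgroup G) ∧ IsElementaryAbelian 2 E ∧ Nat.card E = 2 ^ 11 := by
  obtain ⟨P, hP⟩ := sylow_mp' f T
  obtain ⟨g, S, hS⟩ := two_in_K P.2
  rw [hS, mp_trans] at hP
  generalize (MulAut.conj g).trans f = f' at hP
  have h2 : IsPGroup 2 S := ((T.2.of_equiv (MulEquiv.subgroupCongr hP)).of_equiv (mpE f' _).symm).of_equiv (mapιE S).symm
  have h3 := T.3 (((h2.to_sup_of_normal_right V_two).map ι).map f'.toMonoidHom)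
    (hP.le.trans (mp_le.2 (map_mono le_sup_left)))
  refine ⟨mp f' V0, ⟨(mp_le.2 (map_mono le_sup_right)).trans h3.le, mp_ea.2 V0_elem, by rw [mp_card, card_V0]⟩, ?_⟩
  rintro E ⟨h1, h4, h5⟩
  obtain ⟨E, rfl⟩ := mp_surj f' E
  rw [hP, mp_le] at h1
  rw [← map_comap_eq_self (h1.trans (map_le_range _ _))] at h4 h5 ⊢
  rw [mp_ea] at h4
  rw [mp_card, card_mapι] at h5
  rw [ea_eq_V (E := E.comap ι) (fun x hx => ι_inj (by rw [map_mul, map_one]; exact ea_sq h4 _ ⟨x, hx, rfl⟩)) h5.ge]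
  rfl

theorem N0_eq : N0 = (⊤ : Subgroup K).map ι := MonoidHom.range_eq_map _

theorem r67 (f : J ≃* G) : centralizer (mp f V0 : Set G) ≤ mp f V0 ∧ ∃ M : Subgroup G, M ≤ normalizer (mp f V0 : Set G) ∧
    M ⊓ mp f V0 = ⊥ ∧ M ⊔ mp f V0 = normalizer (mp f V0 : Set G) ∧ Cfsg.Spor.IsoM24 M := by
  obtain ⟨M, h, ⟨e⟩⟩ := V_compl
  rw [mp_cent, cent_V0, mp_norm, norm_V0]
  refine ⟨le_rfl, mp f (M.map ι), mp_le.2 (map_le_range _ _), ?_, ?_, ⟨((mpE f _).symm.trans (mapιE M).symm).trans e⟩⟩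
  · rw [mp_inf, mp_eq_bot, V0, mapι_inf, h.symm.disjoint.eq_bot, Subgroup.map_bot]
  · rw [mp_sup, V0, ← Subgroup.map_sup, h.symm.sup_eq_top, N0_eq]

theorem orb_N0 (a : K) : {v : J | ∃ n ∈ N0, n * ι a * n⁻¹ = v}.ncard = (centralizer {a}).index := by
  have : {v : J | ∃ n ∈ N0, n * ι a * n⁻¹ = v} = ι '' MulAction.orbit (ConjAct K) a := by
    ext v
    constructor
    · rintro ⟨_, ⟨k, rfl⟩, rfl⟩
      exact ⟨_, ⟨ConjAct.toConjAct k, rfl⟩, by simp [ConjAct.smul_def]⟩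
    · rintro ⟨_, ⟨k, rfl⟩, rfl⟩
      exact ⟨_, ⟨ConjAct.ofConjAct k, rfl⟩, by simp [ConjAct.smul_def]⟩
  rw [this, Set.ncard_image_of_injective _ ι_inj, ← MulAction.index_stabilizer, ConjAct.stabilizer_eq_centralizer]
  rfl

theorem r68 (f : J ≃* G) {z : G} (hz : IsConj z (f z0)) : ∃ z' t : G, z' ∈ mp f V0 ∧ t ∈ mp f V0 ∧ t ≠ 1 ∧ IsConj z z' ∧ ¬ IsConj z t ∧
    Set.ncard {v : G | ∃ n ∈ normalizer (mp f V0 : Set G), n * z' * n⁻¹ = v} = 1771 ∧
    Set.ncard {v : G | ∃ n ∈ normalizer (mp f V0 : Set G), n * t * n⁻¹ = v} = 276 ∧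
    centralizer ({t} : Set G) ≤ normalizer (mp f V0 : Set G) := by
  rw [mp_norm, norm_V0]
  refine ⟨f z0, f t0, mem_mp'.2 ⟨_, v0_mem, rfl⟩, mem_mp'.2 ⟨_, tv0_mem, rfl⟩, fun h => ?_, hz,
    fun h => not_conj_z0_t0 (isConj_map.1 (hz.symm.trans h)), ?_, ?_, ?_⟩
  · have := ord_t0
    rw [f.map_eq_one_iff.1 h, orderOf_one] at this
    omega
  · rw [mp_orb]; exact (orb_N0 _).trans index_B0
  · rw [mp_orb]; exact (orb_N0 _).trans index_tv0
  · rw [mp_cent1]; exact mp_le.2 cent_t0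

/-- the vector of the duad `{0, ∞}` -/
noncomputable def tD : K := el (pk one24 1141)
theorem RK_tD : RK (pk one24 1141) tD := RK_el (by decide +kernel)
theorem tD_V : tD ∈ V := RK_tD.mem_V.2 (by decide +kernel)
theorem tD_conj : IsConj tv0 tD :=
  mdK.isConj RK_tv0 RK_tD (RK_el (c := 1746787396487497180846505307453217243136) (by decide +kernel)) (by decide +kernel)

/-- the duad stabiliser inside `K` -/
noncomputable def φD : D22 →* K := σ.comp (inclusion inf_le_left)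

theorem φD_le : φD.range ≤ centralizer {tD} := by
  obtain ⟨x, h⟩ := exists_gD
  have h1 : closure {x 0, x 1, x 2, x 3} = ⊤ := by
    apply map_injective conjD_injective
    rw [map_gD h, map_top_of_surjective _ conjD_bijective.2]
  have h2 (i) (hi : Nat.beq (act (nthL one24 J4T.gD i) 1141) 1141 = true) : φD (x i) ∈ centralizer {tD} := by
    rw [mem_centralizer_singleton_iff, ← mul_inv_eq_iff_eq_mul]
    have h3 : RM (nthL one24 J4T.gD i) (π (φD (x i))) := by rw [φD, MonoidHom.comp_apply, π_σ]; exact h i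
    refine ext_K ((π_V (V_normal.conj_mem _ tD_V _)).trans (π_V tD_V).symm) ?_
    rw [sy_conj h3 tD_V, ← RK_tD.2, lo_pk _ (by decide)]
    exact Nat.eq_of_beq_eq_true hi
  rw [MonoidHom.range_eq_map, ← h1, map_le_iff_le_comap, closure_le]
  simp only [Set.insert_subset_iff, Set.singleton_subset_iff]
  exact ⟨h2 0 (by decide +kernel), h2 1 (by decide +kernel), h2 2 (by decide +kernel), h2 3 (by decide +kernel)⟩

theorem φD_inj : Function.Injective φD := σ_inj.comp (inclusion_injective _)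

theorem φD_inf : φD.range ⊓ V = ⊥ := by
  rw [eq_bot_iff]
  rintro _ ⟨⟨g, rfl⟩, h⟩
  rw [mem_bot, φD, MonoidHom.comp_apply, σ_V h, map_one]

theorem V_le_cent {v : K} (hv : v ∈ V) : V ≤ centralizer {v} := fun _ h =>
  mem_centralizer_singleton_iff.2 (comm_of_sq (ea_sq V_elem) h hv)

theorem card_sup_normal {H : Type*} [Group H] [Finite H] (A B : Subgroup H) [B.Normal] :
    Nat.card ↥(A ⊔ B) * Nat.card ↥(A ⊓ B) = Nat.card A * Nat.card B := by
  have h1 := relIndex_sup_right A B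
  have h2 := (B.subgroupOf (A ⊔ B)).card_mul_index
  have h3 := (B.subgroupOf A).card_mul_index
  rw [Nat.card_congr (subgroupOfEquivOfLe le_sup_right).toEquiv] at h2
  rw [← inf_subgroupOf_right, Nat.card_congr (subgroupOfEquivOfLe inf_le_right).toEquiv, inf_subgroupOf_right, inf_comm] at h3
  rw [← h2, ← h3, relIndex] at *
  rw [h1, relIndex]; ring

theorem φD_sup : φD.range ⊔ V = centralizer {tD} := by
  refine eq_of_le_of_card_ge (sup_le φD_le (V_le_cent tD_V)) ?_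
  have h := card_sup_normal φD.range V
  obtain ⟨u, hu⟩ := isConj_iff.1 tD_conj
  rw [φD_inf, card_bot, mul_one, ← Nat.card_congr (MonoidHom.ofInjective φD_inj).toEquiv, card_D22, card_V] at h
  rw [h, ← hu, show u * tv0 * u⁻¹ = MulAut.conj u tv0 from rfl, mp_cent1, mp_card, card_cent_tv0, mul_comm]

theorem cent_tD : centralizer {ι tD} ≤ N0 := by
  obtain ⟨u, hu⟩ := isConj_iff.1 tD_conj
  rw [← hu, map_mul, map_mul, map_inv, show ι u * ι tv0 * (ι u)⁻¹ = MulAut.conj (ι u) t0 from rfl, mp_cent1]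
  rintro _ ⟨g, hg, rfl⟩
  exact N0.mul_mem (N0.mul_mem ⟨u, rfl⟩ (cent_t0 hg)) (N0.inv_mem ⟨u, rfl⟩)

theorem r69 (f : J ≃* G) {t : G} (ht : orderOf t = 2) (hnc : ¬ IsConj (f z0) t) :
    ∃ E M : Subgroup G, E ≤ centralizer ({t} : Set G) ∧ M ≤ centralizer ({t} : Set G) ∧
    centralizer ({t} : Set G) ≤ normalizer (E : Set G) ∧ IsElementaryAbelian 2 E ∧ Nat.card E = 2 ^ 11 ∧
    M ⊓ E = ⊥ ∧ M ⊔ E = centralizer ({t} : Set G) ∧ Nonempty (M ≃* MulAut Cfsg.Spor.M22) := by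
  obtain ⟨t, rfl⟩ := f.surjective t
  rw [isConj_map] at hnc
  obtain ⟨g, rfl⟩ := isConj_iff.1 ((ι.map_isConj tD_conj).symm.trans
    ((two_classes (by rwa [f.orderOf_eq] at ht)).resolve_left hnc))
  rw [show f (g * ι tD * g⁻¹) = ((MulAut.conj g).trans f) (ι tD) from rfl]
  generalize (MulAut.conj g).trans f = f
  rw [mp_cent1]
  refine ⟨mp f V0, mp f (φD.range.map ι), ?_, ?_, ?_, mp_ea.2 V0_elem, by rw [mp_card, card_V0], ?_, ?_,
    ⟨(((mpE f _).symm.trans (mapιE _).symm).trans (MonoidHom.ofInjective φD_inj).symm).trans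
      (MulEquiv.ofBijective _ conjD_bijective)⟩⟩
  · rw [cent_ι cent_tD]; exact mp_le.2 (map_mono (V_le_cent tD_V))
  · rw [cent_ι cent_tD]; exact mp_le.2 (map_mono φD_le)
  · rw [mp_norm, norm_V0]; exact mp_le.2 cent_tD
  · rw [mp_inf, mp_eq_bot, V0, mapι_inf, φD_inf, Subgroup.map_bot]
  · rw [mp_sup, V0, ← Subgroup.map_sup, φD_sup, cent_ι cent_tD]

theorem r29 (f : J ≃* G) {N : Subgroup G} (hN : N = mp f ι.range) : N.index = 173067389 ∧ ∃ c : Fin 7 → G ⧸ N,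
    (∀ i j : Fin 7, i ≠ j → MulAction.orbit N (c i) ≠ MulAction.orbit N (c j)) ∧
    (∀ q : G ⧸ N, ∃ i : Fin 7, q ∈ MulAction.orbit N (c i)) ∧ (List.ofFn fun i => (MulAction.orbit N (c i)).ncard) =
      [1, 15180, 28336, 3400320, 32643072, 54405120, 82575360] := by
  subst hN
  refine ⟨by rw [mp_index, index_N0], ?_⟩
  let e : J ⧸ ι.range ≃ G ⧸ mp f ι.range := Quotient.congr f.toEquiv fun a b => by
    rw [QuotientGroup.leftRel_apply, QuotientGroup.leftRel_apply, ← mem_mp' (f := f)]; simp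
  have he (g : J) (q) : e (g • q) = f g • e q := by
    induction q using QuotientGroup.induction_on
    exact congrArg (QuotientGroup.mk (s := mp f ι.range)) (f.map_mul _ _)
  have ho (q) : MulAction.orbit (mp f ι.range) (e q) = e '' Spor.Dce.O ι q := by
    ext x
    constructor
    · rintro ⟨⟨_, _, ⟨k, rfl⟩, rfl⟩, rfl⟩
      exact ⟨_, ⟨k, rfl⟩, he _ _⟩
    · rintro ⟨_, ⟨k, rfl⟩, rfl⟩
      exact ⟨⟨f (ι k), mem_mp'.2 ⟨k, rfl⟩⟩, (he _ _).symm⟩
  let s : Fin 7 → ℕ := ![0, 1, 4, 2, 3, 5, 6]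
  have hs : ∀ i, s i < 7 := by decide
  refine ⟨fun i => e (d (s i) • Spor.basePt ι.range), fun i j hij h => hij ?_, fun q => ?_, ?_⟩
  · rw [ho, ho, Set.image_eq_image e.injective] at h
    exact (by decide : ∀ i j, s i = s j → i = j) i j
      (J4F.orbs.dis _ (hs i) _ (hs j) _ (Spor.Dce.O_self _ _) (h ▸ Spor.Dce.O_self _ _))
  · obtain ⟨q, rfl⟩ := e.surjective q
    obtain ⟨i, hi, h⟩ := J4F.orbs.cover q
    obtain ⟨j, rfl⟩ := (by decide : ∀ i < 7, ∃ j, s j = i) i hi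
    exact ⟨j, by rw [ho]; exact ⟨q, h, rfl⟩⟩
  · simp only [ho, Set.ncard_image_of_injective _ e.injective, J4F.orbs.size _ (hs _)]
    decide

end Cfsg.Agent.J4F
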