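import Cfsg.Agent.J4T.AutM22
import Cfsg.Prelude.Def_JankoFourType
import Cfsg.Prelude.Def_CaseTheorems

/-! The normaliser of the subgroup `P` of order three in the centraliser of `z` (Janko-four type; helper16). -/

set_option autoImplicit false

namespace Cfsg.Agent.J4F
open Subgroup Cfsg.Agent.Comp Cfsg.Agent.Golay Cfsg.Agent.J4T Cfsg.Spor

theorem center_M22 : center M22 = ⊥ :=
  (simple_M22.eq_bot_or_eq_top_of_normal _ inferInstance).resolve_right fun e => by
    have := simple_M22
    let : CommGroup M22 := { (inferInstance : Group M22) with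
      mul_comm a b := (mem_center_iff.1 (e.ge (mem_top b)) a) }
    have := IsSimpleGroup.prime_card (α := M22)
    rw [card_M22] at this
    exact absurd this (by norm_num)

theorem conj_inj : Function.Injective (MulAut.conj : M22 →* MulAut M22) := (injective_iff_map_eq_one _).2 fun a h =>
  mem_bot.1 (center_M22 ▸ mem_center_iff.2 fun b => (mul_inv_eq_iff_eq_mul.1 (DFunLike.congr_fun h b)).symm)

theorem comm_M22 : commutator M22 = ⊤ :=
  (simple_M22.eq_bot_or_eq_top_of_normal _ inferInstance).resolve_left fun e => by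
    have h : center M22 = ⊤ := by
      rw [commutator_def, commutator_eq_bot_iff_le_centralizer, coe_top, centralizer_univ] at e
      exact top_unique e
    have := simple_M22
    exact absurd (center_M22.symm.trans h) bot_ne_top

theorem eq_inn {L : Subgroup (MulAut M22)} (h : L.index = 2) : L = Inn M22 := by
  have := normal_of_index_eq_two h
  have h1 : Inn M22 ≤ L := by
    rintro _ ⟨y, rfl⟩
    refine ((simple_M22.eq_bot_or_eq_top_of_normal (L.comap MulAut.conj) inferInstance).resolve_left fun e => ?_).ge (mem_top y)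
    have h2 := index_comap L (MulAut.conj : M22 →* MulAut M22)
    have h3 := relIndex_dvd_index_of_normal L (MulAut.conj : M22 →* MulAut M22).range
    rw [← h2, e, index_bot, card_M22, h] at h3
    omega
  have : Finite (MulAut M22) := Nat.finite_of_card_ne_zero (by rw [card_autM22]; decide)
  have h2 := L.card_mul_index
  have h3 := (Inn M22).card_mul_index
  rw [h] at h2
  rw [show (Inn M22).index = 2 from S2062.result] at h3
  exact (eq_of_le_of_card_ge h1 (by omega)).symm

variable {G : Type*} [Group G] [Finite G] {z : G} {P : Subgroup G}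

structure Ab3 (z p : G) (P : Subgroup G) (φ : ↥(centralizer ({z} : Set G) ⊓ normalizer (P : Set G)) →* MulAut M22) : Prop where
  oz : orderOf z = 2
  op : orderOf p = 3
  hP : P = zpowers p
  zp : Commute z p
  surj : Function.Surjective φ
  ker : ∀ x, φ x = 1 ↔ x.1 ∈ zpowers (z * p)
  ne : centralizer ({z} : Set G) ⊓ normalizer (P : Set G) ≠ centralizer ({z} : Set G) ⊓ centralizer (P : Set G)

theorem zp_mem {p : G} (oz : orderOf z = 2) (op : orderOf p = 3) (zp : Commute z p) :
    z ∈ zpowers (z * p) ∧ p ∈ zpowers (z * p) := by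
  have h2 : z ^ 2 = 1 := oz ▸ pow_orderOf_eq_one z
  have h3 : p ^ 3 = 1 := op ▸ pow_orderOf_eq_one p
  refine ⟨⟨(3 : ℕ), ?_⟩, ⟨(4 : ℕ), ?_⟩⟩
  · show (z * p) ^ ((3 : ℕ) : ℤ) = z
    rw [zpow_natCast, zp.mul_pow, h3, pow_succ, h2, one_mul, mul_one]
  · show (z * p) ^ ((4 : ℕ) : ℤ) = p
    rw [zpow_natCast, zp.mul_pow, pow_succ p, h3, one_mul, show 4 = 2 * 2 from rfl, pow_mul, h2, one_pow, one_mul]

theorem exists_ab3 (h : IsOfJankoFourTypeWith z P) : ∃ p φ, Ab3 z p P φ := by
  obtain ⟨oz, -, hE, -, ⟨N, hEN, hNH, hHN, hN, ⟨_, ⟨e⟩⟩, hPN⟩, hP, hC, hne, -⟩ := h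
  obtain ⟨p, op, rfl⟩ := exists_zpowers_of_prime Nat.prime_three hP
  set H := centralizer ({z} : Set G)
  set E := twoCoreOfCentralizer z
  have zp : Commute z p := (mem_centralizer_singleton_iff.1 (hNH (hPN (mem_zpowers p)))).symm
  have hz := zp_mem oz op zp
  have hEH : ∀ h ∈ H, ∀ x ∈ E, h * x * h⁻¹ ∈ E := by
    rintro h hh _ ⟨x, hx, rfl⟩
    exact ⟨_, (pCore_normal 2 H).conj_mem x hx ⟨h, hh⟩, rfl⟩
  have hEP : ∀ x ∈ E, x ∈ zpowers p → x = 1 := fun x h1 h2 => by
    have a := orderOf_dvd_natCard (⟨x, h1⟩ : E)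
    have b := orderOf_dvd_natCard (⟨x, h2⟩ : zpowers p)
    rw [orderOf_mk] at a b
    rw [hE] at a
    rw [hP] at b
    exact orderOf_eq_one_iff.1 (Nat.eq_one_of_dvd_coprimes (by norm_num) a b)
  have hzE : z ∈ E := (hC.ge (mem_zpowers z)).1
  have hsup : N ≤ zpowers p ⊔ E := by
    have h1 : E.relIndex N = 3 := by
      have := (E.subgroupOf N).index_mul_card
      rwa [Nat.card_congr (subgroupOfEquivOfLe hEN).toEquiv, hN, mul_left_inj' Nat.card_pos.ne'] at this
    have h2 := relIndex_mul_relIndex E (zpowers p ⊔ E) N le_sup_right (sup_le hPN hEN)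
    rw [h1] at h2
    rcases (Nat.dvd_prime Nat.prime_three).1 (Dvd.intro_left _ h2) with h3 | h3
    · exact relIndex_eq_one.1 h3
    · rw [h3] at h2
      have h4 := hEP p (relIndex_eq_one.1 (show E.relIndex (zpowers p ⊔ E) = 1 by omega) (mem_sup_left (mem_zpowers p))) (mem_zpowers p)
      rw [h4, orderOf_one] at op
      omega
  refine ⟨p, (e.toMonoidHom.comp (QuotientGroup.mk' _)).comp (inclusion inf_le_left), oz, op, rfl, zp, fun a => ?_,
    fun x => ?_, hne⟩
  · obtain ⟨y, rfl⟩ := e.surjective a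
    obtain ⟨y, rfl⟩ := QuotientGroup.mk_surjective y
    obtain ⟨g, hg, h1⟩ := exists_conj_mem_sylow (j := 1) (k := 1) Nat.prime_three hPN hP (hN.trans (by rw [hE]))
      (by norm_num) ((mem_normalizer_iff.1 (hHN y.2) p).1 (hPN (mem_zpowers p)))
      (by rw [pow_one, conj_pow, ← op, pow_orderOf_eq_one]; group)
    refine ⟨⟨g * y, H.mul_mem (hNH hg) y.2, mem_normalizer_zpowers (by simpa [mul_assoc] using h1)⟩, congrArg e ?_⟩
    refine QuotientGroup.eq.2 (mem_subgroupOf.2 ?_)
    simpa [mul_assoc] using (mem_normalizer_iff.1 (hHN (H.inv_mem y.2)) _).1 (N.inv_mem hg)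
  · rw [MonoidHom.comp_apply, MonoidHom.comp_apply, MulEquiv.coe_toMonoidHom, e.map_eq_one_iff, QuotientGroup.mk'_apply,
      QuotientGroup.eq_one_iff, mem_subgroupOf, coe_inclusion]
    refine ⟨fun hx => ?_, fun hx => (zpowers_le.2 (N.mul_mem (hEN hzE) (hPN (mem_zpowers p)))) hx⟩
    have h1 : (x : G) ∈ ((zpowers p ⊔ E : Subgroup G) : Set G) := hsup hx
    rw [coe_mul_of_left_le_normalizer_right _ _ (fun y hy => mem_normalizer_fintype (hEH y (hNH (hPN hy))))] at h1
    obtain ⟨a, ha, b, hb, hab⟩ := h1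
    have h2 : b ∈ normalizer (zpowers p : Set G) := by
      have := (normalizer (zpowers p : Set G)).mul_mem ((normalizer _).inv_mem (le_normalizer ha)) x.2.2
      rwa [← hab, inv_mul_cancel_left] at this
    have h3 := hEP (b * p * b⁻¹ * p⁻¹) (by
      simpa [mul_assoc] using E.mul_mem hb (hEH p (hNH (hPN (mem_zpowers p))) _ (E.inv_mem hb)))
      ((zpowers p).mul_mem ((mem_normalizer_iff.1 h2 p).1 (mem_zpowers p)) ((zpowers p).inv_mem (mem_zpowers p)))
    have h4 : b ∈ zpowers z := hC.le (mem_inf.2 ⟨hb, by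
      rw [centralizer_zpowers, mem_centralizer_singleton_iff, ← mul_inv_eq_iff_eq_mul, ← mul_inv_eq_one]; exact h3⟩)
    rw [← hab]
    exact (zpowers _).mul_mem (zpowers_le.2 hz.2 ha) (zpowers_le.2 hz.1 h4)

variable {p : G} {φ : ↥(centralizer ({z} : Set G) ⊓ normalizer (P : Set G)) →* MulAut M22} (h : Ab3 z p P φ)
include h

theorem Ab3.ord : orderOf (z * p) = 6 := by
  rw [h.zp.orderOf_mul_eq_mul_orderOf_of_coprime (by rw [h.oz, h.op]; norm_num), h.oz, h.op]

theorem Ab3.zle : zpowers (z * p) ≤ centralizer ({z} : Set G) ⊓ centralizer (P : Set G) := by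
  rw [zpowers_le, h.hP, centralizer_zpowers]
  exact ⟨mem_centralizer_singleton_iff.2 ((Commute.refl z).mul_left h.zp.symm),
    mem_centralizer_singleton_iff.2 (h.zp.mul_left (Commute.refl p))⟩

omit h [Finite G] in
theorem cle : centralizer ({z} : Set G) ⊓ centralizer (P : Set G) ≤ centralizer ({z} : Set G) ⊓ normalizer (P : Set G) :=
  inf_le_inf_left _ (centralizer_le_normalizer _)

theorem Ab3.ker_eq : φ.ker = (zpowers (z * p)).subgroupOf _ := Subgroup.ext h.ker

theorem Ab3.cardX : Nat.card ↥(centralizer ({z} : Set G) ⊓ normalizer (P : Set G)) = 6 * 887040 := by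
  rw [← card_ker_mul φ, MonoidHom.range_eq_top.2 h.surj, card_top, card_autM22, h.ker_eq,
    Nat.card_congr (subgroupOfEquivOfLe (h.zle.trans cle)).toEquiv, Nat.card_zpowers, h.ord]

omit h in
theorem idx_dvd {X : Subgroup G} (hX : X ≤ normalizer (P : Set G)) (hP : Nat.card P = 3) :
    (centralizer (P : Set G)).relIndex X ∣ 2 := by
  have : Fact (Nat.Prime 3) := ⟨Nat.prime_three⟩
  have := isCyclic_of_prime_card hP
  have h1 := card_subgroup_dvd_card (P.normalizerMonoidHom.comp (inclusion hX)).range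
  rw [IsCyclic.card_mulAut, hP, ← index_ker, ← MonoidHom.comap_ker, normalizerMonoidHom_ker] at h1
  exact h1

theorem Ab3.cardP : Nat.card P = 3 := by rw [h.hP, Nat.card_zpowers, h.op]

theorem Ab3.idx : ((centralizer ({z} : Set G) ⊓ centralizer (P : Set G)).subgroupOf
    (centralizer ({z} : Set G) ⊓ normalizer (P : Set G))).index = 2 := by
  have h1 := idx_dvd (X := centralizer ({z} : Set G) ⊓ normalizer (P : Set G)) inf_le_right h.cardP
  rw [← inf_relIndex_right, inf_left_comm, inf_of_le_left (centralizer_le_normalizer _)] at h1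
  exact ((Nat.dvd_prime Nat.prime_two).1 h1).resolve_left fun e => h.ne (le_antisymm (relIndex_eq_one.1 e) cle)

theorem Ab3.cardC : Nat.card ↥(centralizer ({z} : Set G) ⊓ centralizer (P : Set G)) = 6 * 443520 := by
  have := card_mul_index ((centralizer ({z} : Set G) ⊓ centralizer (P : Set G)).subgroupOf
    (centralizer ({z} : Set G) ⊓ normalizer (P : Set G)))
  rw [h.idx, h.cardX, Nat.card_congr (subgroupOfEquivOfLe cle).toEquiv] at this
  omega

theorem Ab3.exθ : ∃ θ : ↥(centralizer ({z} : Set G) ⊓ centralizer (P : Set G)) →* M22, Function.Surjective θ ∧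
    ∀ x, θ x = 1 ↔ x.1 ∈ zpowers (z * p) := by
  have h1 : (φ.comp (inclusion cle)).range = Inn M22 := by
    rw [MonoidHom.range_comp, inclusion_range]
    exact eq_inn ((index_map_eq _ h.surj (by rw [h.ker_eq]; exact comap_mono h.zle)).trans h.idx)
  refine ⟨((MulEquiv.subgroupCongr h1).trans (MonoidHom.ofInjective conj_inj).symm).toMonoidHom.comp
    (φ.comp (inclusion cle)).rangeRestrict, ((MulEquiv.subgroupCongr h1).trans (MonoidHom.ofInjective conj_inj).symm).surjective.comp
      (φ.comp (inclusion cle)).rangeRestrict_surjective, fun x => ?_⟩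
  rw [MonoidHom.comp_apply, MulEquiv.coe_toMonoidHom, MulEquiv.map_eq_one_iff, Subtype.ext_iff]
  exact h.ker _

theorem Ab3.center_eq : center ↥(centralizer ({z} : Set G) ⊓ centralizer (P : Set G)) = (zpowers (z * p)).subgroupOf _ := by
  obtain ⟨θ, h1, h2⟩ := h.exθ
  refine le_antisymm (fun x hx => (h2 x).1 (mem_bot.1 (center_M22 ▸ mem_center_iff.2 fun y => ?_))) fun x hx => ?_
  · obtain ⟨y, rfl⟩ := h1 y
    rw [← map_mul, ← map_mul, mem_center_iff.1 hx]
  · refine mem_center_iff.2 fun y => Subtype.ext ?_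
    obtain ⟨n, hn⟩ := mem_subgroupOf.1 hx
    have h3 : Commute y.1 p := y.2.2 p (h.hP ▸ mem_zpowers p) |>.symm
    have h4 : Commute y.1 z := mem_centralizer_singleton_iff.1 y.2.1
    have h5 := (h4.mul_right h3).zpow_right n
    rw [show (z * p) ^ n = x.1 from hn] at h5
    exact h5

theorem Ab3.main (hz : zpowers (z * p) ≤ ⁅centralizer ({z} : Set G) ⊓ centralizer (P : Set G),
    centralizer ({z} : Set G) ⊓ centralizer (P : Set G)⁆) :
    ⁅centralizer ({z} : Set G) ⊓ centralizer (P : Set G), centralizer ({z} : Set G) ⊓ centralizer (P : Set G)⁆ =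
      centralizer ({z} : Set G) ⊓ centralizer (P : Set G) ∧
    IsCyclic (center ↥(centralizer ({z} : Set G) ⊓ centralizer (P : Set G))) ∧
    Nat.card (center ↥(centralizer ({z} : Set G) ⊓ centralizer (P : Set G))) = 6 ∧
    IsoM22 (↥(centralizer ({z} : Set G) ⊓ centralizer (P : Set G)) ⧸
      center ↥(centralizer ({z} : Set G) ⊓ centralizer (P : Set G))) := by
  obtain ⟨θ, h1, h2⟩ := h.exθ
  have h3 : θ.ker = center _ := (Subgroup.ext h2).trans h.center_eq.symm
  have e := subgroupOfEquivOfLe h.zle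
  rw [← h.center_eq] at e
  refine ⟨?_, isCyclic_of_injective e.toMonoidHom e.injective, by rw [Nat.card_congr e.toEquiv, Nat.card_zpowers, h.ord],
    ⟨(QuotientGroup.quotientMulEquivOfEq h3.symm).trans (QuotientGroup.quotientKerEquivOfSurjective θ h1)⟩⟩
  rw [← map_subtype_commutator] at hz ⊢
  have h4 : θ.ker ≤ commutator _ := fun x hx => by
    obtain ⟨y, hy, e⟩ := hz ((h2 x).1 hx)
    exact Subtype.ext e ▸ hy
  have h5 : (commutator _).map θ = ⊤ := by
    rw [commutator_def, map_commutator, map_top_of_surjective _ h1, ← commutator_def, comm_M22]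
  rw [← comap_map_eq_self h4, h5, comap_top, ← MonoidHom.range_eq_map, range_subtype]

end Cfsg.Agent.J4F
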