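import Cfsg.Agent.J4F.Abs
import Cfsg.Agent.J4F.Tr

/-! Sylow 3-subgroups of `M₂₄` and `Aut(M₂₂)` (helper16). -/

set_option autoImplicit false
set_option maxRecDepth 100000
set_option exponentiation.threshold 100000

namespace Cfsg.Agent.J4F
open Subgroup Cfsg.Agent.Comp Cfsg.Agent.Golay Cfsg.Agent.J4T Cfsg.Spor
open scoped Pointwise commutatorElement

abbrev RD : ℕ → D22 → Prop := PRep EG 5 31

def inD (c : ℕ) : Bool := bor (in22 c) (band (inM24 c) (band (Nat.beq (get24 c 0) 23) (Nat.beq (get24 c 23) 0)))

theorem codesD {L : List ℕ} (h : allL L inD = true) : CodesIn RD L ⊤ := fun c hc => by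
  have h1 := allL_iff.1 h c hc
  simp only [inD, bor_eq, Bool.or_eq_true, band_eq, Bool.and_eq_true, nbeq] at h1
  rcases h1 with h1 | ⟨h1, h2, h3⟩
  · obtain ⟨g, hg, e⟩ := codes22 (L := [c]) (by simp [allL_iff, h1]) c List.mem_cons_self
    exact ⟨⟨g, M22_le_D22 hg⟩, trivial, e⟩
  · obtain ⟨e, hg⟩ := inM24_spec h1
    exact ⟨⟨_, mem_D22 hg ((e.smul_dec (i := 0) (by decide)).trans (congrArg EG.dec h2))
      ((e.smul_dec (i := 23) (by decide)).trans (congrArg EG.dec h3))⟩, trivial, e⟩

def tS9 : List (ℕ × List ℕ) := [(2, [984818244535754528103549039458486304, 979646233220020017362574812877825056, 983376930445522768150234202447692832, 983397767491066483263567635668906336, 979666199220026095826531959540128352, 984797248878772350698553134708036960, 983377881067345408093349721707002464, 984796377446463346003662565552569952, 979644252632112261722103576063519072])]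
def tN9 : List (ℕ × List ℕ) := [(2, [984818244535754528103549039458486304, 10672802619153106174086080108839991, 960725041554490912794177675364833536, 979625635716138325955160962816418848, 959462223911123468076937949752235264, 960719773036566420356430499059282144, 972565755202433433835310000580373120, 980097465420496776264383790375484064, 984796377446463346003662565552569952]), (5, [984818244535754528103549039458486304, 2095757533758823223633333684079031, 17225281453758255096025682200856631, 1767406162701104643884410372524471, 17163484415615086638714852219684919, 960723536567944995524873364024396192, 961409353956809334627213921435158944, 984674686509231270848998217272133664]), (0, [984818244535754528103549039458486304, 29312703359478866577084091578288279])]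

def S9 : Subgroup D22 := closure (genSet RD (flatT tS9))
instance finD : Finite D22 := Nat.finite_of_card_ne_zero (by rw [card_D22]; decide)
theorem codes_S9 : CodesIn RD (flatT tS9) S9 := (codesD (by decide +kernel)).closure
theorem card_S9 : Nat.card S9 = 9 := card_closure_of_ss par24 tS9 (codesD (by decide +kernel)) (by decide +kernel)
theorem lists_S9 : Lists (CRep EG 5 31) (prodL mul24 tS9 one24 []) S9 :=
  lists_of_trans par24 tS9 codes_S9.of_flatT card_S9 (by decide +kernel)

theorem free_S9 (x : GolayPt) : x ∈ EG.ofMask 185956 ↔ ∀ s ∈ S9, s • x = x → s = 1 := by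
  obtain ⟨i, hi, rfl⟩ := EG.exists_dec x
  have G := isGrp_CRep (G := D22) EG par24
  have C := isCanon_CRep (G := D22) EG par24
  rw [EG.mem_ofMask, EG.enc_dec i hi]
  constructor
  · intro h s hs e
    obtain ⟨c, hc, h1⟩ := lists_S9.forall (f := fun c => bor (Nat.beq c one24) (allLt 24 fun i =>
      not (band (tb 185956 i) (Nat.beq (get24 c i) i)))) (by decide +kernel) hs
    simp only [bor_eq, Bool.or_eq_true, nbeq, allLt_iff, band_eq, tb_eq] at h1
    rcases h1 with rfl | h1
    · exact C.func hc G.one
    · simpa [h, (CRep.fix_iff hc.1 hi).1 e] using h1 i hi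
  · intro h
    by_contra h'
    have h1 := allLt_iff.1 (show allLt 24 (fun i => bor (tb 185956 i) (anyL (flatT tS9) fun c =>
      band (Nat.beq (get24 c i) i) (not (Nat.beq (get24 c 2) 2)))) = true by decide +kernel) i hi
    simp only [bor_eq, Bool.or_eq_true, tb_eq, h', anyL_iff, band_eq, Bool.and_eq_true, false_or] at h1
    obtain ⟨c, hc, h2, h3⟩ := h1
    obtain ⟨g, hg, e⟩ := codes_S9 c hc
    rw [h g hg ((CRep.fix_iff e hi).2 h2)] at e
    simp [(CRep.fix_iff e (i := 2) (by decide)).1 (one_smul _ _)] at h3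

theorem card_N9 : Nat.card (normalizer (S9 : Set D22)) = 144 := by
  have G := isGrp_PRep (G := D22) EG par24
  have h1 : closure (genSet RD (flatT tN9)) ≤ normalizer (S9 : Set D22) := by
    rw [closure_le]
    rintro g ⟨c, hc, e⟩
    refine mem_normalizer_closure ?_
    rintro t ⟨a, ha, e'⟩
    obtain ⟨y, hy, e2⟩ := codes_S9 _ (memL_iff.1 (allL_iff.1 (allL_iff.1 (show allL (flatT tN9) (fun c => allL (flatT tS9) fun a =>
      memL (conjC mul24 inv24 c a) (flatT tS9)) = true by decide +kernel) c hc) a ha))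
    exact (G.conj e e').unique e2 ▸ hy
  have h2 := card_dvd_of_le h1
  rw [card_closure_of_ss (N := 144) par24 tN9 (codesD (by decide +kernel)) (by decide +kernel)] at h2
  have h3 : normalizer (S9 : Set D22) ≤ ⊤ ⊓ MulAction.stabilizer D22 (EG.ofMask 185956) := fun g hg => ⟨trivial, by
    ext x
    rw [← Finset.inv_smul_mem_iff, free_S9, free_S9]
    refine ⟨fun h s hs e => ?_, fun h s hs e => ?_⟩
    · exact conj_eq_one_iff.1 (by simpa using h _ (inv_conj_mem_of_normalizer hg s hs) (by simp [mul_smul, e]) :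
        g⁻¹ * s * g⁻¹⁻¹ = 1)
    · simpa using h _ ((mem_normalizer_iff.1 hg s).1 hs) (by rw [mul_smul, mul_smul, e, smul_inv_smul])⟩
  have h4 := card_le_of_le h3
  have h5 := card_eq_ncard_orbit_mul (⊤ : Subgroup D22) (EG.ofMask 185956)
  have h6 := (keyedMask EG 5 31 D22).le_ncard_orbitH (K := ⊤) (L := J4T.gD) (a := 185956) (codesD (by decide +kernel))
    ⟨by decide, rfl⟩ (fun a => Nat.mod a 6007) 5000
  have h7 := (nble.1 (show Nat.ble 3100 _ = true by decide +kernel)).trans h6
  rw [card_top, card_D22] at h5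
  obtain ⟨k, hk⟩ := h2
  have : 0 < Nat.card (normalizer (S9 : Set D22)) := Nat.card_pos
  have := Nat.mul_le_mul h7 h4
  omega

theorem card_norm9 (S : Sylow 3 (MulAut M22)) : Nat.card (normalizer ((S : Subgroup (MulAut M22)) : Set (MulAut M22))) = 144 := by
  have : Fact (Nat.Prime 3) := ⟨Nat.prime_three⟩
  obtain ⟨T, hT⟩ := sylow_mp' (MulEquiv.ofBijective _ conjD_bijective) S
  obtain ⟨g, hg⟩ := exists_conj_sylow (k := 2) card_S9 card_D22 (by norm_num) T
  rw [hT, mp_norm, mp_card, ← hg, ← map_conj_normalizer, card_map_conj, card_N9]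

theorem es_of_two {G : Type*} [Group G] [Finite G] {a b : G} (h3 : ∀ g : G, g ^ 3 = 1) (h4 : ⁅a, b⁆ ≠ 1)
    (ha : a * ⁅a, b⁆ = ⁅a, b⁆ * a) (hb : b * ⁅a, b⁆ = ⁅a, b⁆ * b) (hc : Nat.card G = 3 ^ 3) :
    IsExtraspecial 3 G ∧ Monoid.exponent G = 3 := by
  have : Fact (Nat.Prime 3) := ⟨Nat.prime_three⟩
  have h6 : ⁅b, a⁆ = ⁅a, b⁆⁻¹ := by rw [commutatorElement_inv]
  have : Nontrivial G := ⟨_, _, h4⟩
  refine ⟨(ES_of_symp (z := ⁅a, b⁆) (g := ![a, b]) (orderOf_eq_prime (h3 _) h4) ?_ ?_ (fun i => by simp [h3]) ?_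
    hc).1, (Monoid.exponent_eq_prime_iff Nat.prime_three).2 fun g hg => orderOf_eq_prime (h3 g) hg⟩
  · intro i
    fin_cases i
    exacts [ha, hb]
  · intro i j
    fin_cases i <;> fin_cases j
    exacts [(commutatorElement_self a).symm ▸ one_mem _, mem_zpowers _, h6 ▸ inv_mem (mem_zpowers _),
      (commutatorElement_self b).symm ▸ one_mem _]
  · intro j
    fin_cases j
    · refine ⟨1, fun e => h4 (inv_eq_one.1 (h6 ▸ e)), fun k hk => ?_⟩
      fin_cases k
      exacts [absurd rfl hk, commutatorElement_self b]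
    · refine ⟨0, h4, fun k hk => ?_⟩
      fin_cases k
      exacts [commutatorElement_self a, absurd rfl hk]

theorem P3_es : IsExtraspecial 3 P3 ∧ Monoid.exponent P3 = 3 := by
  have G := grpCM.subgroup P3
  have C := canCM.subgroup P3
  have hc : CodesIn CM (flatT tP3) P3 := (codesM (by decide +kernel)).closure.toCRep (by decide +kernel)
  obtain ⟨x, h1, h2⟩ := grpCM.exists_elts hc
  let y (i : ℕ) : P3 := ⟨x i, h1 i⟩
  have key (u v : List ℕ) : wordG y u = wordG y v ↔ evalW mul24 inv24 one24 (flatT tP3) u = evalW mul24 inv24 one24 (flatT tP3) v :=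
    C.eq_iff (G.evalW (x := y) h2 u) (G.evalW (x := y) h2 v)
  have k1 := (key [2, 8, 3, 9] []).not.2 (by decide +kernel)
  have k2 := (key [2, 2, 8, 3, 9] [2, 8, 3, 9, 2]).2 (by decide +kernel)
  have k3 := (key [8, 2, 8, 3, 9] [2, 8, 3, 9, 8]).2 (by decide +kernel)
  clear_value y
  refine es_of_two (a := y 1) (b := y 4) (fun g => ?_) ?_ ?_ ?_ card_P3
  · obtain ⟨c, hc, e⟩ := lists_P3.forall (f := fun c => Nat.beq (powC mul24 one24 c 3) one24) (by decide +kernel) g.2
    exact C.func (nbeq.1 e ▸ G.pow (g := g) hc 3) G.one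
  · simpa [wordG, letterG, commutatorElement_def, mul_assoc] using k1
  · simpa [wordG, letterG, commutatorElement_def, mul_assoc] using k2
  · simpa [wordG, letterG, commutatorElement_def, mul_assoc] using k3

end Cfsg.Agent.J4F
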