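import Cfsg.Agent.J4F.Gd
import Cfsg.Agent.J4F.D3
import Cfsg.Agent.J4T.CT

/-! Elements of order three of `J₄` (helper16). -/

set_option autoImplicit false
set_option maxRecDepth 100000
set_option exponentiation.threshold 100000

namespace Cfsg.Agent.J4F
open Subgroup Cfsg.Agent.Comp Cfsg.Agent.Golay Cfsg.Agent.J4T Cfsg.Agent.J4T.C
open Cfsg.Agent.Spor (ev getL genL genW seq seq_eq)
open scoped Pointwise commutatorElement

theorem conj_PD {D : ℕ} {g : J} (hD : RJ D g) {u v : List ℕ} {a b : ℕ} {x y : K} (ha : RK a x) (hb : RK b y)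
    (wa wb : List ℕ) (h : band (prOK D (wa, wb)) (band (Nat.beq (kmul (kc u) (kc wa)) (kmul a (kc u)))
      (Nat.beq (kmul (kc wb) (kc v)) (kmul (kc v) b))) = true) :
    ι x * (ι (kw u) * g * ι (kw v)) = (ι (kw u) * g * ι (kw v)) * ι y := by
  simp only [band_eq, Bool.and_eq_true] at h
  have h1 := mem_PD.1 (pr_mem hD h.1)
  have h2 := mdK.func (congr_beq (mdK.mul (RK_kw u) (RK_kw wa)) h.2.1) (mdK.mul ha (RK_kw u))
  have h3 := mdK.func (congr_beq (mdK.mul (RK_kw wb) (RK_kw v)) h.2.2) (mdK.mul (RK_kw v) hb)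
  rw [← mul_assoc, ← mul_assoc, ← map_mul, ← h2, map_mul, mul_assoc (ι (kw u)), h1, mul_assoc, mul_assoc, ← map_mul, h3,
    map_mul]
  group

theorem norm_fix {p : ℕ} (hp : p.Prime) (h2 : p ≠ 2) {t c : K} (ho : orderOf t = p)
    (hc : c ∈ normalizer (zpowers t : Set K)) : π c • fixS (π t) = fixS (π t) := by
  have h1 := order_π hp h2 ho
  rw [← fixS_conj, ← map_inv, ← map_mul, ← map_mul]
  refine fixS_eq_of_prime (by rwa [h1]) (by
    rw [← MonoidHom.map_zpowers]; exact ⟨_, (mem_normalizer_iff.1 hc t).1 (mem_zpowers t), rfl⟩) fun e => ?_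
  rw [map_mul, map_mul, map_inv, conj_eq_one_iff] at e
  rw [e, orderOf_one] at h1
  exact hp.one_lt.ne h1

theorem comm_of_mask {c v : K} (hv : v ∈ V) {s : ℕ} (hs : s < 2 ^ 24) (e : sy v = syn s)
    (h : π c • EG.ofMask s = EG.ofMask s) : c * v = v * c := by
  obtain ⟨a, ha⟩ := exC (π c)
  rw [← mul_inv_eq_iff_eq_mul]
  refine ext_K ((π_V (V_normal.conj_mem _ hv _)).trans (π_V hv).symm) ?_
  rw [sy_conj ha.1 hv, e, act_syn ha.1 hs]
  exact congrArg syn (EG.ofMask_inj (ha.1.imgP_lt s) hs ((ha.1.smul_ofMask s).symm.trans h))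

def w13 : List ℕ := [2, 0, 1, 0, 2, 0, 2, 0, 2, 0, 2, 0, 1, 0, 2, 0, 1, 0, 1, 0, 2, 0, 2, 0, 1, 0, 2, 0, 2, 0, 2, 0, 2, 0, 1,
  0, 2, 0, 2, 0, 2, 0, 2, 0, 1]
noncomputable def t3 : K := ev Spor.J4L.yK (cuw ++ w13 ++ cuw')
def c3 : ℕ := 2842775084104582927925880921446305529856
theorem RK_t3 : RK c3 t3 := RK_ev (by decide +kernel)
theorem Y13_eq : Y 13 = ι t3 := Y_K w13 (by decide +kernel)
theorem ord_t3 : orderOf t3 = 3 := mdK.order RK_t3 Nat.prime_three (by decide +kernel)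

theorem h0_3 : ∀ c ∈ normalizer (zpowers t3 : Set K), ι c ∈ H0 := fun c hc => by
  have h := norm_fix Nat.prime_three (by decide) ord_t3 hc
  rw [fixS_eq (s := 6436864) RK_t3.1.1 (by decide +kernel)] at h
  exact mem_H0.2 (mem_centralizer_singleton_iff.2 (comm_of_mask v0_mem (by decide)
    (RK_v0.2.symm.trans (by decide +kernel)) h))

theorem g3_1 : ∀ r, Gn (d 1) t3 H0 r :=
  gn_syl (k := 2) (n := 33030144) (by decide) RK_t3 Nat.prime_three (by decide) ord_t3 h0_3
    [([12, 6, 9, 7, 9, 14, 0], [12, 6, 9, 7, 9, 14, 0]), ([8, 6, 9, 2, 14, 7, 1, 5], [8, 6, 9, 2, 14, 7, 1, 5])]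
    [[], [0], [1], [0, 0], [0, 1], [1, 1], [0, 0, 1], [0, 1, 1], [0, 0, 1, 1]] [([6, 8, 6, 15, 0], [0, 14, 7, 9, 7])]
    (fun x hx => by
      obtain rfl := List.mem_singleton.1 hx
      exact mem_centralizer_singleton_iff.2 (conj_PD (rDA 1 (by decide)) RK_v0 RK_v0 [17, 20, 21, 23, 25, 26]
        [17, 20, 21, 23, 25, 26] (by decide +kernel)).symm) (by decide) (by norm_num) (by decide +kernel) (by decide +kernel)

theorem g3_2 : ∀ r, Gn (d 2) t3 H0 r :=
  gn_syl (k := 2) (n := 147456) (by decide) RK_t3 Nat.prime_three (by decide) ord_t3 h0_3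
    [([9, 4, 13, 9, 5, 1, 12, 16, 17, 19, 20, 21, 24, 26], [2, 4, 4, 13, 13, 0, 12, 5, 17, 18, 20, 21, 26]), ([10, 2, 6, 10, 13, 14, 6, 8, 16, 17, 19, 21, 22, 23, 24, 26], [0, 15, 4, 14, 0, 9, 14, 17, 19, 20, 21, 23, 24, 26])]
    [[], [0], [1], [0, 0], [0, 1], [1, 1], [0, 0, 1], [0, 1, 1], [0, 0, 1, 1]] []
    (by simp) (by decide) (by norm_num) (by decide +kernel) (by decide +kernel)

theorem g3_3 : ∀ r, Gn (d 3) t3 H0 r :=
  gn_syl (k := 1) (n := 15360) (by decide) RK_t3 Nat.prime_three (by decide) ord_t3 h0_3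
    [([14, 5, 2, 10, 12, 14, 19, 21, 23, 25, 26], [12, 7, 0, 8, 6, 15, 11, 19, 20, 21, 22, 23, 24, 25])]
    [[], [0], [0, 0]] []
    (by simp) (by decide) (by norm_num) (by decide +kernel) (by decide +kernel)

theorem g3_4 : ∀ r, Gn (d 4) t3 H0 r :=
  gn_syl (k := 3) (n := 17694720) (by decide) RK_t3 Nat.prime_three (by decide) ord_t3 h0_3
    [([0, 6, 10, 13, 7, 7, 8, 15, 16, 18, 24], [0, 13, 15, 5, 0, 6, 1, 15, 16, 18, 21, 25]), ([11, 9, 12, 15, 4, 11, 5, 17, 20, 22, 23, 25], [1, 12, 5, 9, 11, 9, 6, 6, 16, 17, 18, 20, 24, 25]), ([0, 5, 14, 12, 4, 11, 7, 12, 20, 22, 24, 25], [0, 8, 11, 7, 5, 11, 14, 5, 16, 17, 19, 20, 21, 22, 23, 25, 26])]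
    [[], [0], [1], [2], [0, 0], [0, 1], [0, 2], [1, 1], [1, 2], [2, 0], [2, 2], [0, 0, 1], [0, 0, 2], [0, 1, 1], [0, 1, 2], [0, 2, 0], [0, 2, 2], [1, 1, 2], [1, 2, 2], [2, 0, 0], [2, 0, 2], [2, 2, 0], [0, 0, 1, 1], [0, 0, 2, 2], [0, 2, 0, 2], [0, 2, 2, 0], [1, 1, 2, 2]] [([2, 11, 9, 11, 11, 0, 20, 24], [11, 14, 12, 7, 17, 19])]
    (fun x hx => by
      obtain rfl := List.mem_singleton.1 hx
      exact mem_centralizer_singleton_iff.2 (conj_PD (rDA 4 (by decide)) RK_v0 RK_v0 [16, 17, 19, 21, 23, 25, 26]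
        [16, 17, 19, 21, 23, 25, 26] (by decide +kernel)).symm) (by decide) (by norm_num) (by decide +kernel) (by decide +kernel)

theorem g3_5 : ∀ r, Gn (d 5) t3 H0 r :=
  gn_syl (k := 2) (n := 9216) (by decide) RK_t3 Nat.prime_three (by decide) ord_t3 h0_3
    [([4, 12, 6, 6, 14, 11, 11, 16, 19, 21, 22, 25], [1, 8, 13, 9, 15, 11, 5, 10, 20, 21, 23, 25, 26]), ([0, 2, 4, 12, 7, 5, 0, 5, 16, 20, 22, 23, 26], [2, 5, 6, 8, 1, 14, 9, 4, 19, 20, 22, 24])]
    [[], [0], [1], [0, 0], [0, 1], [1, 1], [0, 0, 1], [0, 1, 1], [0, 0, 1, 1]] []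
    (by simp) (by decide) (by norm_num) (by decide +kernel) (by decide +kernel)

theorem g3_6 : ∀ r, Gn (d 6) t3 H0 r :=
  gn_syl (k := 1) (n := 6072) (by decide) RK_t3 Nat.prime_three (by decide) ord_t3 h0_3
    [([8, 7, 10, 8, 4, 4, 18, 21, 22, 24], [0, 12, 11, 12, 9, 10, 13, 11, 18, 19, 23, 24, 25, 26])]
    [[], [0], [0, 0]] []
    (by simp) (by decide) (by norm_num) (by decide +kernel) (by decide +kernel)

theorem norm_P0 : normalizer (P0 : Set J) ≤ H0 := by
  rw [P0, Y13_eq]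
  refine norm_le fun i hi => ?_
  interval_cases i
  exacts [d0 ▸ gn_one h0_3, g3_1, g3_2, g3_3, g3_4, g3_5, g3_6]

theorem conj3 {a b : K} (ha : orderOf a = 3) (hb : orderOf b = 3) (h : nf a = 0 ↔ nf b = 0) : IsConj a b := by
  have h1 := order_π Nat.prime_three (by decide) ha
  have h2 := order_π Nat.prime_three (by decide) hb
  rw [nf, nf, Finset.card_eq_zero, Finset.card_eq_zero] at h
  obtain ⟨u, hu⟩ : ∃ u : MG, u * π a * u⁻¹ = π b := by
    by_cases e : fixS (π a) = ∅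
    · obtain ⟨u, hu⟩ := conj_x3B h1 e
      obtain ⟨v, hv⟩ := conj_x3B h2 (h.1 e)
      exact ⟨v * u⁻¹, by rw [← hu, ← hv]; group⟩
    · obtain ⟨u, hu⟩ := conj_x3A h1 e
      obtain ⟨v, hv⟩ := conj_x3A h2 (h.not.1 e)
      exact ⟨v * u⁻¹, by rw [← hu, ← hv]; group⟩
  exact isConj_of_π Nat.prime_three (by decide) (hb ▸ pow_orderOf_eq_one b) (ha ▸ pow_orderOf_eq_one a) hu

theorem three_class {x : J} (h : orderOf x = 3) : IsConj (Y 13) x := by
  obtain ⟨k, hk, e⟩ := elt_conj' Nat.prime_three (by decide) h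
  refine IsConj.trans ?_ e
  rw [Y13_eq]
  have n3 : nf t3 = 6 := (nf_eq RK_t3).trans (by decide +kernel)
  by_cases h0 : nf k = 0
  · have h1 := mem_PD.1 (pr_mem (rDA 2 (by decide)) (w := ([9, 4, 13, 9, 5, 1, 12, 16, 17, 19, 20, 21, 24, 26], [2, 4, 4, 13, 13, 0, 12, 5, 17, 18, 20, 21, 26])) (by decide +kernel))
    refine ((ι.map_isConj (conj3 ord_t3 (mdK.order (RK_kw [9, 4, 13, 9, 5, 1, 12, 16, 17, 19, 20, 21, 24, 26]) Nat.prime_three (by decide +kernel)) ?_)).trans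
      (isConj_iff.2 ⟨(d 2)⁻¹, by rw [mul_assoc, inv_inv, h1, inv_mul_cancel_left]⟩)).trans
      (ι.map_isConj (conj3 (mdK.order (RK_kw [2, 4, 4, 13, 13, 0, 12, 5, 17, 18, 20, 21, 26]) Nat.prime_three (by decide +kernel)) hk ?_))
    · rw [n3, nf_eq (RK_kw _)]; decide +kernel
    · rw [h0, nf_eq (RK_kw _)]; decide +kernel
  · exact ι.map_isConj (conj3 ord_t3 hk (by rw [n3]; simpa using h0))

theorem cent_P0 : H0 ⊓ centralizer (P0 : Set J) = centralizer (P0 : Set J) :=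
  inf_of_le_right ((centralizer_le_normalizer _).trans norm_P0)

theorem cent3 {x : J} (h : orderOf x = 3) : Nat.card (centralizer ({x} : Set J)) = 6 * 443520 := by
  obtain ⟨g, rfl⟩ := isConj_iff.1 (three_class h)
  obtain ⟨p, φ, h⟩ := exists_ab3 isType
  rw [card_centralizer_conj, ← centralizer_zpowers, ← h.cardC]
  exact congrArg (fun S : Subgroup J => Nat.card S) cent_P0.symm

theorem z0_comm : z0 ∈ ⁅centralizer (P0 : Set J), centralizer (P0 : Set J)⁆ := by
  have h {c : ℕ} (h1 : band (okK c) (Nat.beq (kmul c c3) (kmul c3 c)) = true) : ι (el c) ∈ centralizer (P0 : Set J) := by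
    rw [band_eq, Bool.and_eq_true] at h1
    rw [P0, centralizer_zpowers, Y13_eq, mem_centralizer_singleton_iff, ← map_mul, ← map_mul,
      (mdK.comm_iff (RK_el h1.1) RK_t3).2 h1.2]
  have r {a b : ℕ} (h1 : band (okK a) (okK b) = true) : RK (kmul (kmul (kmul a b) (kinv a)) (kinv b)) ⁅el a, el b⁆ := by
    rw [band_eq, Bool.and_eq_true] at h1
    exact mdK.mul (mdK.mul (mdK.mul (RK_el h1.1) (RK_el h1.2)) (grpK.inv (RK_el h1.1))) (grpK.inv (RK_el h1.2))
  have e := mdK.func (congr_beq (mdK.mul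
    (r (a := 4033815529618450547112136865621959904824) (b := 3182376997039426642413221407728220012544) (by decide +kernel))
    (r (a := 4033815529618450547112136865621959901218) (b := 405928620189160009085307083658978041856) (by decide +kernel)))
    (by decide +kernel)) RK_v0
  rw [z0, ← e, map_mul, map_commutatorElement, map_commutatorElement]
  exact mul_mem (commutator_mem_commutator (h (by decide +kernel)) (h (by decide +kernel)))
    (commutator_mem_commutator (h (by decide +kernel)) (h (by decide +kernel)))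

variable {G : Type*} [Group G]

theorem tr3 [Finite G] (f : J ≃* G) {z p : G} {P : Subgroup G} {φ} (h : Ab3 z p P φ) : ∃ f' : J ≃* G, f' z0 = z ∧ mp f' P0 = P := by
  obtain ⟨x, rfl⟩ := f.surjective p
  obtain ⟨g, rfl⟩ := isConj_iff.1 (three_class (x := x) (by rw [← f.orderOf_eq, h.op]))
  rw [show f (g * Y 13 * g⁻¹) = ((MulAut.conj g).trans f) (Y 13) from rfl] at h
  generalize (MulAut.conj g).trans f = f at h
  have hP : mp f P0 = P := by rw [h.hP, mp_zpowers, P0]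
  refine ⟨f, ?_, hP⟩
  have h1 : centralizer ({z} : Set G) ⊓ centralizer (P : Set G) = mp f (centralizer (P0 : Set J)) := by
    refine eq_of_le_of_card_ge (by rw [← mp_cent, hP]; exact inf_le_right) ?_
    rw [h.cardC, mp_card, P0, centralizer_zpowers, cent3 (by rw [Y13_eq, orderOf_injective ι ι_inj, ord_t3])]
  have h2 : z0 ∈ centralizer (P0 : Set J) := by
    rw [P0, centralizer_zpowers]
    exact mem_centralizer_singleton_iff.2 (mem_centralizer_singleton_iff.1 (NN_le w_N)).symm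
  obtain ⟨n, hn⟩ : f z0 ∈ zpowers (z * f (Y 13)) := by
    refine mem_subgroupOf.1 (h.center_eq.le (x := ⟨f z0, h1 ▸ mem_mp'.2 h2⟩) (mem_center_iff.2 fun y => Subtype.ext ?_))
    obtain ⟨a, ha, e⟩ := h1.le y.2
    show y.1 * f z0 = f z0 * y.1
    rw [← e, MulEquiv.coe_toMonoidHom, ← map_mul, ← map_mul, mem_centralizer_singleton_iff.1 (cent_P0.ge ha).1]
  have o2 : orderOf (f z0) = 2 := by rw [f.orderOf_eq, ord_z0]
  have h3 : (z * f (Y 13)) ^ (3 : ℤ) = z := by
    rw [h.zp.mul_zpow, show (3 : ℤ) = (3 : ℕ) from rfl, zpow_natCast, zpow_natCast, pow_succ, ← h.oz, ← h.op,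
      pow_orderOf_eq_one, pow_orderOf_eq_one, one_mul, mul_one]
  have h4 : (6 : ℤ) ∣ n * 2 := by
    have := pow_orderOf_eq_one (f z0)
    rw [o2, ← hn, ← zpow_natCast, ← zpow_mul, ← orderOf_dvd_iff_zpow_eq_one, h.ord] at this
    exact this
  obtain ⟨m, rfl⟩ : 3 ∣ n := by omega
  simp only [zpow_mul, h3] at hn
  have h5 : f z0 ∈ zpowers z := ⟨m, hn⟩
  classical
  rw [mem_zpowers_iff_mem_range_orderOf, h.oz] at h5
  obtain ⟨i, hi, e⟩ := Finset.mem_image.1 h5
  have := Finset.mem_range.1 hi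
  interval_cases i
  · rw [← e, pow_zero, orderOf_one] at o2; omega
  · rw [← e, pow_one]

theorem ισ_inj : Function.Injective (ι.comp σ) := ι_inj.comp σ_inj

theorem mp_conj_self {A : Subgroup G} {x : G} (h : x ∈ normalizer (A : Set G)) : mp (MulAut.conj x) A = A := by
  ext y
  rw [mem_mp, mem_normalizer_iff.1 h]
  simp [mul_assoc]

theorem r65J (R : Sylow 3 J) (hR : (R : Subgroup J) ≤ H0) : IsExtraspecial 3 (R : Subgroup J) ∧ Nat.card (R : Subgroup J) = 27 ∧
    Monoid.exponent (R : Subgroup J) = 3 ∧ normalizer ((R : Subgroup J) : Set J) ≤ H0 ∧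
    Nat.card (normalizer ((R : Subgroup J) : Set J)) = 864 := by
  have : Fact (Nat.Prime 3) := ⟨Nat.prime_three⟩
  have es (A : Subgroup J) (hA : Nat.card A = 3 ^ 3) : IsExtraspecial 3 A ∧ Monoid.exponent A = 3 := by
    obtain ⟨g, hg⟩ := exists_conj_le_sylow (K := ⊤) (k := 3) (P := P3.map (ι.comp σ)) (Q := A) Nat.prime_three le_top le_top
      ((card_map_of_injective ισ_inj).trans card_P3) (card_top.trans cardJ) (by norm_num) (IsPGroup.of_card hA)
    have h1 : mp (MulAut.conj g) A = P3.map (ι.comp σ) := eq_of_le_of_card_ge (by rintro _ ⟨x, hx, rfl⟩; exact hg.2 x hx)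
      (by rw [mp_card, hA, card_map_of_injective ισ_inj, card_P3])
    have e := ((P3.equivMapOfInjective _ ισ_inj).trans (MulEquiv.subgroupCongr h1.symm)).trans (mpE _ A).symm
    exact ⟨extraspecial_tr e P3_es.1, by rw [← Monoid.exponent_eq_of_mulEquiv e, P3_es.2]⟩
  have hc : Nat.card (R : Subgroup J) = 3 ^ 3 := by
    obtain ⟨g, hg⟩ := exists_conj_sylow (P := P3.map (ι.comp σ)) (k := 3)
      ((card_map_of_injective ισ_inj).trans card_P3) cardJ (by norm_num) R
    rw [← hg, card_map_conj, card_map_of_injective ισ_inj, card_P3]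
  refine ⟨(es _ hc).1, hc, (es _ hc).2, ?_⟩
  obtain ⟨p, φ, h⟩ := exists_ab3 isType
  obtain ⟨S⟩ : Nonempty (Sylow 3 ↥(centralizer ({z0} : Set J) ⊓ normalizer (P0 : Set J))) := inferInstance
  have hS : Nat.card S.toSubgroup = 3 ^ 3 := by
    rw [S.card_eq_multiplicity, h.cardX]; decide +kernel
  set R1 := S.toSubgroup.map (centralizer ({z0} : Set J) ⊓ normalizer (P0 : Set J)).subtype with hR1
  have c1 : Nat.card R1 = 3 ^ 3 := (card_map_of_injective (subtype_injective _)).trans hS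
  have l1 : R1 ≤ centralizer ({z0} : Set J) ⊓ normalizer (P0 : Set J) := map_subtype_le _
  obtain ⟨g, hg, h1⟩ := exists_conj_le_sylow (K := H0) (P := R1) Nat.prime_three (l1.trans inf_le_left) hR c1 card_H0
    (by norm_num) R.2
  have h2 : mp (MulAut.conj g) R = R1 := eq_of_le_of_card_ge (by rintro _ ⟨x, hx, rfl⟩; exact h1 x hx)
    (by rw [mp_card, hc, c1])
  suffices key : normalizer (R1 : Set J) ≤ H0 ∧ Nat.card (normalizer (R1 : Set J)) = 864 by
    rw [← h2, mp_norm, mp_card] at key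
    refine ⟨fun x hx => ?_, key.2⟩
    simpa [mul_assoc] using H0.mul_mem (H0.mul_mem (H0.inv_mem hg) (key.1 (mem_mp'.2 hx))) hg
  have := normal_of_index_eq_two h.idx
  have sC : ∀ x ∈ S.toSubgroup, x.1 ∈ centralizer ({z0} : Set J) ⊓ centralizer (P0 : Set J) := fun x hx =>
    mem_subgroupOf.1 (mem_of_pow_eq_one (k := 3 ^ 3) (by rw [h.idx]; norm_num)
      (congrArg Subtype.val (hS ▸ pow_card_eq_one' (x := (⟨x, hx⟩ : S.toSubgroup)))))
  have pS : P0 ≤ R1 := by
    have : (P0.subgroupOf (centralizer ({z0} : Set J) ⊓ normalizer (P0 : Set J))).Normal :=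
      normal_subgroupOf_of_le_normalizer inf_le_right
    have l : P0 ≤ centralizer ({z0} : Set J) ⊓ normalizer (P0 : Set J) := by
      refine le_trans ?_ (h.zle.trans cle)
      rw [h.hP, zpowers_le]; exact (zp_mem h.oz h.op h.zp).2
    rw [← map_subgroupOf_eq_of_le l]
    exact map_mono (IsPGroup.le_sylow_of_normal (N := P0.subgroupOf _) (IsPGroup.of_card (n := 1) h.cardP).comap_subtype S)
  have zR : R1 ⊓ centralizer (R1 : Set J) = P0 := by
    refine (eq_of_le_of_card_ge (le_inf pS ?_) ?_).symm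
    · rw [le_centralizer_iff]
      rintro _ ⟨x, hx, rfl⟩
      exact (sC x hx).2
    · rw [h.cardP, ← (es _ c1).1.2, ← card_map_of_injective (subtype_injective R1)]
      refine card_le_of_le fun x hx => ⟨⟨x, hx.1⟩, mem_center_iff.2 fun y => Subtype.ext (hx.2 y y.2), rfl⟩
  have nX : normalizer (R1 : Set J) ≤ centralizer ({z0} : Set J) ⊓ normalizer (P0 : Set J) := by
    have : normalizer (R1 : Set J) ≤ normalizer (P0 : Set J) := fun x hx => by
      have e : mp (MulAut.conj x) R1 = R1 := mp_conj_self hx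
      refine mem_normalizer_fintype fun y hy => ?_
      rw [← zR, ← e, mp_cent, mp_inf, zR]
      exact mem_mp'.2 hy
    exact le_inf (this.trans norm_P0) this
  refine ⟨nX.trans inf_le_left, ?_⟩
  have e1 : normalizer (S.toSubgroup : Set ↥(centralizer ({z0} : Set J) ⊓ normalizer (P0 : Set J))) = (normalizer ((S.mapSurjective h.surj).toSubgroup : Set (MulAut Cfsg.Spor.M22))).comap φ := by
    refine le_antisymm (map_le_iff_le_comap.1 (le_normalizer_map φ)) fun x hx => mem_normalizer_fintype fun s hs => ?_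
    have h3 : x * s * x⁻¹ ∈ S.toSubgroup ⊔ φ.ker := by
      rw [← comap_map_eq, mem_comap, map_mul, map_mul, map_inv]
      exact (mem_normalizer_iff.1 hx _).1 ⟨s, hs, rfl⟩
    have h4 : S.toSubgroup ⊔ φ.ker ≤ normalizer (S.toSubgroup : Set ↥(centralizer ({z0} : Set J) ⊓ normalizer (P0 : Set J))) := sup_le le_normalizer fun k hk =>
      centralizer_le_normalizer _ fun y hy => Subtype.ext (congrArg Subtype.val (mem_center_iff.1 (h.center_eq.ge
        (x := ⟨k.1, h.zle ((h.ker k).1 hk)⟩) ((h.ker k).1 hk)) ⟨y.1, sC y hy⟩) :)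
    have h5 : IsPGroup 3 (zpowers (x * s * x⁻¹)) := isPGroup_zpowers (j := 3) (by
      rw [conj_pow, show s ^ 3 ^ 3 = 1 from congrArg Subtype.val (hS ▸ pow_card_eq_one' (x := (⟨s, hs⟩ : S.toSubgroup)))]
      group)
    exact (S.3 (h5.to_sup_of_normal_right' S.2 (zpowers_le.2 (h4 h3))) le_sup_right).le (mem_sup_left (mem_zpowers _))
  have e2 := card_mul_index (normalizer (S.toSubgroup : Set ↥(centralizer ({z0} : Set J) ⊓ normalizer (P0 : Set J))))
  have e3 := card_mul_index (normalizer ((S.mapSurjective h.surj).toSubgroup : Set (MulAut Cfsg.Spor.M22)))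
  rw [card_norm9, card_autM22, ← index_comap_of_surjective _ h.surj, ← e1] at e3
  rw [h.cardX] at e2
  rw [← Nat.card_congr (subgroupOfEquivOfLe nX).toEquiv, subgroupOf_normalizer_eq l1, hR1, subgroupOf, 
    comap_map_eq_self_of_injective (subtype_injective _)]
  rw [show index _ = 6160 by omega] at e2
  omega

theorem r65 (f : J ≃* G) (R : Sylow 3 G) (hR : (R : Subgroup G) ≤ centralizer {f z0}) : IsExtraspecial 3 (R : Subgroup G) ∧
    Nat.card (R : Subgroup G) = 27 ∧ Monoid.exponent (R : Subgroup G) = 3 ∧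
    normalizer ((R : Subgroup G) : Set G) ≤ centralizer {f z0} ∧ Nat.card (normalizer ((R : Subgroup G) : Set G)) = 864 := by
  obtain ⟨S, hS⟩ := sylow_mp' f R
  rw [hS, mp_cent1] at hR ⊢
  obtain ⟨h1, h2, h3, h4, h5⟩ := r65J S (mp_le.1 hR)
  rw [mp_norm, mp_card, mp_card, mp_le, ← Monoid.exponent_eq_of_mulEquiv (mpE f _)]
  exact ⟨extraspecial_tr (mpE f _) h1, h2, h3, h4, h5⟩

theorem r63 [Finite G] (f : J ≃* G) {z : G} {P : Subgroup G} (hJ : IsOfJankoFourTypeWith z P) :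
    ⁅centralizer ({z} : Set G) ⊓ centralizer (P : Set G), centralizer ({z} : Set G) ⊓ centralizer (P : Set G)⁆ =
      centralizer ({z} : Set G) ⊓ centralizer (P : Set G) ∧
    IsCyclic (center ↥(centralizer ({z} : Set G) ⊓ centralizer (P : Set G))) ∧
    Nat.card (center ↥(centralizer ({z} : Set G) ⊓ centralizer (P : Set G))) = 6 ∧
    Cfsg.Spor.IsoM22 (↥(centralizer ({z} : Set G) ⊓ centralizer (P : Set G)) ⧸
      center ↥(centralizer ({z} : Set G) ⊓ centralizer (P : Set G))) ∧ normalizer (P : Set G) ≤ centralizer {z} := by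
  obtain ⟨p, φ, h⟩ := exists_ab3 hJ
  obtain ⟨f, hz, hP⟩ := tr3 f h
  have h1 : z ∈ ⁅centralizer ({z} : Set G) ⊓ centralizer (P : Set G), centralizer ({z} : Set G) ⊓ centralizer (P : Set G)⁆ := by
    rw [← hz, ← hP, mp_cent1, mp_cent, mp_inf, mp_comm, mem_mp']
    exact cent_P0.symm ▸ z0_comm
  obtain ⟨a, b, c, e⟩ := h.main (zpowers_le.2 (mul_mem h1 (hJ.2.2.2.2.2.2.2.2 (h.hP ▸ mem_zpowers p))))
  refine ⟨a, b, c, e, ?_⟩
  rw [← hz, ← hP, mp_cent1, mp_norm, mp_le]
  exact norm_P0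

end Cfsg.Agent.J4F
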