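import Cfsg.Agent.J4F.Big
import Cfsg.Agent.J4F.Three
import Cfsg.Agent.J4T.C4

/-! Certificates for centraliser orders and non-conjugacy in `J4` (helper3): orbits of matrices. -/

set_option autoImplicit false
set_option maxRecDepth 100000
set_option exponentiation.threshold 100000

namespace Cfsg.Agent.J4F.Cl
open Cfsg.Agent.Comp Cfsg.Agent.Golay Cfsg.Agent.J4T Cfsg.Agent.J4T.C
open Cfsg.Agent.Spor (ev getL genL genW seq seq_eq rep getL_prop)
open Subgroup

abbrev Mx : Type := Matrix (Fin 112) (Fin 112) (ZMod 2)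
abbrev m2 (A : ℕ) : Mx := M2 112 A

noncomputable def ac4 (m R n : ℕ) : ℕ → ℕ → ℕ → ℕ :=
  Nat.rec (motive := fun _ => ℕ → ℕ → ℕ → ℕ) (fun _ _ s => s)
    (fun _ ih A Y s => seq (Nat.xor (Nat.xor (Nat.xor (Nat.xor s (Nat.mul (Nat.land A m) (Nat.land Y R)))
      (Nat.mul (Nat.land (Nat.shiftRight A 112) m) (Nat.land (Nat.shiftRight Y 1) R)))
      (Nat.mul (Nat.land (Nat.shiftRight A 224) m) (Nat.land (Nat.shiftRight Y 2) R)))
      (Nat.mul (Nat.land (Nat.shiftRight A 336) m) (Nat.land (Nat.shiftRight Y 3) R))) fun s' =>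
      seq (Nat.shiftRight A 448) fun A' => seq (Nat.shiftRight Y 4) fun Y' => ih A' Y' s') n

/-- The product `A * D * Y`, where `D` projects on the first `4 t` coordinates. -/
noncomputable def mk (t A Y : ℕ) : ℕ :=
  seq A fun A => seq Y fun Y => ac4 5192296858534827628530496329220095 (rep 112 112) t A Y 0

theorem acc2_succ (m R n A Y s : ℕ) : acc2 112 m R (n + 1) A Y s =
    acc2 112 m R n (A >>> 112) (Y >>> 1) (s ^^^ (A &&& m) * (Y &&& R)) := by
  show seq (Nat.xor s (Nat.mul (Nat.land A m) (Nat.land Y R))) (fun s' => seq (Nat.shiftRight A 112) fun A' =>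
    seq (Nat.shiftRight Y 1) fun Y' => acc2 112 m R n A' Y' s') = _
  rw [seq_eq, seq_eq, seq_eq]; rfl

theorem ac4_eq (m R n : ℕ) : ∀ A Y s, ac4 m R n A Y s = acc2 112 m R (4 * n) A Y s := by
  induction n with
  | zero => intros; rfl
  | succ n ih =>
    intro A Y s
    rw [show 4 * (n + 1) = 4 * n + 1 + 1 + 1 + 1 by ring, acc2_succ, acc2_succ, acc2_succ, acc2_succ, ← ih]
    simp only [← Nat.shiftRight_add]
    show seq _ (fun s' => seq (Nat.shiftRight A 448) fun A' => seq (Nat.shiftRight Y 4) fun Y' => ac4 m R n A' Y' s') = _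
    rw [seq_eq, seq_eq, seq_eq]; rfl

theorem mk_eq (t A Y : ℕ) : mk t A Y = acc2 112 (2 ^ 112 - 1) (rep 112 112) (4 * t) A Y 0 := by
  rw [mk, seq_eq, seq_eq, ac4_eq]; rfl

def Dn (t : ℕ) : Mx := Matrix.diagonal fun j => if j.val < 4 * t then 1 else 0

theorem m2_mk {t : ℕ} (ht : t ≤ 28) (A Y : ℕ) : m2 (mk t A Y) = m2 A * Dn t * m2 Y := by
  ext i l
  rw [Matrix.mul_apply, mk_eq]
  simp only [Dn, Matrix.mul_diagonal]
  show b2 _ = ∑ j : Fin 112, b2 (A.testBit (112 * j + i)) * _ * b2 (Y.testBit (112 * l + j))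
  rw [acc2_bit i.2, if_pos l.2, ← Finset.sum_range (fun j => b2 (A.testBit (112 * j + i)) *
    (if j < 4 * t then 1 else 0) * b2 (Y.testBit (112 * l + j))), Nat.zero_testBit, show b2 false = 0 from rfl, zero_add]
  refine (Finset.sum_congr rfl fun j hj => ?_).trans (Finset.sum_subset (Finset.range_mono (by omega)) fun j _ hj => ?_)
  · rw [if_pos (Finset.mem_range.1 hj), mul_one]
  · rw [if_neg (by simpa using hj), mul_zero, zero_mul]

theorem mk_lt (t A Y : ℕ) : mk t A Y < 2 ^ (112 * 112) := by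
  refine lt_of_bits (fun l i hl hi => b2_inj ?_) (by omega)
  rw [mk_eq, acc2_bit hi, if_neg (by omega)]
  simp [b2]

noncomputable abbrev mm : ℕ → ℕ → ℕ := mk 28

theorem mm_eq : mm = mJ := by funext A Y; rw [mm, mk_eq, mJ, mul2_eq]

theorem m2_mm (A Y : ℕ) : m2 (mm A Y) = m2 A * m2 Y := by rw [mm_eq]; exact M2_mul2 ..

theorem md : Md RJ mm oJ := mm_eq ▸ mdJ

theorem m2_one : m2 oJ = 1 := md.one.2.symm.trans (map_one _)

theorem RJ.m {A : ℕ} {g : J} (h : RJ A g) : m2 A = ρ2 g := h.2.symm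

theorem m2_beq {A B : ℕ} (h : Nat.beq A B = true) : m2 A = m2 B := by rw [nbeq.1 h]

/-- The matrix of `y` on a section. -/
noncomputable def F (P U : ℕ) (y : J) : Mx := m2 P * ρ2 y * m2 U

/-- The elements preserving the section. -/
noncomputable def InvS (P U : ℕ) : Subgroup J :=
  let M : Submonoid J :=
    { carrier := {h | ∃ A B : Mx, ρ2 h * m2 U = m2 U * A ∧ m2 P * ρ2 h * m2 U = B * (m2 P * m2 U)}
      mul_mem' := by
        rintro a b ⟨A, B, h1, h2⟩ ⟨A', B', h3, h4⟩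
        refine ⟨A * A', B * B', by rw [map_mul, mul_assoc, h3, ← mul_assoc, h1, mul_assoc], ?_⟩
        rw [map_mul, ← mul_assoc, mul_assoc _ (ρ2 b), h3, ← mul_assoc, h2, mul_assoc B, mul_assoc (m2 P), ← h3,
          ← mul_assoc (m2 P), h4, mul_assoc B]
      one_mem' := ⟨1, 1, by simp, by simp⟩ }
  { M with inv_mem' := fun {a} ha => (Submonoid.powers_le.2 ha : _ ≤ M)
            (mem_powers_iff_mem_zpowers.2 (inv_mem (mem_zpowers a))) }

variable {P U L t X Y Z G n c m k : ℕ} {x y z g : J} {D : Subgroup J}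

theorem F_gen (hy : y ∈ InvS P U) {A B : Mx} (h1 : m2 P * ρ2 g * m2 U = B * (m2 P * m2 U))
    (h2 : ρ2 g * (m2 U * A) = m2 U) : F P U (g * y * g⁻¹) = B * F P U y * A := by
  obtain ⟨M, -, h3, -⟩ := hy
  have h4 : ρ2 g⁻¹ * m2 U = m2 U * A := by
    conv_lhs => rw [← h2, ← mul_assoc, ← map_mul, inv_mul_cancel, map_one, one_mul]
  rw [F, F, map_mul, map_mul, mul_assoc _ _ (m2 U), mul_assoc _ _ (m2 U), h4, mul_assoc (ρ2 g), ← mul_assoc (ρ2 y), h3,
    mul_assoc (m2 P) (ρ2 y), h3, ← mul_assoc (m2 P) (m2 U), ← mul_assoc B, ← h1]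
  simp only [mul_assoc]

theorem F_conj (hg : g ∈ InvS P U) (hx : x ∈ InvS P U) (hy : y ∈ InvS P U) (e : F P U x = F P U y) :
    F P U (g * x * g⁻¹) = F P U (g * y * g⁻¹) := by
  obtain ⟨A, -, h1, -⟩ := inv_mem hg
  obtain ⟨-, B, -, h2⟩ := hg
  have h3 : ρ2 g * (m2 U * A) = m2 U := by rw [← h1, ← mul_assoc, ← map_mul, mul_inv_cancel, map_one, one_mul]
  rw [F_gen hx h2 h3, F_gen hy h2 h3, e]

theorem cj_mem {S : Subgroup J} (hg : g ∈ S) (hx : x ∈ S) : g * x * g⁻¹ ∈ S := mul_mem (mul_mem hg hx) (inv_mem hg)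

/-- The stabiliser of the matrix of `x`. -/
def St (hD : D ≤ InvS P U) (hx : x ∈ InvS P U) : Subgroup J where
  carrier := {d | d ∈ D ∧ F P U (d * x * d⁻¹) = F P U x}
  mul_mem' := fun {a b} ha hb => ⟨mul_mem ha.1 hb.1, by
    rw [← ha.2, ← F_conj (hD ha.1) (cj_mem (hD hb.1) hx) hx hb.2]; congr 1; group⟩
  one_mem' := ⟨one_mem _, by simp⟩
  inv_mem' := fun {a} ha => ⟨inv_mem ha.1, by
    rw [← F_conj (hD (inv_mem ha.1)) (cj_mem (hD ha.1) hx) hx ha.2]; congr 1; group⟩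

def Cj (P U : ℕ) (D : Subgroup J) (x : J) (S : ℕ) : Prop :=
  S < 2 ^ (112 * 112) ∧ ∃ d ∈ D, m2 S = F P U (d * x * d⁻¹)

theorem card_St (hD : D ≤ InvS P U) (hx : x ∈ InvS P U) {l : List ℕ} {hash : ℕ → ℕ} (hn : (l.map hash).Nodup)
    (h : ∀ S ∈ l, Cj P U D x S) : Nat.card (St hD hx) * l.length ≤ Nat.card D := by
  have hle : St hD hx ≤ D := fun _ h => h.1
  rw [← ((St hD hx).subgroupOf D).card_mul_index, Nat.card_congr (subgroupOfEquivOfLe hle).toEquiv, index]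
  refine Nat.mul_le_mul_left _ (Set.ncard_univ _ ▸ length_le_ncard_of_hash (P := fun S (q : D ⧸ (St hD hx).subgroupOf D) =>
    S < 2 ^ (112 * 112) ∧ ∃ d : D, (d : D ⧸ _) = q ∧ m2 S = F P U (d * x * d⁻¹)) Set.finite_univ ?_ hn fun S hS => ?_)
  · rintro a b _ ⟨ha, d, rfl, e⟩ ⟨hb, d', h', e'⟩
    have h1 := F_conj (hD d'.2) (cj_mem (hD (d'⁻¹ * d).2) hx) hx (QuotientGroup.eq.1 h').2
    refine congrArg hash (M2_inj ha hb (e.trans (Eq.trans ?_ (h1.trans e'.symm))))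
    congr 1; simp [mul_assoc]
  · obtain ⟨h1, d, hd, e⟩ := h S hS
    exact ⟨_, trivial, h1, ⟨d, hd⟩, rfl, e⟩

noncomputable def act (t c S : ℕ) : ℕ :=
  mk t (Nat.shiftRight c 12544) (mk t S (Nat.land c (Nat.pred (Nat.shiftLeft 1 12544))))

noncomputable def gB (P U G : ℕ) : ℕ := mm P (mm G U)
noncomputable def gA (L U Gi : ℕ) : ℕ := mm L (mm Gi U)
noncomputable def gc (P U L : ℕ) (q : ℕ × ℕ) : ℕ := Nat.add (Nat.shiftLeft (gB P U q.1) 12544) (gA L U q.2)
noncomputable def gok (P U L t : ℕ) (q : ℕ × ℕ) : Bool :=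
  band (Nat.beq (mk t (gB P U q.1) (mm P U)) (gB P U q.1)) (Nat.beq (mm q.1 (mk t U (gA L U q.2))) U)

theorem act_gc {q : ℕ × ℕ} (ht : t ≤ 28) (hg : RJ q.1 g) (h : gok P U L t q = true) (hy : y ∈ InvS P U) {S : ℕ}
    (e : m2 S = F P U y) : m2 (act t (gc P U L q) S) = F P U (g * y * g⁻¹) := by
  rw [gok, band_eq, Bool.and_eq_true] at h
  have h1 := m2_beq h.1
  have h2 := m2_beq h.2
  have hA : gA L U q.2 < 2 ^ 12544 := mk_lt ..
  have e1 : Nat.shiftRight (gc P U L q) 12544 = gB P U q.1 := by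
    show (gB P U q.1 <<< 12544 + gA L U q.2) >>> 12544 = _
    rw [Nat.shiftRight_eq_div_pow, Nat.shiftLeft_eq, add_comm, Nat.add_mul_div_right _ _ (Nat.two_pow_pos _),
      Nat.div_eq_of_lt hA, zero_add]
  have e2 : Nat.land (gc P U L q) (Nat.pred (Nat.shiftLeft 1 12544)) = gA L U q.2 := by
    rw [pred_shl]
    show (gB P U q.1 <<< 12544 + gA L U q.2) &&& _ = _
    rw [Nat.and_two_pow_sub_one_eq_mod, Nat.shiftLeft_eq, add_comm, Nat.add_mul_mod_self_right, Nat.mod_eq_of_lt hA]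
  rw [m2_mk ht, m2_mm] at h1
  rw [m2_mm, m2_mk ht, RJ.m hg, mul_assoc (m2 U)] at h2
  rw [act, e1, e2, m2_mk ht, m2_mk ht, e, F_gen hy (B := m2 (gB P U q.1) * Dn t) (by
    rw [h1, gB, m2_mm, m2_mm, RJ.m hg, mul_assoc]) h2]
  simp only [mul_assoc]

noncomputable def iok (P U L t G : ℕ) : Bool := force G fun G =>
  band (Nat.beq (mk t (gB P U G) (mm P U)) (gB P U G)) (Nat.beq (mm G U) (mm U (mm L (mm G U))))

theorem iok_mem (ht : t ≤ 28) (hg : RJ G g) (h : iok P U L t G = true) : g ∈ InvS P U := by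
  rw [iok, force_eq, band_eq, Bool.and_eq_true] at h
  have h1 := m2_beq h.1
  have h2 := m2_beq h.2
  rw [m2_mk ht, m2_mm] at h1
  rw [m2_mm, m2_mm U, RJ.m hg] at h2
  exact ⟨_, m2 (gB P U G) * Dn t, h2, by rw [h1, gB, m2_mm, m2_mm, RJ.m hg, mul_assoc]⟩

theorem rjk {c : ℕ} {k : K} (w : List ℕ) (h : RK c k) (e : Nat.beq (kc w) c = true) : RJ (wdc mm oJ AE w oJ) (ι k) :=
  mm_eq ▸ kw_eq h e ▸ RJ_kw1 w

def wV : List (List ℕ) := [[16, 19, 20], [16, 17, 19, 21, 23, 25, 26], [16, 22, 23], [16, 19, 21, 23, 24, 25, 26], [16, 17, 18, 20, 21, 23, 24, 25, 26], [18, 21, 22, 24, 26], [16, 17, 18, 20, 22, 23, 24, 25], [17, 18, 19, 21, 26], [16, 19, 22, 24, 25], [17, 18, 19, 20, 24, 25, 26], [17, 19, 20, 21]]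
def wG : List (List ℕ) := [[2, 11, 6, 1, 15, 10], [0]]

theorem H0_inv (ht : t ≤ 28) (h : band (band (allLt 11 fun i => iok P U L t (wdc mm oJ AE (getL wV [] i) oJ))
    (allLt 2 fun i => iok P U L t (wdc mm oJ AE (getL wG [] i) oJ))) (iok P U L t A27) = true) : H0 ≤ InvS P U := by
  simp only [band_eq, Bool.and_eq_true, allLt_iff] at h
  refine H0_le (fun b hb => B0_le (S := (InvS P U).comap ι) (fun v hv => ?_) (fun i hi => ?_) hb) (iok_mem ht rT h.2)
  · refine xind (n := 11) (P := fun n => ∀ v ∈ V, co v = n → ι v ∈ InvS P U) (fun v hv e => ?_) (fun i hi v hv e => ?_)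
      (fun a ha b _ h1 h2 v hv e => ?_) _ (co_lt v) v hv rfl
    · rw [eq_one hv e, map_one]; exact one_mem _
    · refine iok_mem ht (rjk _ (RK_V hv) ?_) (h.1.1 i hi)
      rw [sy, e]; clear e; revert i; decide +kernel
    · obtain ⟨u, hu, e'⟩ := exists_vec ha
      have := mul_mem (h1 u hu e') (h2 _ (mul_mem hu hv) (by rw [co_V_mul hu, e, e', Nat.xor_xor_cancel_left]))
      rwa [← map_mul, ← mul_assoc, V_sq hu, one_mul] at this
  · refine iok_mem ht (rjk (c := kc (getL wG [] i)) _ (RK_ev ?_) (nbeq.2 rfl)) (h.1.2 i hi)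
    revert i; decide +kernel

theorem N0_inv (ht : t ≤ 28) (h : allLt 4 (fun i => iok P U L t (wdc mm oJ AE [i] oJ)) = true) : N0 ≤ InvS P U := by
  rintro _ ⟨k, rfl⟩
  obtain ⟨w, hw, rfl⟩ := word k
  refine Spor.ev_mem _ ((InvS P U).comap ι) fun i hi => ?_
  replace hi := hw i hi
  refine iok_mem ht (rjk _ (RK_yK hi) ?_) (allLt_iff.1 h i hi)
  revert i; decide +kernel

theorem F_code (hx : RJ X x) : m2 (gB P U X) = F P U x := by rw [gB, m2_mm, m2_mm, RJ.m hx, F, mul_assoc]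

noncomputable def orb (P U L t X p f : ℕ) (gs : List (ℕ × ℕ)) : List ℕ :=
  forceL (mapL (gc P U L) gs) fun cs => force (gB P U X) fun S =>
    orbitL (act t) (fun a => Nat.mod a p) (fun _ => true) cs f S

def In (D : Subgroup J) (gs : List (ℕ × ℕ)) : Prop := ∀ q ∈ gs, ∃ g ∈ D, RJ q.1 g

theorem orb_spec {p f : ℕ} {gs : List (ℕ × ℕ)} (ht : t ≤ 28) (hD : D ≤ InvS P U) (hx : x ∈ InvS P U) (hX : RJ X x)
    (hg : In D gs) (h : allL gs (gok P U L t) = true) :
    ((orb P U L t X p f gs).map fun a => Nat.mod a p).Nodup ∧ ∀ S ∈ orb P U L t X p f gs, Cj P U D x S := by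
  rw [orb, forceL_eq, force_eq]
  have key : ∀ c ∈ mapL (gc P U L) gs, ∀ S, Cj P U D x S → Cj P U D x (act t c S) := fun c hc S hS => by
    rw [mapL_eq] at hc
    obtain ⟨q, hq, rfl⟩ := List.mem_map.1 hc
    obtain ⟨g, hg, r⟩ := hg q hq
    obtain ⟨-, d, hd, e⟩ := hS
    refine ⟨mk_lt .., g * d, mul_mem hg hd, ?_⟩
    rw [act_gc ht r (allL_iff.1 h q hq) (cj_mem (hD hd) hx) e]
    congr 1; group
  rcases orbitL_good (hash := fun a => Nat.mod a p) (valid := fun _ => true) (a0 := gB P U X) key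
    ⟨mk_lt .., 1, one_mem _, by simpa using F_code hX⟩ f with e | ⟨-, h1, h2⟩
  · rw [e]; simp
  · exact ⟨h1, fun S hS => (h2 S hS).1⟩

noncomputable def ochk (P U L t X p m : ℕ) (gs : List (ℕ × ℕ)) : Bool :=
  band (allL gs (gok P U L t)) (Nat.ble m (lenL (orb P U L t X p (Nat.succ m) gs)))

theorem St_le {p : ℕ} {gs : List (ℕ × ℕ)} (ht : t ≤ 28) (hD : D ≤ InvS P U) (hx : x ∈ InvS P U) (hX : RJ X x)
    (hg : In D gs) (hn : Nat.card D ≤ n) (h : ochk P U L t X p m gs = true) (hc : n < (c + 1) * m) :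
    Nat.card (St hD hx) ≤ c := by
  rw [ochk, band_eq, Bool.and_eq_true, nble, lenL_eq] at h
  obtain ⟨h1, h2⟩ := orb_spec (f := Nat.succ m) (p := p) ht hD hx hX hg h.1
  have := (Nat.mul_le_mul_left _ h.2).trans ((card_St hD hx h1 h2).trans hn)
  exact Nat.lt_succ_iff.1 (Nat.lt_of_mul_lt_mul_right (this.trans_lt hc))

theorem In_St {gs : List (ℕ × ℕ)} (ht : t ≤ 28) (hD : D ≤ InvS P U) (hx : x ∈ InvS P U) (hX : RJ X x)
    (hg : In D gs) (h : allL gs (fun q => band (gok P U L t q)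
      (Nat.beq (act t (gc P U L q) (gB P U X)) (gB P U X))) = true) : In (St hD hx) gs := fun q hq => by
  obtain ⟨g, hg, r⟩ := hg q hq
  have := allL_iff.1 h q hq
  rw [band_eq, Bool.and_eq_true] at this
  exact ⟨g, ⟨hg, (act_gc ht r this.1 hx (F_code hX)).symm.trans ((m2_beq this.2).trans (F_code hX))⟩, r⟩

/-- The code of a group element. -/
def Ok (A : ℕ) : Prop := ∃ g, RJ A g

theorem In_cent {gs : List (ℕ × ℕ)} (hZ : RJ Z z) (hg : ∀ q ∈ gs, Ok q.1)
    (h : allL gs (fun q => Nat.beq (mm q.1 Z) (mm Z q.1)) = true) : In (centralizer {z}) gs := fun q hq =>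
  let ⟨g, r⟩ := hg q hq
  ⟨g, mem_centralizer_singleton_iff.2 ((md.comm_iff r hZ).2 (allL_iff.1 h q hq)), r⟩

theorem inv_top (x : J) : x ∈ InvS oJ oJ := ⟨ρ2 x, ρ2 x, by simp [m2_one], by simp [m2_one]⟩

theorem cent_St (hD : D ≤ InvS P U) (hx : x ∈ InvS P U) (h : centralizer {x} ≤ D) : centralizer {x} ≤ St hD hx :=
  fun g hg => ⟨h hg, by rw [mem_centralizer_singleton_iff.1 hg, mul_inv_cancel_right]⟩

theorem cent_pow {G : Type*} [Group G] (x : G) (k : ℕ) : centralizer {x} ≤ centralizer {x ^ k} := fun _ hg =>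
  mem_centralizer_singleton_iff.2 (Commute.pow_right (mem_centralizer_singleton_iff.1 hg) k)

noncomputable abbrev cC (x : J) : ℕ := Nat.card (centralizer ({x} : Set J))

theorem pw_eq (hX : RJ X x) (hZ : RJ Z z) (h : Nat.beq (pwc mm oJ X k) Z = true) : x ^ k = z :=
  md.func (congr_beq (md.pow hX k) h) hZ

theorem ub_of {p : ℕ} {gs : List (ℕ × ℕ)} (hX : RJ X x) (hle : centralizer {x} ≤ D) (hg : In D gs) (hn : Nat.card D ≤ n)
    (h : ochk oJ oJ oJ 28 X p m gs = true) (hc : n < (c + 1) * m) : cC x ≤ c :=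
  (card_le_of_le (cent_St (fun _ _ => inv_top _) (inv_top x) hle)).trans (St_le le_rfl _ _ hX hg hn h hc)

/-- One step: the class of `x` in the centraliser of a power. -/
theorem step1 (k p m : ℕ) (gs : List (ℕ × ℕ)) (hX : RJ X x) (hZ : RJ Z z) (hn : cC z ≤ n) (hg : ∀ q ∈ gs, Ok q.1)
    (h : band (band (Nat.beq (pwc mm oJ X k) Z) (allL gs fun q => Nat.beq (mm q.1 Z) (mm Z q.1)))
      (band (ochk oJ oJ oJ 28 X p m gs) (Nat.blt n (Nat.mul (Nat.succ c) m))) = true) : cC x ≤ c := by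
  simp only [band_eq, Bool.and_eq_true] at h
  exact ub_of hX (pw_eq hX hZ h.1.1 ▸ cent_pow x k) (In_cent hZ hg h.1.2) hn h.2.1 (nblt.1 h.2.2)

/-- Two steps: first on a section. -/
theorem step2 (L t k p m p' m' n' : ℕ) (gs gs' : List (ℕ × ℕ)) (hX : RJ X x) (hZ : RJ Z z) (hn : cC z ≤ n)
    (hI : centralizer {z} ≤ InvS P U) (hg : ∀ q ∈ gs, Ok q.1) (hg' : ∀ q ∈ gs', Ok q.1)
    (h : band (band (band (Nat.ble t 28) (Nat.beq (pwc mm oJ X k) Z)) (allL gs fun q => Nat.beq (mm q.1 Z) (mm Z q.1)))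
      (band (ochk P U L t X p m gs) (Nat.blt n (Nat.mul (Nat.succ n') m))) = true)
    (h' : band (band (allL gs' fun q => Nat.beq (mm q.1 Z) (mm Z q.1)) (allL gs' (fun q => band (gok P U L t q)
      (Nat.beq (act t (gc P U L q) (gB P U X)) (gB P U X)))))
      (band (ochk oJ oJ oJ 28 X p' m' gs') (Nat.blt n' (Nat.mul (Nat.succ c) m'))) = true) : cC x ≤ c := by
  rw [band_eq, band_eq, band_eq, band_eq, Bool.and_eq_true, Bool.and_eq_true, Bool.and_eq_true, Bool.and_eq_true] at h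
  rw [band_eq, band_eq, band_eq (ochk ..), Bool.and_eq_true, Bool.and_eq_true, Bool.and_eq_true] at h'
  have h1 : centralizer {x} ≤ centralizer {z} := pw_eq hX hZ h.1.1.2 ▸ cent_pow x k
  have hx := hI (h1 (mem_centralizer_singleton_iff.2 rfl))
  have ht := nble.1 h.1.1.1
  exact ub_of hX (cent_St hI hx h1) (In_St ht hI hx hX (In_cent hZ hg' h'.1.1) h'.1.2)
    (St_le ht hI hx hX (In_cent hZ hg h.1.2) hn h.2.1 (nblt.1 h.2.2)) h'.2.1 (nblt.1 h'.2.2)

/-- A lower bound for the centraliser. -/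
theorem lb (U p f : ℕ) (gs : List (ℕ × ℕ)) (hX : RJ X x) (hg : ∀ q ∈ gs, Ok q.1)
    (h : band (band (Nat.blt U (Nat.pow 2 12544)) (allL gs fun q => Nat.beq (mm q.1 X) (mm X q.1)))
      (Nat.ble c (lenL (orbitL mm (fun a => Nat.mod a p) (fun _ => true) (mapL Prod.fst gs) f U))) = true) :
    c ≤ cC x := by
  simp only [band_eq, Bool.and_eq_true] at h
  have h1 := In_cent hX hg h.1.2
  refine (nble.1 h.2).trans ?_
  rw [lenL_eq]
  have key : ∀ c ∈ mapL Prod.fst gs, ∀ S, (∃ g ∈ centralizer {x}, S < 2 ^ (112 * 112) ∧ m2 S = ρ2 g * m2 U) →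
      ∃ g ∈ centralizer {x}, mm c S < 2 ^ (112 * 112) ∧ m2 (mm c S) = ρ2 g * m2 U := fun c hc S hS => by
    rw [mapL_eq] at hc
    obtain ⟨q, hq, rfl⟩ := List.mem_map.1 hc
    obtain ⟨g, hg, r⟩ := h1 q hq
    obtain ⟨d, hd, -, e⟩ := hS
    exact ⟨g * d, mul_mem hg hd, mk_lt .., by rw [m2_mm, e, RJ.m r, map_mul, mul_assoc]⟩
  rcases orbitL_good (hash := fun a => Nat.mod a p) (valid := fun _ => true) (a0 := U) key
    ⟨1, one_mem _, nblt.1 h.1.1, by simp⟩ f with e | ⟨-, h1, h2⟩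
  · rw [e]; simp
  · exact length_le_ncard_of_hash (P := fun S g => S < 2 ^ (112 * 112) ∧ m2 S = ρ2 g * m2 U) (Set.toFinite _)
      (fun a b _ ha hb => by rw [M2_inj ha.1 hb.1 (ha.2.trans hb.2.symm)]) h1 fun S hS => (h2 S hS).1

/-- Not conjugate: the class of `x` in the centraliser of the common power is complete. -/
theorem nc_orb (k p m : ℕ) (gs : List (ℕ × ℕ)) (hX : RJ X x) (hY : RJ Y y) (hZ : RJ Z z) (hn : cC z ≤ n) (hc : c ≤ cC x)
    (hg : ∀ q ∈ gs, Ok q.1)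
    (h : band (band (band (Nat.beq (pwc mm oJ X k) Z) (Nat.beq (pwc mm oJ Y k) Z))
      (band (allL gs fun q => Nat.beq (mm q.1 Z) (mm Z q.1)) (allL gs (gok oJ oJ oJ 28))))
      (forceL (orb oJ oJ oJ 28 X p (Nat.succ m) gs) fun l => band (allL l fun a => not (Nat.beq (Nat.mod a p) (Nat.mod Y p)))
        (Nat.blt n (Nat.mul c (Nat.succ (lenL l))))) = true) : ¬ IsConj x y := fun e => by
  simp only [band_eq, Bool.and_eq_true, forceL_eq] at h
  obtain ⟨g, e⟩ := isConj_iff.1 e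
  have hg' : g ∈ centralizer {z} := mem_centralizer_singleton_iff.2 (by
    rw [← mul_inv_eq_iff_eq_mul]; nth_rw 1 [← pw_eq hX hZ h.1.1.1]; rw [← conj_pow, e, pw_eq hY hZ h.1.1.2])
  obtain ⟨h1, h2⟩ := orb_spec (f := Nat.succ m) (p := p) le_rfl (fun _ _ => inv_top _) (inv_top x) hX
    (In_cent hZ hg h.1.2.1) h.1.2.2
  have := card_St (l := Y :: orb oJ oJ oJ 28 X p (Nat.succ m) gs) (hash := fun a => Nat.mod a p)
    (D := centralizer {z}) (fun _ _ => inv_top _) (inv_top x) (by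
      rw [List.map_cons, List.nodup_cons]
      refine ⟨fun h' => ?_, h1⟩
      obtain ⟨a, ha, e⟩ := List.mem_map.1 h'
      simpa [e] using allL_iff.1 h.2.1 a ha) (by
      rintro S (_ | ⟨_, hS⟩)
      exacts [⟨hY.1, g, hg', by rw [e, F, m2_one, one_mul, mul_one, hY.2]⟩, h2 S hS])
  have h3 := hc.trans (card_le_of_le (cent_St (D := centralizer {z}) (fun _ _ => inv_top _) (inv_top x)
    (pw_eq hX hZ h.1.1.1 ▸ cent_pow x k)))
  have h4 := nblt.1 h.2.2
  rw [lenL_eq] at h4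
  exact absurd (((Nat.mul_le_mul_right _ h3).trans this).trans hn) (not_le.2 h4)

/-- Not conjugate: a power is trivial on a section. -/
theorem nc_sec (k j : ℕ) (hX : RJ X x) (hY : RJ Y y) (hZ : RJ Z z) (hI : centralizer {z} ≤ InvS P U)
    (h : band (band (Nat.beq (pwc mm oJ X k) Z) (Nat.beq (pwc mm oJ Y k) Z))
      (band (Nat.beq (gB P U (pwc mm oJ X j)) (gB P U oJ)) (not (Nat.beq (gB P U (pwc mm oJ Y j)) (gB P U oJ)))) = true) :
    ¬ IsConj x y := fun e => by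
  simp only [band_eq, Bool.and_eq_true] at h
  obtain ⟨g, e⟩ := isConj_iff.1 e
  have e1 := pw_eq hX hZ h.1.1
  have hg' : g ∈ centralizer {z} := mem_centralizer_singleton_iff.2 (by
    rw [← mul_inv_eq_iff_eq_mul]; nth_rw 1 [← e1]; rw [← conj_pow, e, pw_eq hY hZ h.1.2])
  have := F_conj (hI hg') (pow_mem (hI ((e1 ▸ cent_pow x k :) (mem_centralizer_singleton_iff.2 rfl))) j) (one_mem _)
    ((F_code (md.pow hX j)).symm.trans ((m2_beq h.2.1).trans (F_code md.one)))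
  rw [← conj_pow, e, mul_one, mul_inv_cancel, ← F_code (md.pow hY j), ← F_code md.one] at this
  have h5 := h.2.2
  rw [show gB P U (pwc mm oJ Y j) = gB P U oJ from M2_inj (mk_lt ..) (mk_lt ..) this] at h5
  simp at h5

theorem ord_eq (hX : RJ X x) (h : band (band (Nat.blt 0 n) (Nat.beq (pwc mm oJ X n) oJ)) (allLt (Nat.succ n) fun d =>
    bor (Nat.blt d 2) (bor (Nat.blt 0 (Nat.mod n d)) (not (Nat.beq (pwc mm oJ X (Nat.div n d)) oJ)))) = true) :
    orderOf x = n := by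
  simp only [band_eq, Bool.and_eq_true] at h
  refine orderOf_eq_of_pow_and_pow_div_prime (nblt.1 h.1.1) (pw_eq hX md.one h.1.2) fun p hp hd e => ?_
  have := allLt_iff.1 h.2 p (Nat.lt_succ_of_le (Nat.le_of_dvd (nblt.1 h.1.1) hd))
  simp only [bor_eq, Bool.or_eq_true, nblt, Bool.not_eq_true', nbeq_false] at this
  rcases this with h1 | h1 | h1
  · exact absurd hp.two_le (by omega)
  · exact h1.ne' (Nat.mod_eq_zero_of_dvd hd)
  · exact h1 (md.canon (e ▸ md.pow hX (n / p)) md.one)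

theorem nc_pow {G : Type*} [Group G] {x y : G} (k : ℕ) (h : ¬ IsConj (x ^ k) (y ^ k)) : ¬ IsConj x y := fun e => by
  obtain ⟨g, rfl⟩ := isConj_iff.1 e
  exact h (isConj_iff.2 ⟨g, conj_pow.symm⟩)

theorem nc_card (h : cC y < cC x) : ¬ IsConj x y := fun e => h.ne' (card_cent_conj e)

noncomputable def slp (k : List ℕ → Bool) (ws : List (List ℕ)) : List ℕ → Bool :=
  List.rec (motive := fun _ => List ℕ → Bool) k
    (fun w _ ih L => force (wdc mm oJ L w oJ) fun A => ih (appendL L [A])) ws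

theorem ok_wdc {L : List ℕ} (h : ∀ A ∈ L, Ok A) (w : List ℕ) : ∀ Y, Ok Y → Ok (wdc mm oJ L w Y) := by
  induction w with
  | nil => exact fun _ h => h
  | cons a w ih =>
    rintro Y ⟨y, hy⟩
    obtain ⟨g, hg⟩ : Ok (getL L oJ a) := getL_prop L oJ a ⟨1, md.one⟩ h
    show Ok (seq _ _)
    rw [seq_eq]
    exact ih _ ⟨_, md.mul hg hy⟩

theorem ok_slp (ws : List (List ℕ)) (T : List (ℕ × ℕ)) : ∀ L : List ℕ, (∀ A ∈ L, Ok A) →
    slp (fun L => allL T fun q => Nat.beq (getL L oJ q.1) q.2) ws L = true → ∀ A ∈ T.map Prod.snd, Ok A := by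
  induction ws with
  | nil =>
    intro L hL h A hA
    obtain ⟨q, hq, rfl⟩ := List.mem_map.1 hA
    rw [← nbeq.1 (allL_iff.1 h q hq)]
    exact getL_prop L oJ _ ⟨1, md.one⟩ hL
  | cons w ws ih =>
    intro L hL h
    refine ih _ (fun A hA => ?_) ((force_eq (wdc mm oJ L w oJ) fun A => slp _ ws (appendL L [A])).symm.trans h)
    rw [appendL_eq, List.mem_append, List.mem_singleton] at hA
    exact hA.elim (hL A) fun e => e ▸ ok_wdc hL w _ ⟨1, md.one⟩

theorem ok_AJ : ∀ A ∈ AJ, Ok A := fun A hA => by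
  obtain ⟨i, hi, rfl⟩ := List.getElem_of_mem hA
  have := alJ i
  rw [Spor.getL_eq_getD, List.getD_eq_getElem _ _ hi] at this
  exact ⟨_, this⟩

open _root_.Classical in
/-- The element with a given code. -/
noncomputable def eJ (A : ℕ) : J := if h : Ok A then h.choose else 1

theorem Ok.r {A : ℕ} (h : Ok A) : RJ A (eJ A) := by rw [eJ, dif_pos h]; exact h.choose_spec

end Cfsg.Agent.J4F.Cl
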