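import Cfsg.Agent.J4F.Cls1

/-! Upper bounds for the centralisers of the `2`-elements of `J4` (helper3). -/

set_option autoImplicit false
set_option Elab.async false
set_option maxRecDepth 100000
set_option exponentiation.threshold 100000

namespace Cfsg.Agent.J4F.Cl
open Cfsg.Agent.Comp Cfsg.Agent.J4T Cfsg.Agent.J4T.C
open Subgroup

theorem uZ : cC z0 ≤ 21799895040 := card_H0.le
theorem uT : cC t0 ≤ 1816657920 := card_cent_t0.le
theorem p4A : eJ X4A ^ 2 = z0 := pw_eq oX4A.r rZ0 (by decide +kernel)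
theorem u4A : cC (eJ X4A) ≤ 5406720 := step2 (P := L2) (U := U2) L2 10 2 451633 2016 5 2 10813440 gH gD4A oX4A.r rZ0 uZ
  inv2 kH kD4A (by decide +kernel) (by decide +kernel)
theorem u4B : cC (eJ X4B) ≤ 98304 := step2 (P := LH) (U := UH) LH 3 2 148331 1155 4511 192 18874368 gH gD4B oX4B.r rZ0 uZ
  invH kH kD4B (by decide +kernel) (by decide +kernel)
theorem u4C : cC (eJ X4C) ≤ 43008 := step2 (P := PK) (U := UK) LK 3 2 12359 330 1919 128 5505024 gCt gD4C oX4C.r rT0 uT
  (cent_t0.trans invK) kCt kD4C (by decide +kernel) (by decide +kernel)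
theorem u8A : cC (eJ X8A) ≤ 1280 := step2 (P := LH) (U := UH) LH 3 2 583 66 517 64 81920 gC4A gD8A oX8A.r oX4A.r u4A
  ((cent_pow _ 2).trans (by rw [p4A]; exact invH)) kC4A kD8A (by decide +kernel) (by decide +kernel)
theorem u8B : cC (eJ X8B) ≤ 768 := step1 2 1833 128 gC4B oX8B.r oX4B.r u4B kC4B (by decide +kernel)
theorem u8C : cC (eJ X8C) ≤ 512 := step1 2 4335 192 gC4B oX8C.r oX4B.r u4B kC4B (by decide +kernel)
theorem u16 : cC (eJ X16) ≤ 32 := step1 2 53 16 gC8C oX16.r oX8C.r u8C kC8C (by decide +kernel)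

end Cfsg.Agent.J4F.Cl
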