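import Cfsg.Agent.J4F.Sev

/-! Elements of order five of `J₄` and the subgroup `2^{3+12}.(S₅ × L₃(2))` (helper16). -/

set_option autoImplicit false
set_option maxRecDepth 100000
set_option exponentiation.threshold 100000

namespace Cfsg.Agent.J4F
open Subgroup Cfsg.Agent.Comp Cfsg.Agent.Golay Cfsg.Agent.J4T Cfsg.Agent.J4T.C
open Cfsg.Agent.Spor (ev getL genL genW seq seq_eq basePt)
open scoped Pointwise

theorem conj_le {i : ℕ} (hi : i < 7) (u v : List ℕ) {gs l : List ℕ} {B : Subgroup K} (hl : CodesIn RK l B)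
    (ws : List (List ℕ × List ℕ)) (h : band (allL ws (prOK (getL DA 0 i))) (allL gs fun a => anyL ws fun w =>
      band (Nat.beq (kmul (kc u) (kc w.1)) (kmul a (kc u))) (memL (kmul (kmul (kinv (kc v)) (kc w.2)) (kc v)) l)) = true) :
    (SG gs).map ι ≤ mp (MulAut.conj (ι (kw u) * d i * ι (kw v))) (B.map ι) := by
  rw [band_eq, Bool.and_eq_true] at h
  refine map_le_iff_le_comap.2 (SG_le fun c hc x hx => ?_)
  obtain ⟨w, hw, h1⟩ := anyL_iff.1 (allL_iff.1 h.2 c hc)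
  rw [band_eq, Bool.and_eq_true, memL_iff] at h1
  have h2 := mem_PD.1 (pr_mem (rDA i hi) (allL_iff.1 h.1 w hw))
  refine ⟨_, ⟨_, hl.mem (mdK.mul (mdK.mul (grpK.inv (RK_kw v)) (RK_kw w.2)) (RK_kw v)) h1.2, rfl⟩, ?_⟩
  rw [← mdK.semi (RK_kw w.1) hx (RK_kw u) h1.1]
  rw [MulEquiv.coe_toMonoidHom, MulAut.conj_apply]
  simp only [map_mul, map_inv, eq_mul_inv_iff_mul_eq.2 h2]
  group

theorem norm_of_le {G : Type*} [Group G] [Finite G] {A : Subgroup G} {y : G} (h : A ≤ mp (MulAut.conj y) A) :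
    y ∈ normalizer (A : Set G) :=
  (normalizer _).inv_mem_iff.1 (mem_normalizer_fintype fun a ha => by simpa using mem_mp.1 (h ha))

theorem card_modEq {G : Type*} [Group G] [Finite G] {A : Subgroup G} {p : ℕ} [Fact p.Prime] {t : G} (ht : t ^ p = 1)
    (h : t ∈ normalizer (A : Set G)) : Nat.card A ≡ Nat.card ↥(A ⊓ centralizer ({t} : Set G)) [MOD p] := by
  have := Gen2.ncard_modEq_inter_fixedBy (Ω := G) (p := p) (x := ConjAct.toConjAct t) (k := 1)
    (by rw [pow_one, ← map_pow, ht, map_one]) (A : Set G) fun b hb => (mem_normalizer_iff.1 h b).1 hb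
  rw [← Nat.card_coe_set_eq, ← Nat.card_coe_set_eq] at this
  refine this.trans (congrArg (· % p) (Nat.card_congr (Equiv.setCongr (Set.ext fun a => ?_))))
  simp only [Set.mem_inter_iff, SetLike.mem_coe, MulAction.mem_fixedBy, ConjAct.smul_def, ConjAct.ofConjAct_toConjAct, mem_inf,
    mem_centralizer_singleton_iff, mul_inv_eq_iff_eq_mul]
  exact and_congr_right fun _ => eq_comm

theorem cent_S5 {a b : Equiv.Perm (Fin 5)} (ha : orderOf a = 5) (h : b * a = a * b) : b ∈ zpowers a := by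
  have hc := Equiv.Perm.isCycle_of_prime_order'' (σ := a) (by simpa using Nat.prime_five) (by simpa using ha)
  have h1 (x : Fin 5) : a x ≠ x := Equiv.Perm.mem_support.1
    (Finset.eq_univ_of_card a.support (by rw [← hc.orderOf, ha]; rfl) ▸ Finset.mem_univ x)
  obtain ⟨i, hi⟩ := hc.exists_pow_eq (h1 0) (h1 (b 0))
  refine ⟨i, Equiv.ext fun x => ?_⟩
  obtain ⟨j, rfl⟩ := hc.exists_pow_eq (h1 0) (h1 x)
  rw [← Equiv.Perm.mul_apply b, (Commute.pow_right h j).eq, Equiv.Perm.mul_apply, ← hi, ← Equiv.Perm.mul_apply,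
    ← Equiv.Perm.mul_apply, ← pow_add, add_comm, pow_add]
  simp

def w5 : List ℕ := [7, 10, 4, 0, 6, 15, 5, 7, 16, 19, 23]
noncomputable def t5 : K := kw w5
def c5 : ℕ := 4004583180832489214914602155760775379081
theorem RK_t5 : RK c5 t5 := congr_beq (RK_kw w5) (by decide +kernel)
theorem ord_t5 : orderOf t5 = 5 := mdK.order RK_t5 Nat.prime_five (by decide +kernel)
def g5 : List ℕ := [2075332917818954728071052497395126535587, 4033815529618450547112136865621959903257, 2752276147286145752297656435024647723741]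
def l5 : List ℕ := [4033815529618450547112136865621959901184, 2075332917818954728071052497395126535587, 4033815529618450547112136865621959903257, 2752276147286145752297656435024647723741, 2075332917818954728071052497395126537658, 2575765272244652882861132425087733913447, 2752276147286145752297656435024647721668, 2575765272244652882861132425087733915518]
noncomputable def Z5 : Subgroup K := SG g5
theorem Z5_spec : CodesIn RK l5 Z5 ∧ Lists RK l5 Z5 ∧ Nat.card Z5 = 8 := sg_spec [[], [0], [1], [2], [0, 1], [0, 2], [1, 2], [0, 1, 2]] (by decide +kernel)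

theorem cMG5 : Nat.card (centralizer ({π t5} : Set MG)) ≤ 60 := by
  have := card_le_rigB EG (G := MG) (K := centralizer {π t5}) (msk := fun u => u) (ok := fun u F => bor (Nat.beq u 8491008)
    (bor (okOct u F) (anyL (List.range 24) fun p => band (tb F p) (Nat.beq u (Nat.pow 2 (get24 (hi c5) p))))))
    (fun u F h g hg hF => ?_) [(0, [8491008]), (11, [2048]), (14, [16384]), (6, [64]), (1, [2]), (12, [8491008, 8505411]), (2, [153797]), (9, [512]), (18, [262144]), (10, [1024]), (4, [16]), (3, [806987, 8966165]), (5, [21116]), (7, [5279]), (8, [262637]), (13, [272595]), (15, [45159]), (16, [118953]), (17, [421910]), (19, [843820]), (20, [1302533]), (21, [13062145]), (22, [8491008]), (23, [])] 0 (by decide +kernel)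
  · rw [fixM_zero, inf_top_eq] at this
    exact this.trans (nble.1 (by decide +kernel))
  have h0 := mem_centralizer_singleton_iff.1 hg
  simp only [bor_eq, Bool.or_eq_true, nbeq, anyL_iff, band_eq, Bool.and_eq_true, tb_eq, List.mem_range] at h
  rcases h with rfl | h | ⟨p, hp, h, rfl⟩
  · rw [← fixS_eq RK_t5.1.1 (by decide +kernel), ← fixS_conj, h0, mul_inv_cancel_right]
  · exact smul_eq_of_okOct h g.2 hF
  · rw [show Nat.pow 2 _ = 2 ^ _ from rfl, EG.ofMask_two_pow (RK_t5.1.1.get_lt hp), ← RK_t5.1.1.smul_dec hp, Finset.smul_finset_singleton,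
      smul_smul, h0, mul_smul, hF _ (by rwa [EG.enc_dec p hp])]

theorem cent_t5 : centralizer {t5} ≤ normalizer (Z5 : Set K) := fun c hc => by
  have h1 : SG [3929239694899641236278600675435163699077, 2750617005577855403408067033158759089595] ≤ centralizer {t5} ⊓ normalizer (Z5 : Set K) := SG_le fun a ha x hx => by
    have := allL_iff.1 (show allL _ (fun a => band (Nat.beq (kmul a c5) (kmul c5 a))
      (allL g5 fun b => memL (kmul (kmul a b) (kinv a)) l5)) = true by decide +kernel) a ha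
    rw [band_eq, Bool.and_eq_true] at this
    exact ⟨mem_centralizer_singleton_iff.2 ((mdK.comm_iff hx RK_t5).2 this.1), norm_SG Z5_spec.1 hx this.2⟩
  have h2 {x : K} (h : x ∈ centralizer {t5}) : π x ∈ centralizer {π t5} := mem_centralizer_singleton_iff.2 (by
    rw [← map_mul, mem_centralizer_singleton_iff.1 h, map_mul])
  obtain ⟨s, hs, e⟩ := (eq_of_le_of_card_ge (by rintro _ ⟨x, hx, rfl⟩; exact h2 (h1 hx).1) (cMG5.trans (le_card_slp
    (codes_π (codes_wl (by decide +kernel) [[0], [1]])) [0, 2] [] (by decide +kernel))) : (SG _).map π = _).ge (h2 hc)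
  have hV : c * s⁻¹ ∈ V := mem_V_of (by rw [map_mul, map_inv, e, mul_inv_cancel])
  have h3 := allLt_iff.1 (force_eq _ _ ▸ (show force (mt1 (hi c5)) (fun x => allLt 4096 fun m => bor (not (tb EV m))
    (bor (not (Nat.beq (app x m) 0)) (allL g5 fun b => memL (kmul (kmul (pk one24 m) b) (kinv (pk one24 m))) l5))) = true
      by decide +kernel)) _ (sy_lt (c * s⁻¹))
  simp only [bor_eq, tb_eq, EV_bit, app_mt1 RK_t5.1.1 _ (sy_lt _), act_fix RK_t5.1.1 hV (mem_centralizer_singleton_iff.1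
    (mul_mem hc (inv_mem (h1 hs).1))).symm, Nat.xor_self, Nat.beq_refl, Bool.not_true, Bool.false_or] at h3
  rw [← inv_mul_cancel_right c s]
  exact mul_mem (norm_SG Z5_spec.1 (RK_V hV) h3) (h1 hs).2

def cr : ℕ := 2042392907479713165844763376250505556298
theorem RK_r : RK cr (el cr) := RK_el (by decide +kernel)

theorem h0_5 : ∀ c ∈ normalizer (zpowers t5 : Set K), ι c ∈ normalizer (Z5.map ι : Set J) := fun c hc => by
  classical
  have h1 := (mem_normalizer_iff.1 hc _).1 (mem_zpowers t5)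
  rw [mem_zpowers_iff_mem_range_orderOf, ord_t5] at h1
  obtain ⟨a, ha, e⟩ := Finset.mem_image.1 h1
  have h2 := allLt_iff.1 (show allLt 5 (fun a => bor (Nat.beq a 0) (anyL (List.range 4) fun i => force (pwc kmul kone cr i) fun x =>
    Nat.beq (kmul x c5) (kmul (pwc kmul kone c5 a) x))) = true by decide +kernel) a (Finset.mem_range.1 ha)
  simp only [force_eq, bor_eq, Bool.or_eq_true, anyL_iff] at h2
  rcases h2 with h2 | ⟨i, -, h2⟩
  · rw [nbeq.1 h2, pow_zero, eq_comm, conj_eq_one_iff] at e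
    exact absurd (e ▸ ord_t5) (by simp)
  rw [← mdK.semi RK_t5 (mdK.pow RK_t5 a) (mdK.pow RK_r i) h2] at e
  rw [ι_norm, ← mul_inv_cancel_left (el cr ^ i) c]
  refine mul_mem (pow_mem (norm_SG Z5_spec.1 RK_r (by decide +kernel)) i) (cent_t5 (mem_centralizer_singleton_iff.2 ?_))
  rw [← mul_inv_eq_iff_eq_mul, show (el cr ^ i)⁻¹ * c * t5 * ((el cr ^ i)⁻¹ * c)⁻¹ = (el cr ^ i)⁻¹ * (c * t5 * c⁻¹) * el cr ^ i by
    group, ← e]
  group

theorem norm5 : normalizer (zpowers (ι t5) : Set J) ≤ normalizer (Z5.map ι : Set J) := by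
  have k {i n : ℕ} (hi : i < 7) := gn_syl (k := 0) (n := n) hi RK_t5 Nat.prime_five (by decide) ord_t5 h0_5 [] [[]] [] (by simp)
  refine norm_le fun i hi => ?_
  interval_cases i
  exacts [d0 ▸ gn_one h0_5, k (n := 33030144) (by decide) (by decide) (by norm_num) rfl (by decide +kernel),
    k (n := 147456) (by decide) (by decide) (by norm_num) rfl (by decide +kernel),
    gn_syl (k := 1) (n := 15360) (by decide) RK_t5 Nat.prime_five (by decide) ord_t5 h0_5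
      [([2, 12, 8, 11, 8, 13, 1, 0, 17, 18, 19, 21, 22, 25, 26], [1, 6, 5, 11, 8, 14, 1, 13, 17, 18, 19, 22, 23, 26])] [[], [0], [0, 0], [0, 0, 0], [0, 0, 0, 0]] [([1, 9, 7, 13, 0, 5, 22, 23, 24, 26], [0, 9, 6, 13, 10, 2, 5, 17, 19, 22, 25, 26])] (fun x hx => by
        obtain rfl := List.mem_singleton.1 hx
        exact norm_of_le (conj_le (by decide) _ _ Z5_spec.1 [([5, 0, 8, 14, 12, 5, 9, 6, 16, 17, 18, 19, 21, 22, 23, 24, 25, 26], [8, 5, 7, 11, 15, 10, 5, 12, 16, 17, 18, 19, 20, 22, 23, 24, 25]), ([16, 17, 19, 21, 23, 25, 26], [0, 14, 10, 15, 8, 11, 4, 1, 19, 20, 22, 24, 25]), ([1, 8, 0, 11, 1, 9, 14, 5, 16, 19, 20, 21, 22, 26], [16, 22, 23])] (by decide +kernel)))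
      (by decide) (by norm_num) (by decide +kernel) (by decide +kernel),
    gn_syl (k := 1) (n := 17694720) (by decide) RK_t5 Nat.prime_five (by decide) ord_t5 h0_5
      [([11, 6, 14, 2, 6, 8, 2, 18, 22, 23, 24, 26], [2, 5, 14, 8, 13, 4, 7, 13, 16, 18, 20, 22, 23, 25])] [[], [0], [0, 0], [0, 0, 0], [0, 0, 0, 0]] [([8, 7, 2, 10, 14, 8, 17, 18, 21, 22, 23, 24, 25, 26], [0, 5, 7, 8, 2, 10, 2, 17, 18, 21, 25])] (fun x hx => by
        obtain rfl := List.mem_singleton.1 hx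
        exact norm_of_le (conj_le (by decide) _ _ Z5_spec.1 [([5, 0, 8, 14, 12, 5, 9, 6, 17, 18, 24, 25], [2, 10, 10, 7, 9, 12, 9, 16, 17, 18, 19, 20, 22, 24, 25]), ([16, 17, 19, 21, 23, 25, 26], [16, 17, 19, 21, 23, 25, 26]), ([1, 8, 0, 11, 1, 9, 14, 5, 16, 18, 22, 23, 24], [1, 4, 11, 13, 13, 9, 13, 14, 17, 19, 22, 25])] (by decide +kernel)))
      (by decide) (by norm_num) (by decide +kernel) (by decide +kernel),
    k (n := 9216) (by decide) (by decide) (by norm_num) rfl (by decide +kernel),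
    k (n := 6072) (by decide) (by decide) (by norm_num) rfl (by decide +kernel)]

noncomputable def gg : J := ι (kw []) * d 1 * ι (kw [6, 5, 10, 1, 12, 6, 19, 23])
noncomputable def x5 : J := ι (kw [7, 13, 2, 11, 4, 7, 21, 24]) * (T * (ι (kw w5) * (T * ι (kw [6, 5, 10, 1, 12, 6, 19, 23]))))
theorem gg_Z0 : mp (MulAut.conj gg) Z0 = Z5.map ι :=
  (eq_of_le_of_card_ge (conj_le (by decide) _ _ ZK_spec.1 [([2, 14, 2, 0, 11, 4, 12, 8, 16, 17, 21, 23, 24, 26], [17, 19, 20, 21, 23, 24, 26]), ([16, 19, 20], [16, 19, 20]), ([1, 15, 8, 10, 10, 9, 5, 6, 16, 18, 19, 20, 22, 23, 25], [18, 22, 23, 25])] (by decide +kernel))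
    (by rw [mp_card, card_mapι, card_mapι, ZK_spec.2.2]; exact Z5_spec.2.2.ge)).symm
theorem gg_x5 : MulAut.conj gg x5 = ι t5 := by
  rw [gg, x5, d1, kw_eq (w := []) mdK.one (by decide +kernel), kw_eq (w := [7, 13, 2, 11, 4, 7, 21, 24]) (grpK.inv (RK_kw [6, 5, 10, 1, 12, 6, 19, 23])) (by decide +kernel),
    map_one, map_inv, MulAut.conj_apply, t5]
  nth_rw 2 [← T_inv]
  group
theorem ord_x5 : orderOf x5 = 5 := by rw [← (MulAut.conj gg).orderOf_eq, gg_x5, orderOf_injective ι ι_inj, ord_t5]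
theorem normx5 : normalizer (zpowers x5 : Set J) ≤ MM := by
  rw [← mp_le (f := MulAut.conj gg), ← mp_norm, ← mp_norm, ← mp_zpowers, gg_x5, gg_Z0]
  exact norm5
theorem x5_MM : x5 ∈ MM := normx5 (le_normalizer (mem_zpowers _))

def wj : List ℕ := [9, 15, 11, 9, 4, 11, 7, 5, 17, 25]
theorem x5_comm : x5 * ι t7 = ι t7 * x5 ∧ x5 * ι (kw wj) = ι (kw wj) * x5 ∧ x5 * ι (kw [17, 18]) ≠ ι (kw [17, 18]) * x5 := by
  have r := RJ_kw [7, 13, 2, 11, 4, 7, 21, 24] (mdJ.mul rT (RJ_kw w5 (mdJ.mul rT (RJ_kw1 [6, 5, 10, 1, 12, 6, 19, 23]))))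
  have h : force _ (fun X => allL [(w7, true), (wj, true), ([17, 18], false)] fun w => force (wdc mJ oJ AE w.1 oJ) fun Y =>
    Nat.beq (mJ X Y) (mJ Y X) == w.2) = true := (show force (wdc mJ oJ AE [7, 13, 2, 11, 4, 7, 21, 24] (mJ A27 (wdc mJ oJ AE w5
      (mJ A27 (wdc mJ oJ AE [6, 5, 10, 1, 12, 6, 19, 23] oJ))))) _ = true by decide +kernel)
  simp only [force_eq, allL_iff, List.mem_cons, List.not_mem_nil, or_false, forall_eq_or_imp, forall_eq, beq_iff_eq] at h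
  exact ⟨(mdJ.comm_iff r (RJ_kw1 _)).2 h.1, (mdJ.comm_iff r (RJ_kw1 _)).2 h.2.1,
    (mdJ.comm_iff r (RJ_kw1 _)).not.2 (by rw [h.2.2]; decide)⟩

theorem j_MM : ι (kw wj) ∈ MM := ι_norm.2 (norm_SG ZK_spec.1 (RK_kw _) (by decide +kernel))

theorem nsplit {z : J} (hz : z ∈ Z0) : (z * ι (kw wj)) ^ 4 ∈ Z0 ∧ (z * ι (kw wj)) ^ 4 ≠ 1 := by
  obtain ⟨z, hz, rfl⟩ := hz
  obtain ⟨b, hb, h⟩ := ZK_spec.2.1.forall (f := fun b => force (pwc kmul kone (kmul b (kc wj)) 4) fun x =>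
    band (memL x (LZ.map (pk one24))) (not (Nat.beq x kone))) (by decide +kernel) hz
  simp only [force_eq, band_eq, Bool.and_eq_true, memL_iff, Bool.not_eq_true', nbeq_false] at h
  have r := mdK.pow (mdK.mul hb (RK_kw wj)) 4
  rw [← map_mul, ← map_pow, Ne, map_eq_one_iff ι ι_inj]
  exact ⟨⟨_, ZK_spec.1.mem r h.1, rfl⟩, (mdK.eq_iff r mdK.one).not.2 h.2⟩

theorem j4 : (⟨_, j_MM⟩ ^ 4 : MM).1 ∈ LJ := by
  have := (nsplit Z0.one_mem).1
  rw [one_mul] at this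
  exact map_mono (f := ι) ZK_LK this
theorem x55 : (⟨x5, x5_MM⟩ : MM) ^ 5 = 1 := Subtype.ext (ord_x5 ▸ pow_orderOf_eq_one x5)

instance fact5 : Fact (Nat.Prime 5) := ⟨Nat.prime_five⟩

theorem x5_cent : x5 ∈ centralizer (Z0 : Set J) := by
  obtain ⟨γ, -, -, h3⟩ := exγ
  refine (h3 ⟨x5, x5_MM⟩).1 (pow_eq_one_cop (p := 5) ?_ (by rw [card_SL3]; decide))
  rw [← Prod.pow_snd, ← map_pow, x55, map_one]
  rfl

theorem LJ_x5 : LJ ⊓ centralizer {x5} = Z0 := by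
  have h0 : Z0 ≤ LJ ⊓ centralizer {x5} := fun z hz => ⟨map_mono ZK_LK hz, mem_centralizer_singleton_iff.2 (x5_cent z hz)⟩
  have h1 := card_modEq (p := 5) (ord_x5 ▸ pow_orderOf_eq_one x5) (norm_LJ.ge x5_MM)
  have h2 := card_modEq (A := LJ ⊓ centralizer {x5}) (p := 7) (ord_ι7 ▸ pow_orderOf_eq_one (ι t7))
    (mem_normalizer_fintype fun y hy => ⟨(mem_normalizer_iff.1 (norm_LJ.ge (ι_norm.2 t7_KT)) y).1 hy.1,
      (centralizer _).mul_mem (mul_mem (mem_centralizer_singleton_iff.2 x5_comm.1.symm) hy.2)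
        (inv_mem (mem_centralizer_singleton_iff.2 x5_comm.1.symm))⟩)
  rw [show LJ ⊓ centralizer {x5} ⊓ centralizer {ι t7} = ⊥ from eq_bot_iff.2 fun y hy =>
    LJ_t7 hy.1.1 (mem_centralizer_singleton_iff.1 hy.2), card_bot] at h2
  obtain ⟨k, hk, e⟩ := (Nat.dvd_prime_pow Nat.prime_two).1 (card_LJ ▸ card_dvd_of_le (inf_le_left : LJ ⊓ centralizer {x5} ≤ LJ))
  have h3 : k ≠ 15 := by
    rintro rfl
    have hV := (RK_kw [17, 18]).mem_V.2 (by decide +kernel)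
    exact x5_comm.2.2 (mem_centralizer_singleton_iff.1 ((eq_of_le_of_card_ge inf_le_left (card_LJ.trans e.symm).le).ge
      ⟨_, V9_LK hV (mem_F1 hV (by rw [← (RK_kw _).2]; decide +kernel)), rfl⟩).2).symm
  rw [card_LJ, e] at h1
  rw [e] at h2
  refine (eq_of_le_of_card_ge h0 ?_).symm
  rw [e, card_Z0]
  interval_cases k <;> first | decide | exact absurd h1 (by decide) | exact absurd h2 (by decide) | exact absurd rfl h3

/-- the statement on subgroups of order five -/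
def P5 {G : Type*} [Group G] (Q : Subgroup G) : Prop :=
  (∃ I : Subgroup G, IsInternalDirectProduct Q I (centralizer (Q : Set G)) ∧
    ∃ (E : Subgroup I) (_ : E.Normal), IsElementaryAbelian 2 E ∧ Nat.card E = 8 ∧
      Nonempty (I ⧸ E ≃* SL3) ∧ ∀ K : Subgroup I, ¬ E.IsComplement' K) ∧
  (∃ R : Subgroup G, Q ≤ R ∧ R ≤ normalizer (Q : Set G) ∧ Nat.card R = 20 ∧ R ⊓ centralizer (Q : Set G) = Q) ∧
  Nat.card (normalizer (Q : Set G)) = 2 ^ 8 * 3 * 5 * 7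

theorem P5.tr {H G : Type*} [Group H] [Group G] [Finite H] (f : H ≃* G) {Q : Subgroup H} (h : P5 Q) : P5 (mp f Q) := by
  obtain ⟨⟨I, h1, E, _, h2, h3, ⟨e⟩, h4⟩, ⟨R, h5, h6, h7, h8⟩, h9⟩ := h
  rw [P5, mp_norm, mp_cent, mp_card]
  have := mp_normal (f := mpE f I) (A := E)
  obtain ⟨e'⟩ := quot_mp (f := mpE f I) (A := E) rfl
  refine ⟨⟨_, idp_mp f h1, _, this, mp_ea.2 h2, (mp_card _).trans h3, ⟨e'.symm.trans e⟩, fun K hK => ?_⟩,
    ⟨_, mp_le.2 h5, mp_le.2 h6, (mp_card _).trans h7, by rw [mp_inf, h8]⟩, h9⟩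
  obtain ⟨K, rfl⟩ := mp_surj (mpE f I) K
  exact h4 K (mp_compl hK)

theorem exR : ∃ R : Subgroup J, zpowers (ι t5) ≤ R ∧ R ≤ normalizer (zpowers (ι t5) : Set J) ∧ Nat.card R = 20 ∧
    R ⊓ centralizer (zpowers (ι t5) : Set J) = zpowers (ι t5) := by
  obtain ⟨-, h1, h2⟩ := sg_spec (gs := [c5, cr]) (l := wl [c5, cr] [[], [0], [1], [0, 0], [0, 1], [1, 0], [1, 1], [0, 0, 0], [0, 0, 1], [0, 1, 0], [0, 1, 1], [1, 0, 1], [1, 1, 0], [1, 1, 1], [0, 0, 0, 0], [0, 0, 1, 1], [0, 1, 1, 1], [1, 0, 1, 1], [1, 1, 0, 1], [1, 1, 1, 0]]) (n := 20)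
    [[], [0], [1], [0, 0], [0, 1], [1, 0], [1, 1], [0, 0, 0], [0, 0, 1], [0, 1, 0], [0, 1, 1], [1, 0, 1], [1, 1, 0], [1, 1, 1], [0, 0, 0, 0], [0, 0, 1, 1], [0, 1, 1, 1], [1, 0, 1, 1], [1, 1, 0, 1], [1, 1, 1, 0]] (by decide +kernel)
  have h3 : zpowers t5 ≤ SG [c5, cr] := zpowers_le.2 (mem_SG RK_t5 List.mem_cons_self)
  rw [← MonoidHom.map_zpowers]
  refine ⟨_, map_mono h3, map_le_iff_le_comap.2 (SG_le fun c hc x hx => ι_norm.2 (mem_normalizer_zpowers ?_)),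
    (card_mapι _).trans h2, le_antisymm ?_ (le_inf (map_mono h3) ?_)⟩
  · obtain ⟨a, -, h⟩ := anyL_iff.1 (allL_iff.1 (show allL _ (fun c => anyL [1, 2] fun a =>
      Nat.beq (kmul c c5) (kmul (pwc kmul kone c5 a) c)) = true by decide +kernel) c hc)
    exact mdK.semi RK_t5 (mdK.pow RK_t5 a) hx h ▸ npow_mem_zpowers _ a
  · rintro _ ⟨⟨x, hx, rfl⟩, h⟩
    obtain ⟨c, hc, h4⟩ := h1.forall (f := fun c => bor (not (Nat.beq (kmul c5 c) (kmul c c5))) (anyL (List.range 5) fun a =>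
      Nat.beq c (pwc kmul kone c5 a))) (by decide +kernel) hx
    simp only [bor_eq, (mdK.comm_iff RK_t5 hc).1 (ι_cent.1 h _ (mem_zpowers _)), Bool.not_true, Bool.false_or, anyL_iff] at h4
    obtain ⟨a, -, h4⟩ := h4
    exact ⟨x, mdK.func (mdK.pow RK_t5 a) (congr_beq hc h4) ▸ npow_mem_zpowers _ a, rfl⟩
  · rw [MonoidHom.map_zpowers, centralizer_zpowers, zpowers_le]; exact mem_centralizer_singleton_iff.2 rfl

theorem P5_x5 : P5 (zpowers x5) ∧ Nat.card (centralizer (zpowers x5 : Set J)) = 6720 := by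
  obtain ⟨γ, h1, h2, h3⟩ := exγ
  have ho : orderOf (⟨x5, x5_MM⟩ : MM) = 5 := (orderOf_coe _).symm.trans ord_x5
  have h0 := (h3 ⟨x5, x5_MM⟩).2 x5_cent
  have h5 : (γ ⟨x5, x5_MM⟩).1 ^ 5 = 1 := by rw [← Prod.pow_fst, ← map_pow, x55, map_one]; rfl
  have h6 (c : MM) (hc : c * ⟨x5, x5_MM⟩ = ⟨x5, x5_MM⟩ * c) : (γ c).1 ∈ zpowers (γ ⟨x5, x5_MM⟩).1 :=
    cent_S5 (orderOf_eq_prime h5 fun e => absurd (ord_x5 ▸ card_LJ ▸ LJ.orderOf_dvd_natCard ((h2 _).1 (Prod.ext e h0)))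
      (by norm_num)) (by rw [← Prod.fst_mul, ← map_mul, hc, map_mul]; rfl)
  obtain ⟨I, hI, hc, h4, φ, h7, h8⟩ := cent_split (MulEquiv.prodComm.toMonoidHom.comp γ) (by exact MulEquiv.prodComm.surjective.comp h1)
    Nat.prime_five (by rw [ker_γ fun x => MulEquiv.prodComm.map_eq_one_iff.trans (h2 x)]; norm_num) ho
    (centralizer_zpowers x5 ▸ (centralizer_le_normalizer _).trans normx5) h0 h6
  have hle : I ≤ MM := hI.2.1.trans ((centralizer_le_normalizer _).trans normx5)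
  have hZ : Z0 ≤ I := fun z hz => (h4 ⟨z, le_normalizer hz⟩).2 ⟨Subtype.ext (x5_cent z hz),
    congrArg Prod.fst ((h2 ⟨z, le_normalizer hz⟩).2 (map_mono ZK_LK hz))⟩
  have hk : φ.ker = Z0.subgroupOf I := by
    ext x
    have h9 := (h4 ⟨x, hle x.2⟩).1 x.2
    rw [MonoidHom.mem_ker, h8 x (hle x.2), mem_subgroupOf, ← LJ_x5, mem_inf, ← h2 ⟨x, hle x.2⟩, Prod.ext_iff]
    exact ⟨fun h => ⟨⟨h9.2, h⟩, mem_centralizer_singleton_iff.2 (congrArg Subtype.val h9.1)⟩, fun h => h.1.2⟩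
  have hE : Nat.card φ.ker = 8 := by rw [hk, Nat.card_congr (subgroupOfEquivOfLe hZ).toEquiv, card_Z0]; rfl
  have hj : ι (kw wj) ∈ I := (h4 ⟨_, j_MM⟩).2 ⟨Subtype.ext x5_comm.2.1.symm, by
    obtain ⟨n, hn⟩ := h6 ⟨_, j_MM⟩ (Subtype.ext x5_comm.2.1.symm)
    have h9 : (γ ⟨_, j_MM⟩).1 ^ 4 = 1 := by
      rw [← Prod.pow_fst, ← map_pow, (h2 _).2 j4]; rfl
    have h10 : (γ ⟨_, j_MM⟩).1 ^ 5 = 1 := by
      rw [← hn, ← zpow_natCast, ← zpow_mul, mul_comm, zpow_mul, zpow_natCast, h5, one_zpow]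
    rwa [pow_succ, h9, one_mul] at h10⟩
  rw [← card_ker_mul φ, MonoidHom.range_eq_top.2 h7, card_top, card_SL3, hE] at hc
  obtain ⟨P, hP⟩ := sylJ ord_x5 (by norm_num) (by norm_num)
  obtain ⟨a, n, k1, k2, k3, k4⟩ := norm_of_selfc P (by rw [hP, Nat.card_zpowers, ord_x5])
  rw [hP, hc] at k3 k4
  rw [cardJ] at k3
  have := Nat.le_of_dvd (by norm_num) k1
  refine ⟨⟨⟨I, hI, φ.ker, inferInstance, ea_of_sq fun x hx => Subtype.ext (Z0_sq _ (mem_subgroupOf.1 (hk ▸ hx))), hE,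
    ⟨QuotientGroup.quotientKerEquivOfSurjective φ h7⟩, fun X hX => ?_⟩, ?_, by rw [k4]; interval_cases a <;> omega⟩, hc⟩
  · obtain ⟨⟨z, k⟩, e, -⟩ := hX.existsUnique ⟨_, hj⟩
    have h9 := nsplit (Z0.inv_mem (mem_subgroupOf.1 (hk.le z.2)))
    rw [show ι (kw wj) = z * k from congrArg Subtype.val e.symm, inv_mul_cancel_left] at h9
    exact h9.2 (congrArg Subtype.val (disjoint_def.1 hX.disjoint (hk.ge (show (k : I) ^ 4 ∈ _ from h9.1)) (X.pow_mem k.2 4)))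
  · obtain ⟨R, r1, r2, r3, r4⟩ := exR
    obtain ⟨R, rfl⟩ := mp_surj (MulAut.conj gg) R
    rw [← gg_x5, mp_zpowers] at r1 r2 r4
    rw [mp_norm] at r2
    rw [mp_cent, mp_inf, mp_inj] at r4
    exact ⟨R, mp_le.1 r1, mp_le.1 r2, (mp_card R).symm.trans r3, r4⟩

theorem r72 {G : Type*} [Group G] (f : J ≃* G) {Q : Subgroup G} (hQ : Nat.card Q = 5) : ¬ 25 ∣ Nat.card G ∧ P5 Q := by
  obtain ⟨f', rfl⟩ := prime_mp f Nat.prime_five (by norm_num) ord_x5 hQ
  exact ⟨by rw [← Nat.card_congr f.toEquiv, cardJ]; norm_num, P5_x5.1.tr f'⟩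

theorem cent5 {x : J} (h : orderOf x = 5) : Nat.card (centralizer ({x} : Set J)) = 6720 := by
  obtain ⟨f, hf⟩ := prime_mp (MulEquiv.refl J) Nat.prime_five (by norm_num) ord_x5 ((Nat.card_zpowers x).trans h)
  rw [← centralizer_zpowers, ← hf, mp_cent, mp_card, P5_x5.2]

theorem LJ_nsplit (X : Subgroup MM) : ¬ (LJ.subgroupOf MM).IsComplement' X := fun hX => by
  obtain ⟨γ, -, h2, -⟩ := exγ
  have lift (m : MM) : ∃ k ∈ X, γ k = γ m := by
    obtain ⟨⟨l, k⟩, e, -⟩ := hX.existsUnique m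
    exact ⟨k, k.2, by rw [← e, map_mul, (h2 _).2 l.2, one_mul]⟩
  have inj {k : MM} (hk : k ∈ X) (h : γ k = 1) : k = 1 := disjoint_def.1 hX.disjoint ((h2 k).1 h) hk
  obtain ⟨a, ha, e1⟩ := lift ⟨x5, x5_MM⟩
  obtain ⟨b, hb, e2⟩ := lift ⟨_, j_MM⟩
  have h5 : (⟨x5, x5_MM⟩ : MM) ^ 5 ^ 1 = 1 := x55
  have hc : (⟨_, j_MM⟩ : MM) * ⟨x5, x5_MM⟩ = ⟨x5, x5_MM⟩ * ⟨_, j_MM⟩ := Subtype.ext x5_comm.2.1.symm
  obtain ⟨u, hu, e3⟩ := conj_of_ker γ Nat.prime_five (by rw [ker_γ h2]; norm_num) h5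
    (inj (X.pow_mem ha _) (by rw [map_pow, e1, ← map_pow, h5, map_one])) e1.symm
  have h3 : b * a = a * b := mul_inv_eq_one.1 (inj (X.mul_mem (X.mul_mem hb ha) (X.inv_mem (X.mul_mem ha hb)))
    (by rw [map_mul, map_inv, map_mul, map_mul, e1, e2, ← map_mul, hc, map_mul, mul_inv_cancel]))
  have h4 : (u * b * u⁻¹ * (⟨_, j_MM⟩ : MM)⁻¹).1 ∈ Z0 := LJ_x5.le ⟨(h2 _).1 (by simp [hu, e2]),
    (centralizer _).mul_mem (mem_centralizer_singleton_iff.2 (congrArg Subtype.val (show u * b * u⁻¹ * ⟨x5, x5_MM⟩ = ⟨x5, x5_MM⟩ * (u * b * u⁻¹) by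
      rw [← e3]; exact Eq.trans (by group) ((congrArg (u * · * u⁻¹) h3).trans (by group)))))
      (inv_mem (mem_centralizer_singleton_iff.2 x5_comm.2.1.symm))⟩
  refine (nsplit h4).2 (congrArg Subtype.val (show (u * b * u⁻¹ * (⟨_, j_MM⟩ : MM)⁻¹ * ⟨_, j_MM⟩) ^ 4 = 1 from ?_))
  rw [inv_mul_cancel_right, conj_pow, inj (X.pow_mem hb 4) (by
    rw [map_pow, e2, ← map_pow, (h2 _).2 j4])]
  group

theorem r74 {G : Type*} [Group G] (f : J ≃* G) : ∃ L : Subgroup G, IsSpecial 2 L ∧ Nat.card L = 2 ^ 15 ∧ Nat.card (center L) = 8 ∧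
    Nonempty (normalizer (L : Set G) ⧸ L.subgroupOf (normalizer (L : Set G)) ≃* Equiv.Perm (Fin 5) × SL3) ∧
    (∀ K : Subgroup (normalizer (L : Set G)), ¬ (L.subgroupOf (normalizer (L : Set G))).IsComplement' K) ∧
    (∃ K₁ : Subgroup G, K₁ ≤ normalizer (L : Set G) ∧ Nonempty (K₁ ≃* Equiv.Perm (Fin 5))) ∧
    (∃ K₂ : Subgroup G, K₂ ≤ normalizer (L : Set G) ∧ Nonempty (K₂ ≃* SL3)) ∧
    (∃ Q : Sylow 5 G, normalizer ((Q : Subgroup G) : Set G) ≤ normalizer (L : Set G)) ∧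
    (∃ S : Sylow 7 G, normalizer ((S : Subgroup G) : Set G) ≤ normalizer (L : Set G)) := by
  obtain ⟨γ, h1, h2, -⟩ := exγ
  have hN : normalizer (mp f LJ : Set G) = mp f MM := by rw [mp_norm, norm_LJ]
  have key {p : ℕ} [Fact p.Prime] {x : J} (h : ∃ P : Sylow p J, (P : Subgroup J) = zpowers x)
      (h' : normalizer (zpowers x : Set J) ≤ MM) : ∃ Q : Sylow p G, normalizer ((Q : Subgroup G) : Set G) ≤ mp f MM := by
    obtain ⟨P, hP⟩ := h
    obtain ⟨Q, hQ⟩ := sylow_mp f P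
    exact ⟨Q, by rwa [hQ, mp_norm, mp_le, hP]⟩
  refine ⟨mp f LJ, special_tr (mpE f LJ) LJ_special.1, (mp_card _).trans card_LJ,
    by rw [← mp_center (f := mpE f LJ), mp_card, LJ_special.2], ⟨QuotientGroup.liftEquiv _
      (φ := γ.comp ((MulEquiv.subgroupCongr hN).trans (mpE f MM).symm).toMonoidHom) (h1.comp (MulEquiv.surjective _))
      (Subgroup.ext fun x => mem_mp.trans (h2 ((mpE f MM).symm (MulEquiv.subgroupCongr hN x))).symm)⟩, ?_⟩
  rw [hN]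
  obtain ⟨⟨I, hI, ⟨e⟩⟩, -⟩ := P7_t7.1
  obtain ⟨X, hX, ⟨e'⟩⟩ := exL32
  refine ⟨fun K hK => ?_, ⟨_, mp_le.2 (hI.2.1.trans ((centralizer_le_normalizer _).trans norm7)), ⟨(mpE f I).symm.trans e⟩⟩,
    ⟨_, mp_le.2 hX, ⟨(mpE f X).symm.trans e'⟩⟩, key (sylJ ord_x5 (by norm_num) (by norm_num)) normx5,
    key (sylJ ord_ι7 (by norm_num) (by norm_num)) norm7⟩
  obtain ⟨K, rfl⟩ := mp_surj (mpE f MM) K
  exact LJ_nsplit K (mp_compl (mp_sub (f := f) LJ MM ▸ hK))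

end Cfsg.Agent.J4F
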