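import Cfsg.Agent.J4F.Cls0
import Cfsg.Agent.J4F.Five

/-! The class equation, and centralisers of elements of order `11` of `J4` (helper3). -/

set_option autoImplicit false

namespace Cfsg.Agent.J4F.Cl
open Cfsg.Agent.Comp Cfsg.Agent.Golay Cfsg.Agent.J4T Cfsg.Agent.J4T.C
open Subgroup

section gen
variable {G : Type*} [Group G] [Finite G] {x y : G}

/-- Elements of order `n` with bounds for the centralisers, pairwise not conjugate. -/
def Gd (n : ℕ) (l : List (G × ℕ)) : Prop :=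
  (∀ a ∈ l, orderOf a.1 = n ∧ Nat.card (centralizer ({a.1} : Set G)) ≤ a.2) ∧ l.Pairwise fun a b => ¬ IsConj a.1 b.1

omit [Finite G] in
theorem card_carrier (x : G) :
    (ConjClasses.mk x).carrier.ncard * Nat.card (centralizer ({x} : Set G)) = Nat.card G := by
  rw [nat_card_centralizer_nat_card_stabilizer, ← ConjAct.orbit_eq_carrier_conjClasses, ← MulAction.index_stabilizer]
  exact index_mul_card _

theorem assemble (L : List (ℕ × List (G × ℕ))) (hn : (L.map Prod.fst).Nodup) (h : ∀ q ∈ L, Gd q.1 q.2) {N : ℕ}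
    (hN : Nat.card G = N) (hs : N ≤ ((L.flatMap Prod.snd).map fun a => N / a.2).sum) :
    Nat.card (ConjClasses G) = (L.flatMap Prod.snd).length := by
  classical
  have h1 : (L.flatMap Prod.snd).Pairwise fun a b => ¬ IsConj a.1 b.1 :=
    List.pairwise_flatMap.2 ⟨fun q hq => (h q hq).2, (List.pairwise_map.1 hn).imp_of_mem fun {a b} ha hb e x hx y hy c => by
      obtain ⟨g, c⟩ := isConj_iff.1 c
      exact e (by rw [← ((h a ha).1 x hx).1, ← ((h b hb).1 y hy).1, ← c]; exact ((MulAut.conj g).orderOf_eq _).symm)⟩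
  have h2 : ∀ a ∈ L.flatMap Prod.snd, Nat.card (centralizer ({a.1} : Set G)) ≤ a.2 := fun a ha =>
    let ⟨q, hq, e⟩ := List.mem_flatMap.1 ha; ((h q hq).1 a e).2
  generalize L.flatMap Prod.snd = l at *
  have h3 : (l.map fun a => ConjClasses.mk a.1).Nodup :=
    List.pairwise_map.2 (h1.imp fun c e => c (ConjClasses.mk_eq_mk_iff_isConj.1 e))
  have := Fintype.ofFinite (ConjClasses G)
  have h4 := Group.sum_card_conj_classes_eq_card G
  rw [finsum_eq_sum_of_fintype, hN] at h4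
  have h5 : N ≤ ∑ c ∈ (l.map fun a => ConjClasses.mk a.1).toFinset, c.carrier.ncard := by
    rw [List.sum_toFinset _ h3, List.map_map]
    refine hs.trans (List.sum_le_sum fun a ha => Nat.div_le_of_le_mul ?_)
    rw [← hN, ← card_carrier a.1, mul_comm]
    exact Nat.mul_le_mul_right _ (h2 a ha)
  rw [Nat.card_eq_fintype_card, ← List.length_map (fun a => ConjClasses.mk a.1), ← List.toFinset_card_of_nodup h3,
    ← Finset.card_univ]
  congr 1
  by_contra e
  obtain ⟨c, hc⟩ : ∃ c, c ∉ (l.map fun a => ConjClasses.mk a.1).toFinset := by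
    by_contra hc
    exact e (Finset.eq_univ_of_forall fun c => not_not.1 fun h => hc ⟨c, h⟩).symm
  refine absurd (Finset.sum_lt_sum_of_subset (Finset.subset_univ _) (Finset.mem_univ c) hc ?_ fun _ _ _ => Nat.zero_le _)
    (not_lt.2 (h4.le.trans h5))
  obtain ⟨x, rfl⟩ := ConjClasses.exists_rep c
  exact (Set.ncard_pos (Set.toFinite _)).2 ⟨x, ConjClasses.mem_carrier_mk⟩

theorem nc_gal {k e : ℕ} (he : Nat.card (normalizer (zpowers x : Set G)) = Nat.card (centralizer ({x} : Set G)) * e)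
    (h : IsConj x (x ^ k)) : k ^ e ≡ 1 [MOD orderOf x] := by
  obtain ⟨g, h⟩ := isConj_iff.1 h
  have hg : g ∈ normalizer (zpowers x : Set G) := mem_normalizer_fintype (by
    rintro _ ⟨i, rfl⟩
    exact ⟨k * i, by simp only [zpow_mul, zpow_natCast, ← h, conj_zpow]⟩)
  have h1 := ((centralizer (zpowers x : Set G)).subgroupOf (normalizer (zpowers x : Set G))).card_mul_index
  rw [Nat.card_congr (subgroupOfEquivOfLe (centralizer_le_normalizer _)).toEquiv, he, centralizer_zpowers] at h1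
  have h2 := ((centralizer (zpowers x : Set G)).subgroupOf (normalizer (zpowers x : Set G))).pow_index_mem ⟨g, hg⟩
  rw [centralizer_zpowers, Nat.eq_of_mul_eq_mul_left Nat.card_pos h1] at h2
  have h3 := conj_pow_pow h e
  rw [show g ^ e * x = x * g ^ e from mem_centralizer_singleton_iff.1 h2, mul_inv_cancel_right] at h3
  exact (pow_eq_pow_iff_modEq.1 (h3.symm.trans (pow_one x).symm))

theorem gd3 {p k e : ℕ} (hx : orderOf x = p)
    (h : ∀ y : G, orderOf y = p → Nat.card (centralizer ({y} : Set G)) = p ∧ Nat.card (normalizer (zpowers y : Set G)) = p * e)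
    (hk : p.Coprime k ∧ ¬ k ^ e ≡ 1 [MOD p] ∧ ¬ (k * k) ^ e ≡ 1 [MOD p]) : Gd p [(x, p), (x ^ k, p), ((x ^ k) ^ k, p)] := by
  have o : ∀ {y : G}, orderOf y = p → orderOf (y ^ k) = p := fun hy => (Nat.Coprime.orderOf_pow (hy ▸ hk.1)).trans hy
  have n : ∀ {y : G} {j : ℕ}, orderOf y = p → ¬ j ^ e ≡ 1 [MOD p] → ¬ IsConj y (y ^ j) := fun hy hj c =>
    hj (hy ▸ nc_gal (by rw [(h _ hy).1, (h _ hy).2]) c)
  refine ⟨?_, ?_⟩
  · simp only [List.forall_mem_cons, List.not_mem_nil]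
    exact ⟨⟨hx, (h _ hx).1.le⟩, ⟨o hx, (h _ (o hx)).1.le⟩, ⟨o (o hx), (h _ (o (o hx))).1.le⟩, by simp⟩
  · simp only [List.pairwise_cons, List.forall_mem_cons, List.not_mem_nil]
    exact ⟨⟨n hx hk.2.1, pow_mul x k k ▸ n hx hk.2.2, by simp⟩, ⟨n (o hx) hk.2.1, by simp⟩, by simp⟩

omit [Finite G] in
theorem card_inf_conj (g x y : G) : Nat.card ↥(centralizer ({x} : Set G) ⊓ centralizer ({y} : Set G)) =
    Nat.card ↥(centralizer ({g * x * g⁻¹} : Set G) ⊓ centralizer ({g * y * g⁻¹} : Set G)) := by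
  refine Nat.card_congr ((MulAut.conj g).toEquiv.subtypeEquiv fun a => ?_)
  simp only [mem_inf, mem_centralizer_singleton_iff, MulEquiv.toEquiv_eq_coe, EquivLike.coe_coe, MulAut.conj_apply, conj_mul]
  exact and_congr ⟨fun e => by rw [e], fun e => by simpa using e⟩ ⟨fun e => by rw [e], fun e => by simpa using e⟩

theorem syl_cent {p k : ℕ} (hp : p.Prime) (h : p ^ (k + 1) ∣ Nat.card (centralizer ({x} : Set G))) :
    ∃ y : G, orderOf y = p ∧ x ∈ centralizer {y} ∧
      p ^ (k + 1) ∣ Nat.card ↥(centralizer ({y} : Set G) ⊓ centralizer ({x} : Set G)) := by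
  have := Fact.mk hp
  obtain ⟨S, hS⟩ := Sylow.exists_subgroup_card_pow_prime p h
  have h1 : IsPGroup p S := .of_card hS
  have : Nontrivial S := Finite.one_lt_card_iff_nontrivial.1 (hS ▸ Nat.one_lt_pow k.succ_ne_zero hp.one_lt)
  obtain ⟨n, hn, e⟩ := (h1.to_subgroup (center S)).nontrivial_iff_card.1 h1.center_nontrivial
  obtain ⟨y, hy⟩ := exists_prime_orderOf_dvd_card' (G := center S) p (e ▸ dvd_pow_self p hn.ne')
  refine ⟨y.1.1.1, by rw [orderOf_coe, orderOf_coe, orderOf_coe, hy],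
    mem_centralizer_singleton_iff.2 (mem_centralizer_singleton_iff.1 y.1.1.2).symm, ?_⟩
  rw [← hS, ← card_map_of_injective (subtype_injective _)]
  refine card_dvd_of_le ?_
  rintro _ ⟨s, hs, rfl⟩
  exact ⟨mem_centralizer_singleton_iff.2 (congrArg (fun a => a.1.1) (mem_center_iff.1 y.2 ⟨s, hs⟩)), s.2⟩

theorem cent_inv' (x : G) : Nat.card (centralizer ({x⁻¹} : Set G)) ≤ Nat.card (centralizer ({x} : Set G)) :=
  card_le_of_le fun _ h => mem_centralizer_singleton_iff.2
    (Commute.inv_right_iff.1 (mem_centralizer_singleton_iff.1 h))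

omit [Finite G] in
theorem inv_cj {z : G} {k : ℕ} (hz : orderOf z = 2) (h : IsConj z (x ^ k)) : IsConj z (x⁻¹ ^ k) := by
  obtain ⟨g, e⟩ := isConj_iff.1 h
  refine isConj_iff.2 ⟨g, ?_⟩
  rw [inv_pow, ← e, conj_inv, inv_eq_of_mul_eq_one_right (by rw [← sq, ← hz, pow_orderOf_eq_one] : z * z = 1)]

end gen

theorem zt {x y : J} (k : ℕ) (hx : IsConj z0 (x ^ k)) (hy : IsConj t0 (y ^ k)) : ¬ IsConj x y :=
  nc_pow k fun e => not_conj_z0_t0 ((hx.trans e).trans hy.symm)

theorem nc7 {x : J} (m : ℕ) (h : orderOf (x ^ m) = 7) : ¬ IsConj x x⁻¹ := nc_pow m fun e => by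
  rw [inv_pow, inv_eq_of_mul_eq_one_right (by rw [← pow_succ']; exact orderOf_dvd_iff_pow_eq_one.1 h.dvd :
    x ^ m * (x ^ m) ^ 6 = 1)] at e
  have := nc_gal (e := 3) (by
    rw [cent7 h]; exact (r73 (MulEquiv.refl J) (S := zpowers (x ^ m)) ((Nat.card_zpowers _).trans h)).2.2.2) e
  rw [h] at this
  exact absurd this (by decide)

theorem cent22 {w : J} (hw : w ∈ centralizer {z0}) (h : orderOf w = 11) :
    Nat.card ↥(centralizer ({z0} : Set J) ⊓ centralizer ({w} : Set J)) = 264 := by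
  have := fact11
  obtain ⟨-, hQ, -, cQ, -, cN, -⟩ := C.struct
  obtain ⟨-, hN, ⟨e⟩⟩ := C.main
  let v : H0 := ⟨w, hw⟩
  have hv : orderOf v = 11 := by rw [← orderOf_coe, h]
  have v11 : v ^ 11 = 1 := hv ▸ pow_orderOf_eq_one v
  have e0 : Nat.card ↥(centralizer ({z0} : Set J) ⊓ centralizer ({w} : Set J)) = Nat.card (centralizer ({v} : Set H0)) := by
    rw [← card_map_of_injective (subtype_injective H0)]
    congr 2
    ext g
    refine ⟨fun hg => ⟨⟨g, hg.1⟩, mem_centralizer_singleton_iff.2 (Subtype.ext (mem_centralizer_singleton_iff.1 hg.2)), rfl⟩, ?_⟩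
    rintro ⟨g, hg, rfl⟩
    exact ⟨g.2, mem_centralizer_singleton_iff.2 (congrArg Subtype.val (mem_centralizer_singleton_iff.1 hg))⟩
  let j : MulAut Cfsg.Spor.M22 →* MG :=
    (inclusion (inf_le_left : D22 ≤ _)).comp (MulEquiv.ofBijective conjD conjD_bijective).symm.toMonoidHom
  have ji : Function.Injective (j.comp e.toMonoidHom) :=
    ((inclusion_injective (inf_le_left : D22 ≤ _)).comp (MulEquiv.injective _)).comp e.injective
  let f := (j.comp e.toMonoidHom).comp (QuotientGroup.mk' (NN.subgroupOf H0))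
  have kf : f.ker = NN.subgroupOf H0 := by
    rw [← MonoidHom.comap_ker, (MonoidHom.ker_eq_bot_iff _).2 ji, MonoidHom.comap_bot, QuotientGroup.ker_mk']
  have of : orderOf (f v) = 11 := orderOf_eq_prime (by rw [← map_pow, v11, map_one]) fun e => by
    have := Subgroup.orderOf_dvd_natCard _ (kf.le e)
    rw [hv, cN] at this; omega
  have h1 := (card_cent_le_hom f v).trans (Nat.mul_le_mul_left _ (cent_MG (.inl rfl) of))
  have h2 := card_inf_cent_modEq (NN.subgroupOf H0) v11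
  have h3 := card_inf_cent_modEq (Q0.subgroupOf H0) v11
  have le : Q0.subgroupOf H0 ≤ NN.subgroupOf H0 := comap_mono Q0_le
  have h4 : Nat.card ↥(Q0.subgroupOf H0 ⊓ centralizer {v}) = 8 := by
    obtain ⟨a, ha, e⟩ := (Nat.dvd_prime_pow Nat.prime_two).1 (cQ ▸ card_dvd_of_le (inf_le_left (b := centralizer {v})))
    have h5 : a ≠ 13 := fun h5 => by
      have e1 : Q0.subgroupOf H0 ⊓ centralizer {v} = Q0.subgroupOf H0 := eq_of_le_of_card_ge inf_le_left (by rw [e, h5, cQ])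
      have e2 := isType.2.2.2.1
      rw [core_eq] at e2
      have := Subgroup.orderOf_dvd_natCard (Q0.subgroupOf H0) (x := v) (e2 ⟨hw, mem_centralizer_iff.2 fun q hq =>
        congrArg Subtype.val (mem_centralizer_singleton_iff.1 (e1.ge (x := ⟨q, NN_le (Q0_le hq)⟩) hq).2)⟩)
      rw [hv, cQ] at this; omega
    rw [e, cQ, Nat.ModEq] at h3
    rw [e]
    interval_cases a <;> simp_all
  have h6 := BG.card_mul_relIndex (inf_le_inf_right (centralizer {v}) le)
  have h7 := BG.card_mul_relIndex le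
  have h8 := relIndex_le_of_le_right (H := Q0.subgroupOf H0) (inf_le_left (b := centralizer {v}))
    (L := NN.subgroupOf H0) (by rw [cQ, cN] at h7; omega)
  rw [← inf_relIndex_right, ← inf_assoc, inf_of_le_left le] at h8
  rw [cQ, cN] at h7
  rw [h4] at h6
  rw [cN, Nat.ModEq] at h2
  have h9 : Nat.card ↥(NN.subgroupOf H0 ⊓ centralizer {v}) = 24 := by omega
  have d1 : 24 ∣ Nat.card (centralizer ({v} : Set H0)) := h9 ▸ card_dvd_of_le inf_le_right
  have d2 : 11 ∣ Nat.card (centralizer ({v} : Set H0)) :=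
    hv ▸ Subgroup.orderOf_dvd_natCard _ (mem_centralizer_singleton_iff.2 rfl)
  have := Nat.card_pos (α := centralizer ({v} : Set H0))
  rw [kf, h9] at h1
  omega

theorem cent22B {w : J} (hw : w ∈ centralizer {t0}) (h : orderOf w = 11) :
    Nat.card ↥(centralizer ({t0} : Set J) ⊓ centralizer ({w} : Set J)) ≤ 22 := by
  obtain ⟨k, rfl⟩ := cent_t0 hw
  refine le_trans (card_le_of_le ?_) ((card_cent_stab k).le.trans (cent_K (.inl rfl) ((orderOf_injective ι ι_inj _).symm.trans h)))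
  exact fun g hg => ⟨hg.2, (Spor.smul_basePt_eq_iff _ _).2 (cent_t0 hg.1)⟩

theorem cY : centralizer {Y 13} ≤ H0 := by
  rw [← centralizer_zpowers]; exact (centralizer_le_normalizer _).trans norm_P0

theorem loc11 {x : J} (hx : orderOf x = 11) {p k : ℕ} (hp : p = 2 ∨ p = 3) (h : p ^ (k + 1) ∣ cC x) :
    (p ^ (k + 1) ∣ 264 ∧ 264 ∣ cC x) ∨ 11 * p ^ (k + 1) ≤ 22 := by
  obtain ⟨y, hy, c, d⟩ := syl_cent (by rcases hp with rfl | rfl <;> norm_num) h
  have key : ∀ {u : J}, IsConj u y → ∃ w ∈ centralizer {u}, orderOf w = 11 ∧ cC w = cC x ∧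
      p ^ (k + 1) ∣ Nat.card ↥(centralizer ({u} : Set J) ⊓ centralizer ({w} : Set J)) := fun e => by
    obtain ⟨g, rfl⟩ := isConj_iff.1 e.symm
    exact ⟨g * x * g⁻¹, mem_centralizer_singleton_iff.2 (by rw [conj_mul, conj_mul, mem_centralizer_singleton_iff.1 c]),
      ((MulAut.conj g).orderOf_eq x).trans hx, (card_cent_conj (isConj_iff.2 ⟨g, rfl⟩)).symm, card_inf_conj g y x ▸ d⟩
  rcases hp with rfl | rfl
  · rcases two_classes hy with e | e <;> obtain ⟨w, h1, h2, h3, h4⟩ := key e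
    · exact .inl ⟨cent22 h1 h2 ▸ h4, h3 ▸ cent22 h1 h2 ▸ card_dvd_of_le inf_le_right⟩
    · refine .inr ((Nat.le_of_dvd Nat.card_pos (Nat.Coprime.mul_dvd_of_dvd_of_dvd
        (Nat.Coprime.pow_right _ (by norm_num)) ?_ h4)).trans (cent22B h1 h2))
      exact h2 ▸ Subgroup.orderOf_dvd_natCard _ ⟨h1, mem_centralizer_singleton_iff.2 rfl⟩
  · obtain ⟨w, h1, h2, h3, h4⟩ := key (three_class hy)
    exact .inl ⟨cent22 (cY h1) h2 ▸ h4.trans (card_dvd_of_le (inf_le_inf_right _ cY)),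
      h3 ▸ cent22 (cY h1) h2 ▸ card_dvd_of_le inf_le_right⟩

theorem h3J : ∀ y : J, orderOf y = 3 → Nat.card (centralizer ({y} : Set J)) ∣ 2 ^ 13 * 3 * 887040 :=
  fun y hy => by rw [cent3 hy]; norm_num

theorem u11 {x : J} (hx : orderOf x = 11) : cC x ≤ 31944 := by
  have cp : ∀ {q c : ℕ}, q.Prime → (∀ y : J, orderOf y = q → cC y = c) → ¬ 11 ∣ c → (cC x).Coprime q := fun hq h hc =>
    ((Nat.Prime.coprime_iff_not_dvd hq).2 fun d => by
      obtain ⟨y, o, -, d⟩ := exists_comm hq d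
      exact hc (hx ▸ h y o ▸ d)).symm
  have d0 : cC x ∣ 5 * (7 * (23 * (29 * (31 * (37 * (43 * (2 ^ 21 * (3 ^ 3 * 1331)))))))) :=
    (card_subgroup_dvd_card _).trans (dvd_of_eq cardJ)
  have d1 := (cp (by norm_num) (fun _ h => (big43 h3J h).1) (by norm_num)).dvd_of_dvd_mul_left
    ((cp (by norm_num) (fun _ h => (big37 h3J h).1) (by norm_num)).dvd_of_dvd_mul_left
    ((cp (by norm_num) (fun _ h => (big31 h3J h).1) (by norm_num)).dvd_of_dvd_mul_left
    ((cp (by norm_num) (fun _ h => (big29 h3J h).1) (by norm_num)).dvd_of_dvd_mul_left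
    ((cp (by norm_num) (fun _ h => (big23 h).1) (by norm_num)).dvd_of_dvd_mul_left
    ((cp (by norm_num) (fun _ => cent7) (by norm_num)).dvd_of_dvd_mul_left
    ((cp (by norm_num) (fun _ => cent5) (by norm_num)).dvd_of_dvd_mul_left d0))))))
  obtain ⟨a', b', ha, hb', e⟩ := Nat.dvd_mul.1 d1
  obtain ⟨b'', c, hb, hc, rfl⟩ := Nat.dvd_mul.1 hb'
  obtain ⟨a, -, rfl⟩ := (Nat.dvd_prime_pow Nat.prime_two).1 ha
  obtain ⟨b, -, rfl⟩ := (Nat.dvd_prime_pow Nat.prime_three).1 hb
  have h2 : a ≤ 3 := not_lt.1 fun h => by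
    have := loc11 (k := 3) hx (.inl rfl) (e ▸ (pow_dvd_pow 2 h).mul_right _); omega
  have h3 : b ≤ 1 := not_lt.1 fun h => by
    have := loc11 (k := 1) hx (.inr rfl) (e ▸ ((pow_dvd_pow 3 h).mul_right _).mul_left _); omega
  rw [← e]
  exact (Nat.mul_le_mul (Nat.pow_le_pow_right two_pos h2) (Nat.mul_le_mul (Nat.pow_le_pow_right three_pos h3)
    (Nat.le_of_dvd (by norm_num) hc)) :)

theorem u11B : cC ea ≤ 242 := by
  obtain ⟨j, -, h4, e⟩ := cent_ea_eq
  have h2 := loc11 (k := 1) ord_ea (.inl rfl)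
  have h3 := loc11 (k := 0) ord_ea (.inr rfl)
  rw [cC, e] at h2 h3 ⊢
  interval_cases j <;> omega

theorem u22 {x : J} (h : orderOf x = 22) (e : x ^ 11 = z0) : cC x ≤ 264 :=
  (card_le_of_le (le_inf (e ▸ cent_pow x 11) (cent_pow x 2))).trans (cent22 (pow_mem ((e ▸ cent_pow x 11 :)
    (mem_centralizer_singleton_iff.2 rfl)) 2) (by rw [orderOf_pow, h]; rfl)).le

theorem u22B {x : J} (h : orderOf x = 22) (e : x ^ 11 = t0) : cC x ≤ 22 :=
  (card_le_of_le (le_inf (e ▸ cent_pow x 11) (cent_pow x 2))).trans (cent22B (pow_mem ((e ▸ cent_pow x 11 :)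
    (mem_centralizer_singleton_iff.2 rfl)) 2) (by rw [orderOf_pow, h]; rfl))

end Cfsg.Agent.J4F.Cl
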