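import Cfsg.Agent.J4F.Cls1
import Cfsg.Agent.J4F.ClsA

/-! Upper bounds for the centralisers of the `3`-, `5`- and `7`-singular elements of `J4` (helper3). -/

set_option autoImplicit false
set_option Elab.async false
set_option maxRecDepth 100000
set_option exponentiation.threshold 100000

namespace Cfsg.Agent.J4F.Cl
open Cfsg.Agent.Comp Cfsg.Agent.J4T Cfsg.Agent.J4T.C
open Subgroup

theorem oY : orderOf (Y 13) = 3 := ord_eq rY3 (by decide +kernel)
theorem uY : cC (Y 13) ≤ 2661120 := (cent3 oY).le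

theorem cz {X W : ℕ} {x w : J} (k : ℕ) (hX : RJ X x) (hW : RJ W w)
    (h : band (Nat.beq (pwc mm oJ X k) Y3) (Nat.beq (mm X Z0) W) = true) : cC x ≤ cC w := by
  rw [band_eq, Bool.and_eq_true] at h
  refine card_le_of_le fun g hg => ?_
  have h1 := mem_centralizer_singleton_iff.1 (cY ((pw_eq hX rY3 h.1 ▸ cent_pow x k :) hg))
  rw [← md.func (congr_beq (md.mul hX rZ0) h.2) hW, mem_centralizer_singleton_iff, ← mul_assoc,
    mem_centralizer_singleton_iff.1 hg, mul_assoc, h1, mul_assoc]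

theorem cjc {G X W : ℕ} {g x w : J} (hG : RJ G g) (hX : RJ X x) (hW : RJ W w)
    (h : Nat.beq (mm G X) (mm W G) = true) : IsConj x w :=
  isConj_iff.2 ⟨g, mul_inv_eq_of_eq_mul (md.func (congr_beq (md.mul hG hX) h) (md.mul hW hG))⟩

theorem u6p : cC (eJ X6p) ≤ 2304 := step2 (P := LH) (U := UH) LH 3 2 148331 1155 5 1 2304 gCa [] oX6p.r rY3 uY
  (cY.trans invH) kCa (by simp) (by decide +kernel) (by decide +kernel)
theorem u6B : cC (eJ X6B) ≤ 2304 := (card_cent_conj (cjc oG1.r oX6p.r oX6B.r (by decide +kernel))).ge.trans u6p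
theorem u6C : cC (eJ X6C) ≤ 2304 := (card_cent_conj (cjc oG1.r oX6q.r oX6C.r (by decide +kernel))).ge.trans
  ((cz 2 oX6q.r oX6p.r (by decide +kernel)).trans u6p)
theorem u6A : cC (eJ X6A) ≤ 2661120 :=
  (card_le_of_le (pw_eq oX6A.r rY3 (k := 4) (by decide +kernel) ▸ cent_pow _ 4 :)).trans uY
theorem u12A : cC (eJ X12A) ≤ 192 := step1 2 17 12 gC6B oX12A.r oX6B.r u6B kC6B (by decide +kernel)
theorem u12B : cC (eJ X12B) ≤ 192 := step1 2 35 12 gC6B oX12B.r oX6B.r u6B kC6B (by decide +kernel)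
theorem u12C : cC (eJ X12C) ≤ 48 := step1 2 387 48 gC6B oX12C.r oX6C.r u6C kC6B (by decide +kernel)
theorem u24 : cC (eJ X24) ≤ 48 := step1 2 7 4 gC12B oX24.r oX12B.r u12B kC12B (by decide +kernel)
theorem u24B : cC (eJ X24B) ≤ 48 := step1 2 17 4 gC12B oX24B.r oX12B.r u12B kC12B (by decide +kernel)
theorem o5 : orderOf (eJ B5) = 5 := ord_eq oB5.r (by decide +kernel)
theorem o7 : orderOf (eJ S7) = 7 := ord_eq oS7.r (by decide +kernel)
theorem u5 : cC (eJ B5) ≤ 6720 := (cent5 o5).le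
theorem u7 : cC (eJ S7) ≤ 840 := (cent7 o7).le
theorem u10 : cC (eJ X10) ≤ 960 := step1 2 23 7 gC5 oX10.r oB5.r u5 kC5 (by decide +kernel)
theorem u15 : cC (eJ X15) ≤ 30 := step1 3 5583 224 gC5 oX15.r oB5.r u5 kC5 (by decide +kernel)
theorem u10B : cC (eJ X10B) ≤ 80 := step1 6 1043 84 gC5 oX10B.r oB5.r u5 kC5 (by decide +kernel)
theorem u20 : cC (eJ X20) ≤ 160 := step1 2 11 6 gC10 oX20.r oX10.r u10 kC10 (by decide +kernel)
theorem u20B : cC (eJ X20B) ≤ 160 := step1 2 17 6 gC10 oX20B.r oX10.r u10 kC10 (by decide +kernel)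
theorem u30 : cC (eJ X30) ≤ 30 := step1 3 209 32 gC10 oX30.r oX10.r u10 kC10 (by decide +kernel)
theorem u40 : cC (eJ X40) ≤ 40 := step1 2 13 4 gC20 oX40.r oX20.r u20 kC20 (by decide +kernel)
theorem u40B : cC (eJ X40B) ≤ 40 := step1 2 5 4 gC20B oX40B.r oX20B.r u20B kC20B (by decide +kernel)
theorem u14 : cC (eJ X14) ≤ 84 := step1 2 22 10 gC7 oX14.r oS7.r u7 kC7 (by decide +kernel)
theorem u21 : cC (eJ X21) ≤ 42 := step1 3 55 20 gC7 oX21.r oS7.r u7 kC7 (by decide +kernel)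
theorem u14C : cC (eJ X14C) ≤ 56 := step1 4 71 15 gC7 oX14C.r oS7.r u7 kC7 (by decide +kernel)
theorem u35 : cC (eJ X35) ≤ 35 := step1 30 125 24 gC7 oX35.r oS7.r u7 kC7 (by decide +kernel)
theorem u42 : cC (eJ X42) ≤ 42 := step1 3 5 2 gC14 oX42.r oX14.r u14 kC14 (by decide +kernel)
theorem u28 : cC (eJ X28) ≤ 28 := step1 2 5 2 gC14C oX28.r oX14C.r u14C kC14C (by decide +kernel)
theorem o22 : orderOf (eJ X22) = 22 := ord_eq oX22.r (by decide +kernel)
theorem o22B : orderOf (eJ X22B) = 22 := ord_eq oX22B.r (by decide +kernel)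
theorem p22 : eJ X22 ^ 11 = z0 := pw_eq oX22.r rZ0 (by decide +kernel)
theorem p22B : eJ X22B ^ 11 = t0 := pw_eq oX22B.r rT0 (by decide +kernel)
theorem u22A : cC (eJ X22) ≤ 264 := u22 o22 p22
theorem u44 : cC (eJ X44) ≤ 44 := step1 2 17 6 gC22 oX44.r oX22.r u22A kC22 (by decide +kernel)
theorem u66 : cC (eJ X66) ≤ 66 := step1 3 7 4 gC22 oX66.r oX22.r u22A kC22 (by decide +kernel)
theorem u66B : cC (eJ X66B) ≤ 66 := step1 3 5 4 gC22 oX66B.r oX22.r u22A kC22 (by decide +kernel)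
theorem u33 : cC (eJ X33) ≤ 66 := (cz 22 oX33.r oX66.r (by decide +kernel)).trans u66
theorem u33B : cC (eJ X33B) ≤ 66 := (cz 11 oX33B.r oX66B.r (by decide +kernel)).trans u66B

end Cfsg.Agent.J4F.Cl
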