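import Cfsg.Agent.J4F.Cls2
import Cfsg.Agent.J4F.Cls3

/-! `J4` has 62 conjugacy classes (helper3). -/

set_option autoImplicit false
set_option Elab.async false
set_option maxRecDepth 100000
set_option exponentiation.threshold 100000

namespace Cfsg.Agent.J4F.Cl
open Cfsg.Agent.Comp Cfsg.Agent.J4T Cfsg.Agent.J4T.C
open Subgroup

variable {x y z w : J} {n a b c d : ℕ}

theorem gd1 (h : orderOf x = n) (u : cC x ≤ a) : Gd n [(x, a)] := ⟨by simpa using ⟨h, u⟩, by simp⟩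
theorem gdc {l : List (J × ℕ)} (h : orderOf x = n) (u : cC x ≤ a) (e : ∀ q ∈ l, ¬ IsConj x q.1) (hl : Gd n l) :
    Gd n ((x, a) :: l) := ⟨List.forall_mem_cons.2 ⟨⟨h, u⟩, hl.1⟩, List.pairwise_cons.2 ⟨e, hl.2⟩⟩
theorem gd2 (h : orderOf x = n) (u : cC x ≤ a) (h' : orderOf y = n) (u' : cC y ≤ b) (e : ¬ IsConj x y) :
    Gd n [(x, a), (y, b)] := gdc h u (by simpa using e) (gd1 h' u')
theorem gd3' (h : orderOf x = n) (u : cC x ≤ a) (e : ¬ IsConj x y) (e' : ¬ IsConj x z) (hl : Gd n [(y, b), (z, c)]) :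
    Gd n [(x, a), (y, b), (z, c)] := gdc h u (List.forall_mem_cons.2 ⟨e, List.forall_mem_singleton.2 e'⟩) hl
theorem gd7 (m : ℕ) (h : orderOf x = n) (u : cC x ≤ a) (hm : n / n.gcd m = 7) : Gd n [(x, a), (x⁻¹, a)] :=
  gd2 h u (orderOf_inv x ▸ h) ((cent_inv' x).trans u) (nc7 m (by rw [orderOf_pow, h, hm]))

theorem cjz {X : ℕ} (k : ℕ) (hX : RJ X x) (h : Nat.beq (pwc mm oJ X k) Z0 = true) : IsConj z0 (x ^ k) :=
  pw_eq hX rZ0 h ▸ IsConj.refl _
theorem cjt {X G : ℕ} (k : ℕ) (hX : RJ X x) (hG : Ok G) (h : Nat.beq (mm G T0) (mm (pwc mm oJ X k) G) = true) :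
    IsConj t0 (x ^ k) := cjc hG.r rT0 (md.pow hX k) h
theorem ok_oJ : Ok oJ := ⟨1, md.one⟩

open _root_.Classical in
/-- An element of order `p`. -/
noncomputable def xP (p : ℕ) : J := if h : ∃ x : J, orderOf x = p then h.choose else 1

theorem oP (p : ℕ) (hp : p.Prime) (h : p ∣ 86775571046077562880) : orderOf (xP p) = p := by
  have := Fact.mk hp
  have h1 : ∃ x : J, orderOf x = p := exists_prime_orderOf_dvd_card' p (cardJ ▸ h)
  rw [xP, dif_pos h1]; exact h1.choose_spec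

theorem nc33 (hx : x ^ 22 = Y 13) (hy : y ^ 11 = Y 13) (h : ¬ IsConj (x * z0) (y * z0)) : ¬ IsConj x y := fun e => by
  obtain ⟨g, e⟩ := isConj_iff.1 e
  have h1 : g * Y 13 * g⁻¹ = Y 13 ^ 2 := by nth_rw 1 [← hx]; rw [← conj_pow, e, ← hy, ← pow_mul]
  have hg : g ∈ H0 := norm_P0 (mem_normalizer_fintype (by
    rintro _ ⟨i, rfl⟩
    exact ⟨(2 : ℕ) * i, by simp only [zpow_mul, zpow_natCast, ← h1, conj_zpow]⟩))
  exact h (isConj_iff.2 ⟨g, by rw [← conj_mul, e, mem_centralizer_singleton_iff.1 hg, mul_inv_cancel_right]⟩)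

theorem q4A : orderOf (eJ X4A) = 4 := ord_eq oX4A.r (by decide +kernel)
theorem q4B : orderOf (eJ X4B) = 4 := ord_eq oX4B.r (by decide +kernel)
theorem q4C : orderOf (eJ X4C) = 4 := ord_eq oX4C.r (by decide +kernel)
theorem q6A : orderOf (eJ X6A) = 6 := ord_eq oX6A.r (by decide +kernel)
theorem q6B : orderOf (eJ X6B) = 6 := ord_eq oX6B.r (by decide +kernel)
theorem q6C : orderOf (eJ X6C) = 6 := ord_eq oX6C.r (by decide +kernel)
theorem q8A : orderOf (eJ X8A) = 8 := ord_eq oX8A.r (by decide +kernel)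
theorem q8B : orderOf (eJ X8B) = 8 := ord_eq oX8B.r (by decide +kernel)
theorem q8C : orderOf (eJ X8C) = 8 := ord_eq oX8C.r (by decide +kernel)
theorem q10 : orderOf (eJ X10) = 10 := ord_eq oX10.r (by decide +kernel)
theorem q10B : orderOf (eJ X10B) = 10 := ord_eq oX10B.r (by decide +kernel)
theorem q12A : orderOf (eJ X12A) = 12 := ord_eq oX12A.r (by decide +kernel)
theorem q12B : orderOf (eJ X12B) = 12 := ord_eq oX12B.r (by decide +kernel)
theorem q12C : orderOf (eJ X12C) = 12 := ord_eq oX12C.r (by decide +kernel)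
theorem q14 : orderOf (eJ X14) = 14 := ord_eq oX14.r (by decide +kernel)
theorem q14C : orderOf (eJ X14C) = 14 := ord_eq oX14C.r (by decide +kernel)
theorem q15 : orderOf (eJ X15) = 15 := ord_eq oX15.r (by decide +kernel)
theorem q16 : orderOf (eJ X16) = 16 := ord_eq oX16.r (by decide +kernel)
theorem q20 : orderOf (eJ X20) = 20 := ord_eq oX20.r (by decide +kernel)
theorem q20B : orderOf (eJ X20B) = 20 := ord_eq oX20B.r (by decide +kernel)
theorem q21 : orderOf (eJ X21) = 21 := ord_eq oX21.r (by decide +kernel)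
theorem q24 : orderOf (eJ X24) = 24 := ord_eq oX24.r (by decide +kernel)
theorem q24B : orderOf (eJ X24B) = 24 := ord_eq oX24B.r (by decide +kernel)
theorem q28 : orderOf (eJ X28) = 28 := ord_eq oX28.r (by decide +kernel)
theorem q30 : orderOf (eJ X30) = 30 := ord_eq oX30.r (by decide +kernel)
theorem q33 : orderOf (eJ X33) = 33 := ord_eq oX33.r (by decide +kernel)
theorem q33B : orderOf (eJ X33B) = 33 := ord_eq oX33B.r (by decide +kernel)
theorem q35 : orderOf (eJ X35) = 35 := ord_eq oX35.r (by decide +kernel)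
theorem q40 : orderOf (eJ X40) = 40 := ord_eq oX40.r (by decide +kernel)
theorem q40B : orderOf (eJ X40B) = 40 := ord_eq oX40B.r (by decide +kernel)
theorem q42 : orderOf (eJ X42) = 42 := ord_eq oX42.r (by decide +kernel)
theorem q44 : orderOf (eJ X44) = 44 := ord_eq oX44.r (by decide +kernel)
theorem q66 : orderOf (eJ X66) = 66 := ord_eq oX66.r (by decide +kernel)
theorem q66B : orderOf (eJ X66B) = 66 := ord_eq oX66B.r (by decide +kernel)
theorem n4A_4B : ¬ IsConj (eJ X4A) (eJ X4B) := nc_sec 2 1 oX4A.r oX4B.r rZ0 invH (by decide +kernel)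
theorem n6A_6B : ¬ IsConj (eJ X6A) (eJ X6B) := nc_sec 3 1 oX6A.r oX6B.r rZ0 invH (by decide +kernel)
theorem n8A_8B : ¬ IsConj (eJ X8A) (eJ X8B) := nc_sec 4 2 oX8A.r oX8B.r rZ0 invH (by decide +kernel)
theorem n8A_8C : ¬ IsConj (eJ X8A) (eJ X8C) := nc_sec 4 2 oX8A.r oX8C.r rZ0 invH (by decide +kernel)
theorem n12A_12B : ¬ IsConj (eJ X12A) (eJ X12B) := nc_sec 6 3 oX12A.r oX12B.r rZ0 invH (by decide +kernel)
theorem z4A : IsConj z0 (eJ X4A ^ 2) := cjz 2 oX4A.r (by decide +kernel)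
theorem z4B : IsConj z0 (eJ X4B ^ 2) := cjz 2 oX4B.r (by decide +kernel)
theorem z6A : IsConj z0 (eJ X6A ^ 3) := cjz 3 oX6A.r (by decide +kernel)
theorem z6B : IsConj z0 (eJ X6B ^ 3) := cjz 3 oX6B.r (by decide +kernel)
theorem z10 : IsConj z0 (eJ X10 ^ 5) := cjz 5 oX10.r (by decide +kernel)
theorem z12A : IsConj z0 (eJ X12A ^ 6) := cjz 6 oX12A.r (by decide +kernel)
theorem z12B : IsConj z0 (eJ X12B ^ 6) := cjz 6 oX12B.r (by decide +kernel)
theorem z14 : IsConj z0 (eJ X14 ^ 7) := cjz 7 oX14.r (by decide +kernel)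
theorem t4C : IsConj t0 (eJ X4C ^ 2) := cjt 2 oX4C.r ok_oJ (by decide +kernel)
theorem t6C : IsConj t0 (eJ X6C ^ 3) := cjt 3 oX6C.r oGt (by decide +kernel)
theorem t10B : IsConj t0 (eJ X10B ^ 5) := cjt 5 oX10B.r oG10 (by decide +kernel)
theorem t12C : IsConj t0 (eJ X12C ^ 6) := cjt 6 oX12C.r oGt (by decide +kernel)
theorem t14C : IsConj t0 (eJ X14C ^ 7) := cjt 7 oX14C.r oG14 (by decide +kernel)
theorem l8C : 512 ≤ cC (eJ X8C) := lb 4165646241130414986386987221889525 29144 513 ((X16, 0) :: gC8C) oX8C.r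
  (List.forall_mem_cons.2 ⟨oX16, kC8C⟩) (by decide +kernel)
theorem l20 : 160 ≤ cC (eJ X20) := lb 612216220398392240595676523051972 2961 161 gC20 oX20.r kC20 (by decide +kernel)
theorem l24 : 48 ≤ cC (eJ X24) := lb 2452068014004887389177477598598523 276 49 [(X24, 0), (Z1, 0)] oX24.r
  (ok_two oX24 oZ1) (by decide +kernel)
theorem l66 : 66 ≤ cC (eJ X66) := Nat.le_of_dvd Nat.card_pos
  (q66 ▸ Subgroup.orderOf_dvd_natCard _ (mem_centralizer_singleton_iff.2 rfl))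
theorem n8C_8B : ¬ IsConj (eJ X8C) (eJ X8B) := nc_orb 2 4335 192 gC4B oX8C.r oX8B.r oX4B.r u4B l8C kC4B (by decide +kernel)
theorem n20 : ¬ IsConj (eJ X20) (eJ X20B) := nc_orb 2 11 6 gC10 oX20.r oX20B.r oX10.r u10 l20 kC10 (by decide +kernel)
theorem n24 : ¬ IsConj (eJ X24) (eJ X24B) := nc_orb 2 7 4 gC12B oX24.r oX24B.r oX12B.r u12B l24 kC12B (by decide +kernel)
theorem n66 : ¬ IsConj (eJ X66) (eJ X66B) := nc_orb 3 7 4 gC22 oX66.r oX66B.r oX22.r u22A l66 kC22 (by decide +kernel)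
theorem n40 : ¬ IsConj (eJ X40) (eJ X40B) := nc_pow 2 (by
  rw [pw_eq oX40.r oX20.r (by decide +kernel), pw_eq oX40B.r oX20B.r (by decide +kernel)]; exact n20)
theorem n33 : ¬ IsConj (eJ X33) (eJ X33B) := nc33 (pw_eq oX33.r rY3 (by decide +kernel))
  (pw_eq oX33B.r rY3 (by decide +kernel)) (by
    rw [md.func (congr_beq (md.mul oX33.r rZ0) (by decide +kernel)) oX66.r,
      md.func (congr_beq (md.mul oX33B.r rZ0) (by decide +kernel)) oX66B.r]; exact n66)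

theorem g14 : Gd 14 [(eJ X14, 84), ((eJ X14)⁻¹, 84), (eJ X14C, 56), ((eJ X14C)⁻¹, 56)] := by
  have h := gd7 2 q14 u14 rfl
  have z := inv_cj ord_z0 z14
  have t := inv_cj ord_t0 t14C
  exact gdc q14 u14 (List.forall_mem_cons.2 ⟨(List.pairwise_cons.1 h.2).1 _ (.head _), List.forall_mem_cons.2
    ⟨zt 7 z14 t14C, List.forall_mem_singleton.2 (zt 7 z14 t)⟩⟩)
    (gd3' ((orderOf_inv _).trans q14) ((cent_inv' _).trans u14) (zt 7 z t14C) (zt 7 z t) (gd7 2 q14C u14C rfl))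

/-- The classes. -/
noncomputable def CL : List (ℕ × List (J × ℕ)) := [
  (1, [(1, 86775571046077562880)]),
  (2, [(z0, 21799895040), (t0, 1816657920)]),
  (3, [(Y 13, 2661120)]),
  (4, [(eJ X4A, 5406720), (eJ X4B, 98304), (eJ X4C, 43008)]),
  (5, [(eJ B5, 6720)]),
  (6, [(eJ X6A, 2661120), (eJ X6B, 2304), (eJ X6C, 2304)]),
  (7, [(eJ S7, 840), ((eJ S7)⁻¹, 840)]),
  (8, [(eJ X8A, 1280), (eJ X8C, 512), (eJ X8B, 768)]),
  (10, [(eJ X10, 960), (eJ X10B, 80)]),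
  (11, [(ec, 31944), (ea, 242)]),
  (12, [(eJ X12A, 192), (eJ X12B, 192), (eJ X12C, 48)]),
  (14, [(eJ X14, 84), ((eJ X14)⁻¹, 84), (eJ X14C, 56), ((eJ X14C)⁻¹, 56)]),
  (15, [(eJ X15, 30)]),
  (16, [(eJ X16, 32)]),
  (20, [(eJ X20, 160), (eJ X20B, 160)]),
  (21, [(eJ X21, 42), ((eJ X21)⁻¹, 42)]),
  (22, [(eJ X22, 264), (eJ X22B, 22)]),
  (23, [(xP 23, 23)]),
  (24, [(eJ X24, 48), (eJ X24B, 48)]),
  (28, [(eJ X28, 28), ((eJ X28)⁻¹, 28)]),
  (29, [(xP 29, 29)]),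
  (30, [(eJ X30, 30)]),
  (31, [(xP 31, 31), (xP 31 ^ 3, 31), ((xP 31 ^ 3) ^ 3, 31)]),
  (33, [(eJ X33, 66), (eJ X33B, 66)]),
  (35, [(eJ X35, 35), ((eJ X35)⁻¹, 35)]),
  (37, [(xP 37, 37), (xP 37 ^ 2, 37), ((xP 37 ^ 2) ^ 2, 37)]),
  (40, [(eJ X40, 40), (eJ X40B, 40)]),
  (42, [(eJ X42, 42), ((eJ X42)⁻¹, 42)]),
  (43, [(xP 43, 43), (xP 43 ^ 3, 43), ((xP 43 ^ 3) ^ 3, 43)]),
  (44, [(eJ X44, 44)]),
  (66, [(eJ X66, 66), (eJ X66B, 66)])]

theorem gdCL : ∀ q ∈ CL, Gd q.1 q.2 := by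
  simp only [CL, List.forall_mem_cons]
  exact ⟨gd1 orderOf_one ((card_le_card_group _).trans cardJ.le),
    gd2 ord_z0 uZ ord_t0 uT not_conj_z0_t0,
    gd1 oY uY,
    gd3' q4A u4A n4A_4B (zt 2 z4A t4C) (gd2 q4B u4B q4C u4C (zt 2 z4B t4C)),
    gd1 o5 u5,
    gd3' q6A u6A n6A_6B (zt 3 z6A t6C) (gd2 q6B u6B q6C u6C (zt 3 z6B t6C)),
    gd7 1 o7 u7 rfl,
    gd3' q8A u8A n8A_8C n8A_8B (gd2 q8C u8C q8B u8B n8C_8B),
    gd2 q10 u10 q10B u10B (zt 5 z10 t10B),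
    gd2 ord_ec (u11 ord_ec) ord_ea u11B not_conj_ca,
    gd3' q12A u12A n12A_12B (zt 6 z12A t12C) (gd2 q12B u12B q12C u12C (zt 6 z12B t12C)),
    g14,
    gd1 q15 u15,
    gd1 q16 u16,
    gd2 q20 u20 q20B u20B n20,
    gd7 3 q21 u21 rfl,
    gd2 o22 u22A o22B (u22B o22B p22B) (zt 11 (p22 ▸ .refl _) (p22B ▸ .refl _)),
    gd1 (oP 23 (by norm_num) (by norm_num)) (big23 (oP 23 (by norm_num) (by norm_num))).1.le,
    gd2 q24 u24 q24B u24B n24,
    gd7 4 q28 u28 rfl,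
    gd1 (oP 29 (by norm_num) (by norm_num)) (big29 h3J (oP 29 (by norm_num) (by norm_num))).1.le,
    gd1 q30 u30,
    gd3 (oP 31 (by norm_num) (by norm_num)) (fun _ => big31 h3J) (by decide),
    gd2 q33 u33 q33B u33B n33,
    gd7 5 q35 u35 rfl,
    gd3 (oP 37 (by norm_num) (by norm_num)) (fun _ => big37 h3J) (by decide),
    gd2 q40 u40 q40B u40B n40,
    gd7 6 q42 u42 rfl,
    gd3 (oP 43 (by norm_num) (by norm_num)) (fun _ => big43 h3J) (by decide),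
    gd1 q44 u44,
    gd2 q66 u66 q66B u66B n66, by simp⟩

theorem card_classes : Nat.card (ConjClasses J) = 62 :=
  (assemble CL (by decide +kernel) gdCL cardJ (by decide +kernel)).trans (by decide +kernel)

end Cfsg.Agent.J4F.Cl
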