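import Cfsg.Agent.J4F.Tool
import Cfsg.Agent.Comp.Hom

/-! Large elementary abelian subgroups of `2^11:M24`: the search (helper16). -/

set_option autoImplicit false
set_option Elab.async false
set_option maxRecDepth 100000
set_option exponentiation.threshold 100000

namespace Cfsg.Agent.J4F
open Cfsg.Agent.Comp Cfsg.Agent.Golay Cfsg.Agent.J4T Cfsg.Agent.J4T.C
open Cfsg.Agent.Spor (seq seq_eq)

/-- The number of bits of `x`, if it is less than `f`. -/
def cnt (f : ℕ) : ℕ → ℕ := Nat.rec (motive := fun _ => ℕ → ℕ) (fun _ => 0)
  (fun _ ih x => bif' (Nat.beq x 0) 0 (Nat.succ (ih (Nat.land x (Nat.sub x 1))))) f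

theorem exists_low (x : ℕ) : ∃ k, ∀ i, i ≠ k → x.testBit i = true → (x - 1).testBit i = true := by
  induction x using Nat.strong_induction_on with
  | _ x ih =>
    rcases Nat.eq_zero_or_pos x with rfl | hx
    · exact ⟨0, by simp⟩
    rcases Nat.mod_two_eq_zero_or_one x with h | h
    · obtain ⟨k, hk⟩ := ih (x / 2) (by omega)
      refine ⟨k + 1, fun i hi h1 => ?_⟩
      cases i with
      | zero => rw [Nat.testBit_zero, h] at h1; cases h1
      | succ i =>
        rw [Nat.testBit_add_one] at h1 ⊢
        rw [show (x - 1) / 2 = x / 2 - 1 by omega]; exact hk i (by omega) h1
    · refine ⟨0, fun i hi h1 => ?_⟩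
      cases i with
      | zero => exact absurd rfl hi
      | succ i =>
        rw [Nat.testBit_add_one] at h1 ⊢
        rwa [show (x - 1) / 2 = x / 2 by omega]

theorem card_le_cnt (f : ℕ) : ∀ (x : ℕ) (W : Finset ℕ), (∀ i ∈ W, x.testBit i = true) → cnt f x < f →
    W.card ≤ cnt f x := by
  induction f with
  | zero => intro x W _ h; cases h
  | succ f ih =>
    intro x W hW h
    have e : cnt (f + 1) x = bif' (Nat.beq x 0) 0 (Nat.succ (cnt f (x &&& (x - 1)))) := rfl
    rw [e, bif'_eq] at h ⊢
    split_ifs at h ⊢ with h0
    · rw [nbeq.1 h0] at hW
      exact (Finset.card_eq_zero.2 (Finset.eq_empty_of_forall_notMem fun i hi => by simpa using hW i hi)).le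
    · obtain ⟨k, hk⟩ := exists_low x
      have := ih (x &&& (x - 1)) (W.erase k) (fun i hi => by
        have h1 := hW i (Finset.mem_of_mem_erase hi)
        rw [Nat.testBit_and, h1, hk i (Finset.ne_of_mem_erase hi) h1]; rfl) (Nat.lt_of_succ_lt_succ h)
      have h2 := Finset.pred_card_le_card_erase (s := W) (a := k)
      omega

theorem mem_of_cnt {f x : ℕ} {W : Finset ℕ} (hW : ∀ i ∈ W, x.testBit i = true) (h : cnt f x < f)
    (h' : cnt f x ≤ W.card) {m : ℕ} (hm : x.testBit m = true) : m ∈ W := by
  by_contra hn
  have := card_le_cnt f x (insert m W) (fun i hi => (Finset.mem_insert.1 hi).elim (· ▸ hm) (hW i)) h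
  rw [Finset.card_insert_of_notMem hn] at this
  omega

def filt (TL : List ℕ) (F C : ℕ) : ℕ := List.rec (motive := fun _ => ℕ) 0 (fun T _ ih =>
  force (Nat.land T 255) fun i => bif' (band (tb C i) (Nat.beq (Nat.land F T) F)) (Nat.lor (Nat.shiftLeft 1 i) ih) ih) TL

theorem filt_bit {TL : List ℕ} {F C T : ℕ} (hT : T ∈ TL) (h1 : C.testBit (T &&& 255) = true) (h2 : F &&& T = F) :
    (filt TL F C).testBit (T &&& 255) = true := by
  induction TL with
  | nil => cases hT
  | cons U TL ih =>
    have e : filt (U :: TL) F C = bif' (band (tb C (U &&& 255)) (Nat.beq (F &&& U) F))
      (1 <<< (U &&& 255) ||| filt TL F C) (filt TL F C) :=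
      force_eq (U &&& 255) fun i => bif' (band (tb C i) (Nat.beq (F &&& U) F)) (1 <<< i ||| filt TL F C) (filt TL F C)
    rw [e, bif'_eq]
    rcases List.mem_cons.1 hT with rfl | h
    · rw [if_pos (by rw [band_eq, tb_eq, h1, h2, Nat.beq_refl]; rfl), Nat.testBit_or, Nat.one_shiftLeft,
        Nat.testBit_two_pow_self]; rfl
    · split_ifs
      · rw [Nat.testBit_or, ih h, Bool.or_true]
      · exact ih h

noncomputable def go (TL : List ℕ) (w FO fuel : ℕ) : ℕ → ℕ → ℕ → Bool :=
  Nat.rec (motive := fun _ => ℕ → ℕ → ℕ → Bool) (fun _ _ _ => false) (fun _ ih C F n => band (Nat.blt 0 n)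
    (allL TL fun T => bor (not (tb C (Nat.land T 255))) (seq (Nat.land C T) fun C2 =>
      bor (Nat.blt (Nat.succ (cnt n C2)) n) (seq (Nat.land F T) fun F2 => force (cnt (Nat.succ w) F2) fun p =>
        bor (Nat.blt p w) (bif' (Nat.ble p w) (bor (Nat.beq F2 FO) (seq (filt TL F2 C2) fun C3 =>
          bor (Nat.blt (Nat.succ (cnt n C3)) n) (ih C3 F2 (Nat.pred n)))) (ih C2 F2 (Nat.pred n))))))) fuel

theorem go_spec {TL : List ℕ} {w FO : ℕ} {W : Finset ℕ} (hw : w ≤ W.card) (fuel : ℕ) : ∀ (C F n : ℕ) (S : Finset ℕ),
    go TL w FO fuel C F n = true → (∀ i ∈ S, ∃ T ∈ TL, T &&& 255 = i ∧ (∀ j ∈ S, j < i → T.testBit j = true) ∧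
      ∀ m ∈ W, T.testBit m = true) → (∀ i ∈ S, C.testBit i = true) → (∀ m ∈ W, F.testBit m = true) → n ≤ S.card →
      ∀ m, FO.testBit m = true ↔ m ∈ W := by
  induction fuel with
  | zero => intro C F n S h; cases h
  | succ fuel ih =>
    intro C F n S h hS hC hF hn
    have e : go TL w FO (fuel + 1) C F n = band (Nat.blt 0 n)
      (allL TL fun T => bor (not (tb C (T &&& 255))) (seq (C &&& T) fun C2 =>
      bor (Nat.blt (Nat.succ (cnt n C2)) n) (seq (F &&& T) fun F2 => force (cnt (w + 1) F2) fun p =>
        bor (Nat.blt p w) (bif' (Nat.ble p w) (bor (Nat.beq F2 FO) (seq (filt TL F2 C2) fun C3 =>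
          bor (Nat.blt (Nat.succ (cnt n C3)) n) (go TL w FO fuel C3 F2 (n - 1))))
          (go TL w FO fuel C2 F2 (n - 1)))))) := rfl
    rw [e, band_eq, Bool.and_eq_true, nblt, allL_iff] at h
    have hne : S.Nonempty := Finset.card_pos.1 (by omega)
    obtain ⟨T, hT, h1, h2, h3⟩ := hS _ (S.max'_mem hne)
    have h4 := h.2 T hT
    simp only [force_eq, seq_eq, bor_eq, Bool.or_eq_true, bif'_eq, nblt, nble, nbeq, tb_eq, Bool.not_eq_true'] at h4
    have hS' : ∀ i ∈ S.erase (S.max' hne), ∃ T ∈ TL, T &&& 255 = i ∧ (∀ j ∈ S.erase (S.max' hne), j < i →
        T.testBit j = true) ∧ ∀ m ∈ W, T.testBit m = true := fun i hi =>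
      let ⟨U, a, b, c, d⟩ := hS i (Finset.mem_of_mem_erase hi)
      ⟨U, a, b, fun j hj => c j (Finset.mem_of_mem_erase hj), d⟩
    have hC2 : ∀ i ∈ S.erase (S.max' hne), (C &&& T).testBit i = true := fun i hi => by
      have h5 := Finset.mem_of_mem_erase hi
      rw [Nat.testBit_and, hC i h5, h2 i h5 (lt_of_le_of_ne (S.le_max' i h5) (Finset.ne_of_mem_erase hi))]; rfl
    have hF2 : ∀ m ∈ W, (F &&& T).testBit m = true := fun m hm => by rw [Nat.testBit_and, hF m hm, h3 m hm]; rfl
    have hc := Finset.card_erase_of_mem (S.max'_mem hne)
    rcases h4 with h4 | h4 | h4 | h4
    · rw [h1, hC _ (S.max'_mem hne)] at h4; cases h4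
    · have := card_le_cnt n _ _ hC2 (by omega); omega
    · have := card_le_cnt (w + 1) _ _ hF2 (by omega); omega
    split_ifs at h4 with h5
    · have h6 : ∀ m, (F &&& T).testBit m = true → m ∈ W := fun m hm =>
        mem_of_cnt (f := w + 1) hF2 (by omega) (by omega) hm
      simp only [Bool.or_eq_true, nblt, nbeq] at h4
      have hC3 : ∀ i ∈ S.erase (S.max' hne), (filt TL (F &&& T) (C &&& T)).testBit i = true := fun i hi => by
        obtain ⟨U, a, rfl, -, d⟩ := hS' i hi
        refine filt_bit a (hC2 _ hi) (Nat.eq_of_testBit_eq fun m => ?_)
        rw [Nat.testBit_and]
        cases h7 : (F &&& T).testBit m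
        · rfl
        · exact d m (h6 m h7)
      rcases h4 with h4 | h4 | h4
      · exact fun m => h4 ▸ ⟨h6 m, hF2 m⟩
      · have := card_le_cnt n _ _ hC3 (by omega); omega
      · exact ih _ _ _ _ h4 hS' hC3 hF2 (by omega)
    · exact ih _ _ _ _ h4 hS' hC2 hF2 (by omega)

def full : ℕ := Nat.pred (Nat.shiftLeft 1 4096)
def Pm (j : ℕ) : ℕ := Nat.shiftLeft (Nat.div full (Nat.succ (Nat.shiftLeft 1 (Nat.shiftLeft 1 j)))) (Nat.shiftLeft 1 j)

theorem Pm_bit : ∀ j < 12, ∀ m < 4096, (Pm j).testBit m = m.testBit j := fun j hj m hm => by
  have h : allLt 12 (fun j => force (Pm j) fun P => allLt 4096 fun m => Nat.beq (bit P m) (bit m j)) = true := by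
    decide +kernel
  have h1 := allLt_iff.1 h j hj
  rw [force_eq] at h1
  have h2 := nbeq.1 (allLt_iff.1 h1 m hm)
  rw [bit_eq, bit_eq] at h2
  revert h2; cases (Pm j).testBit m <;> cases m.testBit j <;> simp

theorem full_bit {m : ℕ} (h : m < 4096) : full.testBit m = true := by
  rw [show full = 2 ^ 4096 - 1 by rw [full, show Nat.shiftLeft 1 4096 = _ from Nat.one_shiftLeft _]; rfl,
    Nat.testBit_two_pow_sub_one, decide_eq_true h]

def rowm (c k n : ℕ) : ℕ := Nat.rec (motive := fun _ => ℕ) 0
  (fun j ih => Nat.xor ih (Nat.mul (bit (col c j) k) (Pm j))) n

def sB (c k m n : ℕ) : Bool := Nat.rec (motive := fun _ => Bool) false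
  (fun j ih => xor ih ((col c j).testBit k && m.testBit j)) n

theorem rowm_bit (c k : ℕ) {m : ℕ} (hm : m < 4096) (n : ℕ) : n ≤ 12 → (rowm c k n).testBit m = sB c k m n := by
  induction n with
  | zero => exact fun _ => Nat.zero_testBit m
  | succ n ih =>
    intro hn
    show (rowm c k n ^^^ bit (col c n) k * Pm n).testBit m = xor (sB c k m n) _
    rw [Nat.testBit_xor, ih (by omega), bit_eq, ← Pm_bit n (by omega) m hm]
    cases (col c n).testBit k <;> simp

theorem sB_xor (c k a b n : ℕ) : sB c k (a ^^^ b) n = xor (sB c k a n) (sB c k b n) := by
  induction n with
  | zero => rfl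
  | succ n ih =>
    show xor (sB c k (a ^^^ b) n) _ = xor (xor (sB c k a n) _) (xor (sB c k b n) _)
    rw [ih, Nat.testBit_xor]
    cases sB c k a n <;> cases sB c k b n <;> cases (col c n).testBit k <;> cases a.testBit n <;>
      cases b.testBit n <;> rfl

theorem sB_pow (c k i n : ℕ) : sB c k (2 ^ i) n = (decide (i < n) && (col c i).testBit k) := by
  induction n with
  | zero => rfl
  | succ n ih =>
    show xor (sB c k (2 ^ i) n) _ = _
    rw [ih, Nat.testBit_two_pow]
    rcases lt_trichotomy i n with h | rfl | h
    · simp [h, h.ne, Nat.lt_succ_of_lt h]
    · simp
    · simp [h.ne', h.not_gt, show ¬ i < n + 1 by omega]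

theorem sB_app (c k : ℕ) : ∀ m < 2 ^ 12, sB c k m 12 = (app c m).testBit k :=
  xind (by
    have := sB_xor c k 0 0 12
    rw [Nat.xor_self, Bool.xor_self] at this
    rw [this, app_zero, Nat.zero_testBit])
    (fun i hi => by rw [sB_pow, app_pow c hi, decide_eq_true hi, Bool.true_and])
    fun a _ b _ ha hb => by rw [sB_xor, app_xor, Nat.testBit_xor, ha, hb]

def nz (c n : ℕ) : ℕ := Nat.rec (motive := fun _ => ℕ) 0 (fun k ih => Nat.lor ih (rowm c k 12)) n

theorem nz_bit {c m : ℕ} (hm : m < 4096) (h : app c m = 0) (n : ℕ) : (nz c n).testBit m = false := by
  induction n with
  | zero => exact Nat.zero_testBit m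
  | succ n ih =>
    show (nz c n ||| rowm c n 12).testBit m = false
    rw [Nat.testBit_or, ih, rowm_bit c n hm 12 le_rfl, sB_app c n m hm, h, Nat.zero_testBit]; rfl

/-- The matrix of `a + 1` on syndromes. -/
def mt1 (a : ℕ) : ℕ := pack 12 12 fun j => Nat.xor (act a (Nat.pow 2 j)) (Nat.pow 2 j)

theorem app_mt1 {a : ℕ} {g : MG} (h : RM a g) : ∀ m < 2 ^ 12, app (mt1 a) m = act a m ^^^ m :=
  lin_ext (fun _ _ _ _ => app_xor ..) (fun x _ y _ => by
    rw [act_xor h]; simp only [Nat.xor_assoc, Nat.xor_left_comm]) fun i hi => by
    rw [app_pow _ hi]
    exact col_pack (v := fun j => act a (2 ^ j) ^^^ 2 ^ j)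
      (fun j hj => Nat.xor_lt_two_pow (n := 12) (act_lt h _) (Nat.pow_lt_pow_right one_lt_two hj)) hi

/-- The syndromes fixed by `a`. -/
def ffm (a : ℕ) : ℕ := force (mt1 a) fun c => Nat.xor full (nz c 12)

theorem ffm_bit {a m : ℕ} {g : MG} (h : RM a g) (hm : m < 4096) (e : act a m = m) : (ffm a).testBit m = true := by
  rw [ffm, force_eq]
  show (full ^^^ _).testBit m = true
  rw [Nat.testBit_xor, full_bit hm, nz_bit hm (by rw [app_mt1 h m hm, e, Nat.xor_self])]; rfl

def cm7 (a b : ℕ) : Bool := allL [0, 1, 2, 3, 4, 5, 23] fun x => Nat.beq (get24 a (get24 b x)) (get24 b (get24 a x))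

theorem cm7_of {a b : ℕ} {g h : MG} (ha : RM a g) (hb : RM b h) (e : g * h = h * g) : cm7 a b = true :=
  allL_iff.2 fun x hx => nbeq.2 (by
    have hx' : x < 24 := by revert x; decide
    show get 5 31 a (get 5 31 b x) = get 5 31 b (get 5 31 a x)
    rw [ha.get_eq (hb.get_lt hx'), hb.get_eq (ha.get_lt hx'), ← ha.smul_dec hx', ← hb.smul_dec hx', ← mul_smul,
      ← mul_smul, e])

def cmk (L : List ℕ) (i a : ℕ) : ℕ := List.rec (motive := fun _ => ℕ) 0 (fun f _ ih => force (Nat.land f 255) fun j =>
  bif' (band (Nat.blt j i) (cm7 a (Nat.shiftRight f 8))) (Nat.lor (Nat.shiftLeft 1 j) ih) ih) L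

theorem cmk_cons (f : ℕ) (L : List ℕ) (i a : ℕ) : cmk (f :: L) i a =
    if (Nat.blt (f &&& 255) i && cm7 a (f >>> 8)) = true then 2 ^ (f &&& 255) ||| cmk L i a else cmk L i a := by
  rw [← band_eq, ← bif'_eq, ← Nat.one_shiftLeft]
  exact force_eq (f &&& 255) fun j => bif' (band (Nat.blt j i) (cm7 a (f >>> 8))) (1 <<< j ||| cmk L i a) (cmk L i a)

theorem cmk_bit {L : List ℕ} {i a f : ℕ} (hf : f ∈ L) (h : f &&& 255 < i) (hc : cm7 a (f >>> 8) = true) :
    (cmk L i a).testBit (f &&& 255) = true := by
  induction L with
  | nil => cases hf
  | cons u L ih =>
    rw [cmk_cons]
    rcases List.mem_cons.1 hf with rfl | h1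
    · rw [if_pos (by rw [hc, nblt.2 h]; rfl), Nat.testBit_or, Nat.testBit_two_pow_self]; rfl
    · split_ifs
      · rw [Nat.testBit_or, ih h1, Bool.or_true]
      · exact ih h1

def mkT (L : List ℕ) (e : ℕ) : ℕ := force (Nat.land e 255) fun i => force (Nat.shiftRight e 8) fun a =>
  Nat.lor (Nat.lor i (cmk L i a)) (Nat.shiftLeft (ffm a) 200)

theorem mkT_eq (L : List ℕ) (e : ℕ) :
    mkT L e = (e &&& 255 ||| cmk L (e &&& 255) (e >>> 8)) ||| ffm (e >>> 8) <<< 200 := by
  rw [mkT, force_eq, force_eq]; rfl

theorem mkT_cm {L : List ℕ} {e f : ℕ} (hf : f ∈ L) (h : f &&& 255 < e &&& 255) (hc : cm7 (e >>> 8) (f >>> 8) = true) :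
    (mkT L e).testBit (f &&& 255) = true := by
  rw [mkT_eq, Nat.testBit_or, Nat.testBit_or, cmk_bit hf h hc]; simp

theorem mkT_ff {L : List ℕ} {e m : ℕ} (h : (ffm (e >>> 8)).testBit m = true) : (mkT L e).testBit (m + 200) = true := by
  rw [mkT_eq, Nat.testBit_or, Nat.testBit_shiftLeft (x := ffm _), Nat.add_sub_cancel, h]
  simp

def LI : List ℕ := [246712803042241346377275547374938759176, 247072986629340209190756196195959840777, 246109569952321639454708801862858448906, 39436342713756346067618704287478459915, 34036971961543967637152485069521563148, 34398776556799515266197120007661825549, 33430821056768141512254965931845234190, 1533244370897986480631632178400483087, 7533893496036634305183832567913404176, 2498282056073241032243012628621055761, 156405159582736293747711789858696766226, 2131604928968136672386839724360488723, 151007409838680600132809556757859050260, 151372465957629019677101743545000436501, 150406131465754330738723575586303025942, 1500383671027273812327429237972973335, 250937443247874635765228218750771666968, 150371649817148056356849798561988363033, 36287414003436811087062012079858134554, 251788472555840751686719977012763041819, 39111344668492294118314930974968131100,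 249970865374560700229228809778348171293, 248963245084182545385669878161374453790, 2526270164673275084037424132900828959, 2217958841683129243107917054215501600, 7452412055750076579576039734151264033, 151402075133806859213862236073222226722, 156325299210027543939662395175285834531, 151092142802660028557368742877417718564, 37295034293814964502394393868826455589, 38260315360526179625049722540982152742, 28480444350141303202781303499837407527, 12766725365024714360405285384933794344, 23400224604789753068566217347957522729, 28799595357050487057517240342013542698, 2550914234075553587934458881921922859, 25656513685134175730013188380826534188, 33455465145977461861014243625283137069, 16029985064834013417900973200207176238, 18166096117285449777582858206995210799, 39385007342453466109990374340659793456, 60382564513674881242615017567171760433, 156388305840232648759687311118185145138, 60701715520535709538866150633248772403, 16995266131496871553844948268258353716, 186170520320023027547501016053441914165, 187137098193385320070211778629969929526, 34064200156250404889510433499631627831, 33370732241419154678264665051337346616, 7479640230649474419664062346253711161, 182907260620262085476716681842273051962,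 34098681864277801800971109918388276795, 55301047961672252280117947682914160956, 150425903003307054300512743571198452541, 151039510545429552915005446134087164734, 34368630567043999440074482333167955519, 151337447416216907064008996161964090176, 39414616459210185549756284600848789057, 188307928179125541307238334964602266946, 1470237661464718573934865745471485763, 34448490999173872922525801688600956484, 57557337041968319383080114939684049221, 2196232567329926880383254423169021766, 4385618576369096391837314883703297863, 7210846048027301264660863907086489416, 6359167069147908323885440638531163977, 153259802477876518049984692195978158922, 246079960647398034615972602293588992075, 5392589195833971359659481838102271820, 39349988929787118798873333998671113805, 154266773097341394446033408978382529358, 247107468149200720703246583305636028495, 156083733142932002509464160919093551952, 155232054164052608140462187822532830033, 34118453530576288232143667817922178642, 246792663286204333315941552143711215699, 252028737508427965467973660940766158932, 33402833076913872762436261468613127765, 34431637385415990803884712862727810646, 246742948923058138746284720952801771607, 26662183378209254678079961742012318040,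 252088826403005115388635812311303733337, 247127239706560483677305677108539072602, 15021063848066062554586647990020268635, 246131296097929076515457757452857262172, 12163496394843726057538499561694356061, 1550098222340354925769575015542962014, 247045758325695048481284783669218918495, 17843373504916505211790776991911961184, 7514122067422634200508128679648835425, 27625843436715427998459950692944314722, 54699765469007264266332006822517264739, 13129830886670059437431863744292643428, 246044942125792963847742097854969454693, 55664803154230875804654740876842357094, 23763979797348375164876460713880322407, 2466181458263011707160587349023799144, 151423801517098785033700362800899564393, 22797645305522043213209646359287431530, 59529584608405690853857650877397848427, 183270366141907429125516710373626504556, 252060838234983960095031793261411082349, 246775809563507727740186999221207212142, 58561385726886713515582902183750652271, 187986826574961638543721593470742717808, 182305328456683819015420526147306808689, 185159978095098391868622704726135825778, 2166623579318972742593051204027692915, 150344421751187381973875240046516773748, 151067498842196473510585172225027482485, 156355445328528822635168422764418179958,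 60379671555769817310997977224232829303, 28802488314955550989134280684952473976, 12851752395247423117302037045107680633, 17024469632208368710695272569034696058, 187165004887486238970963741170731082363, 18086266454550872837499109774412408188, 182993584457002285293747932422798860925, 15995584196630757666778801303293977982, 247342617493361032018591837055055569023, 248447991385761622237571360623061115008, 247759943601010745728098034471265640577, 250654994216504244300590369544058970242, 248727778038891248986765699906246549635, 186137416258433976829936050285089677956, 25653559604548970695830795222733672837, 57554383238778399868126613646990901638, 23403178407979672583519718640650670471, 60704608755661968364218496332390465928, 188226801709877100084478931980213314185, 28477551115015044377428957800695714186, 55304002042257457314300340841007022475, 152949677180727330982231434798163051404, 6097832312748349437410164627028096909, 5089842508235702317521278139980101518, 249688583350441108631667767738899112079, 251345584909848576943453096214866174096, 152720141783549736390024251140194190225, 152358748225645319822825630467289793426, 152078961572515698500892180530524865427, 247989478998188334893044328782813995156,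 6746844067643172057533156443952560021, 2785455589605138583638181966030092182, 154960952813739487913200035522533532567, 153973793043270768001814250657571808152, 184621684846941875646968131326169866905, 183559470337614569592730491513567470234, 249942958680408099795761553497738456731, 59936733205349416699883674090039148956, 39351315683585318843437246367153135773, 250970547309508718923500597987484380830, 36103818910564280732936263385666072223, 34980692525098530586493487628530527904, 155651543507083821984289312021346132897, 151627827186190692816964869801733661602, 3743834614250393216186485343734085539, 4178913214965266853155934949074155428, 35718991565801439252953969405542575781, 35415771125813398796202047887450091174, 59246183075528324650894527365972230567, 14710958485996351479795583441356645800, 183980362663315372125144026694857810601, 24031361709998999569689298365119844778, 36290307258369506078070634862798446763, 246709909787308651386266924591998447276, 16731636007111245767192033177164768685, 185865843029672450863971876207088132782, 34116801624233512136528820033743888559, 252027146764361277844762009780998123184, 25416481691947949273807728780005724593, 37265830793155148878259363307898675378,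 246793929511534820040742363827688189619, 56351183164569436828653335328125092276, 248966138022281173151630641420514766517, 26379232213343859081440204278126727606, 39433388930372862718321480078583931063, 251791426339224235036017201221657571000, 14118043757487022783031490590912734649, 34034079023445339871191721810381250746, 34676553065949980946469100732062912187, 38658690448393598662827258269787246268, 3152905659168387484041570359281334205, 38009678693498777470930816280868179646, 3537733003931223536762974992984324031, 36980939984580546108578746734018318016, 252110516500761517994669883859481013953, 39114298768883935318153601216859611330, 38294716228684402935464480969534873795, 17380688325645365859868477924969211332, 57039088976727851243750795463287898565, 24680168424672352606872197758346711494]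

def FO : ℕ := 0x200000020000000000000000000000000000000000000000008000000800000000000080000008000000000000000000000000000000000000002000000200000000000000000000000000200000020000008000000800000000000000000000000000000000000080000008000000000020000002000000000000000000000000000000000000000000100000010000000000400000040000000000000000000000000000000000004000000400000010000001000000000000000000000000001000000100000000000000000000000000000000000000400000040000000000004000000400000000000000000000000000000000000000000010000001020000000020000000000000000000000000000000000000000800000000800000000008000000008000000000000000000000000000000000000200000000200000000000000000000000020000000020000800000000800000000000000000000000000000000008000000008000000002000000002000000000000000000000000000000000000000010000000010000000040000000040000000000000000000000000000000000400000000400001000000001000000000000000000000000100000000100000000000000000000000000000000000040000000040000000000400000000400000000000000000000000000000000000000001000000001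

def EV : ℕ := 0x9669699669969669699696699669699669969669966969969669699669969669699696699669699696696996699696699669699669969669699696699669699669969669966969969669699669969669966969966996966969969669966969969669699669969669699696699669699669969669966969969669699669969669699696699669699696696996699696699669699669969669699696699669699696696996699696696996966996696996699696699669699696696996699696699669699669969669699696699669699669969669966969969669699669969669699696699669699696696996699696699669699669969669699696699669699669969669966969969669699669969669966969966996966969969669966969969669699669969669699696699669699669969669966969969669699669969669966969966996966969969669966969966996966996696996966969966996966969969669966969969669699669969669966969966996966969969669966969969669699669969669699696699669699669969669966969969669699669969669699696699669699696696996699696699669699669969669699696699669699669969669966969969669699669969669966969966996966969969669966969969669699669969669699696699669699669969669966969969669699669969669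

theorem EV_bit (k : K) : EV.testBit (sy k) = true := by
  rw [← tb_eq]
  exact allLt_iff.1 (show allLt 2048 (fun n => tb EV (app Lc n)) = true by decide +kernel) _ (co_lt k)

theorem LI_all : forceL (mapL (Nat.shiftRight · 8) LI) (fun L => allL lP2 fun c => force c fun c =>
    bor (Nat.beq c one24) (bor (not (Nat.beq (mul24 c c) one24)) (memL c L))) = true := by
  decide +kernel

theorem LI_idx : band (nodupL (mapL (Nat.land · 255) LI)) (allL LI fun e => band (Nat.ble 8 (Nat.land e 255))
    (Nat.blt (Nat.land e 255) 199)) = true := by decide +kernel

noncomputable def srch (l : List (ℕ × ℕ)) : Bool := forceL (mapL (mkT LI) LI) fun TL =>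
  band (mapL (Nat.land · 255) TL == mapL (Nat.land · 255) LI) (allL l fun p =>
    go TL p.2 (Nat.shiftLeft FO 200) 8 (Nat.shiftLeft (Nat.pred (Nat.shiftLeft 1 191)) 8) (Nat.shiftLeft EV 200) p.1)

theorem search1 : srch [(1, 256), (7, 128), (15, 64), (63, 16), (127, 1)] = true := by decide +kernel

theorem search2 : srch [(31, 32)] = true := by decide +kernel

end Cfsg.Agent.J4F
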