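import Cfsg.Agent.J4F.Tr
import Cfsg.Agent.J4T.Main

/-! Groups of Janko-four type are images of `J₄` (helper16). -/

set_option autoImplicit false

namespace Cfsg.Agent.J4F
open Subgroup Cfsg.Agent.J4T Cfsg.Agent.J4T.C

section
variable {G : Type*} [Group G] [Finite G] [IsSimpleGroup G]

theorem exJ (hG : ¬ IsMulCommutative G) {z : G} (hJ : IsOfJankoFourTypeAt z) : ∃ f : J ≃* G, f z0 = z := by
  obtain ⟨e, h⟩ := J4T.main hG hJ
  exact ⟨e.symm, by rw [← h]; simp⟩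

theorem exV (hG : ¬ IsMulCommutative G) {z : G} (hJ : IsOfJankoFourTypeAt z) {E : Subgroup G}
    (h : IsElementaryAbelian 2 E) (hc : Nat.card E = 2 ^ 11) : ∃ f : J ≃* G, mp f V0 = E ∧ IsConj z (f z0) := by
  obtain ⟨f, rfl⟩ := exJ hG hJ
  obtain ⟨E, rfl⟩ := mp_surj f E
  obtain ⟨g, rfl⟩ := ea11 (mp_ea.1 h) (by rwa [mp_card] at hc)
  refine ⟨(MulAut.conj g).trans f, (mp_trans _ _).symm, ?_⟩
  rw [MulEquiv.trans_apply, isConj_map]
  exact isConj_iff.2 ⟨g, rfl⟩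
end


end Cfsg.Agent.J4F
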