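import Cfsg.Agent.J4F.VV
import Cfsg.Agent.Spor.J4CV0

/-! Normalisers of subgroups of odd prime order of `J₄` from the double coset decomposition (helper16). -/

set_option autoImplicit false
set_option maxRecDepth 100000
set_option exponentiation.threshold 100000

namespace Cfsg.Agent.J4F
open Subgroup Cfsg.Agent.Comp Cfsg.Agent.Golay Cfsg.Agent.J4T Cfsg.Agent.J4T.C
open Cfsg.Agent.Spor (ev getL genL genW seq seq_eq)
open Cfsg.Agent.Spor.Ct (Fd mem_Fd card_Fd)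

/-- pairs `(r, s)` with `g⁻¹ r g = s` -/
def PD (g : J) : Subgroup (K × K) where
  carrier := {x | ι x.1 * g = g * ι x.2}
  mul_mem' {a b} ha hb := by
    simp only [Set.mem_ofPred_eq, Prod.fst_mul, Prod.snd_mul, map_mul] at *
    rw [mul_assoc, hb, ← mul_assoc, ha, mul_assoc]
  one_mem' := by simp
  inv_mem' {a} ha := by
    simp only [Set.mem_ofPred_eq, Prod.fst_inv, Prod.snd_inv, map_inv] at *
    rw [inv_mul_eq_iff_eq_mul, ← mul_assoc, ha, mul_inv_cancel_right]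

theorem mem_PD {g : J} {r s : K} : (r, s) ∈ PD g ↔ ι r * g = g * ι s := Iff.rfl
theorem PD_fn {g : J} {r s s' : K} (h : (r, s) ∈ PD g) (h' : (r, s') ∈ PD g) : s = s' :=
  ι_inj (mul_left_cancel ((mem_PD.1 h).symm.trans (mem_PD.1 h')))
theorem PD_fn' {g : J} {r r' s : K} (h : (r, s) ∈ PD g) (h' : (r', s) ∈ PD g) : r = r' :=
  ι_inj (mul_right_cancel ((mem_PD.1 h).trans (mem_PD.1 h').symm))
theorem PD_Fd {g : J} {r s : K} (h : (r, s) ∈ PD g) : r ∈ Fd ι g := mem_Fd.2 ⟨s, h⟩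

theorem dcoset (g : J) : ∃ i < 7, ∃ u v : K, g = ι u * d i * ι v := by
  obtain ⟨i, hi, k, hk⟩ := J4F.orbs.cover (g • Spor.basePt ι.range)
  have hk' : (ι k * d i)⁻¹ * g ∈ ι.range := by
    rw [← Spor.smul_basePt_eq_iff, mul_smul, ← hk, smul_smul, smul_smul, mul_assoc, inv_mul_cancel, one_smul]
  obtain ⟨v, hv⟩ := hk'
  exact ⟨i, hi, k, v, by rw [hv]; group⟩

theorem PD_of_conj {g : J} {u v a b : K} (h : (ι u * g * ι v)⁻¹ * ι a * (ι u * g * ι v) = ι b) :
    (u⁻¹ * a * u, v * b * v⁻¹) ∈ PD g := by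
  rw [mem_PD]
  simp only [map_mul, map_inv]
  rw [← h]; group

def Gn (g : J) (t : K) (M : Subgroup J) (r : K) : Prop :=
  ∀ u v : K, ∀ s ∈ zpowers t, u⁻¹ * t * u = r → (r, v * s * v⁻¹) ∈ PD g → ι u * g * ι v ∈ M

variable {g : J} {t r : K} {M : Subgroup J}

theorem norm_le (h : ∀ i < 7, ∀ r, Gn (d i) t M r) : normalizer (zpowers (ι t) : Set J) ≤ M := by
  intro x hx
  obtain ⟨i, hi, u, v, rfl⟩ := dcoset x
  have h1 := inv_conj_mem_of_normalizer hx _ (mem_zpowers _)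
  rw [← MonoidHom.map_zpowers] at h1
  obtain ⟨s, hs, e⟩ := h1
  exact h i hi _ u v s hs rfl (PD_of_conj e.symm)

theorem gn_one (h0 : ∀ c ∈ normalizer (zpowers t : Set K), ι c ∈ M) (r : K) : Gn 1 t M r := by
  intro u v s hs e1 e2
  rw [mem_PD, mul_one, one_mul, ← e1] at e2
  rw [mul_one, ← map_mul]
  refine h0 _ ((normalizer _).inv_mem_iff.1 (mem_normalizer_zpowers ?_))
  rwa [show (u * v)⁻¹ * t * (u * v)⁻¹⁻¹ = v⁻¹ * (u⁻¹ * t * u) * v by group, ι_inj e2,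
    show v⁻¹ * (v * s * v⁻¹) * v = s by group]

theorem Gn.conj (h : Gn g t M r) {f : K} (hf : f ∈ Fd ι g) : Gn g t M (f * r * f⁻¹) := by
  intro u v s hs e1 e2
  obtain ⟨f', hf'⟩ := mem_Fd.1 hf
  have := h (u * f) (f'⁻¹ * v) s hs (by
    calc (u * f)⁻¹ * t * (u * f) = f⁻¹ * (u⁻¹ * t * u) * f := by group
      _ = _ := by rw [e1]; group) (by
    have := (PD g).mul_mem ((PD g).mul_mem ((PD g).inv_mem (mem_PD.2 hf')) e2) (mem_PD.2 hf')
    convert this using 1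
    ext <;> simp [mul_assoc])
  rwa [map_mul, map_mul, map_inv, mul_assoc (ι u), hf', show ι u * (g * ι f') * ((ι f')⁻¹ * ι v) = ι u * g * ι v by group]
    at this

theorem gn_ne1 {p : ℕ} (hp : p.Prime) (ho : orderOf t = p) {u v s : K} (e1 : u⁻¹ * t * u = r)
    (e2 : (r, v * s * v⁻¹) ∈ PD g) : s ≠ 1 := by
  rintro rfl
  rw [mul_one, mul_inv_cancel] at e2
  rw [PD_fn' e2 (PD g).one_mem, mul_assoc, inv_mul_eq_one, eq_comm, mul_eq_right] at e1
  rw [e1, orderOf_one] at ho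
  exact hp.one_lt.ne ho

theorem gn_mem {p : ℕ} (hp : p.Prime) (ho : orderOf t = p) (h0 : ∀ c ∈ normalizer (zpowers t : Set K), ι c ∈ M)
    {s u v : K} (h : (r, s) ∈ PD g) (hu : u * r * u⁻¹ ∈ zpowers t) (hv : v⁻¹ * s * v ∈ zpowers t)
    (hm : ι u * g * ι v ∈ M) : Gn g t M r := by
  intro u' v' s' hs e1 e2
  have e : ι u' * g * ι v' = ι (u' * u⁻¹) * (ι u * g * ι v) * ι (v⁻¹ * v') := by simp only [map_mul, map_inv]; group
  rw [e]
  refine M.mul_mem (M.mul_mem (h0 _ ((normalizer _).inv_mem_iff.1 (mem_normalizer_zpowers ?_))) hm) (h0 _ ?_)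
  · rwa [show (u' * u⁻¹)⁻¹ * t * (u' * u⁻¹)⁻¹⁻¹ = u * (u'⁻¹ * t * u') * u⁻¹ by group, e1]
  · have e3 := zpowers_eq_of_prime (ho ▸ hp) hs (gn_ne1 hp ho e1 e2)
    rw [← e3] at hv ⊢
    refine mem_normalizer_zpowers ?_
    rwa [show v⁻¹ * v' * s' * (v⁻¹ * v')⁻¹ = v⁻¹ * (v' * s' * v'⁻¹) * v by group, PD_fn e2 h]

/-- number of fixed points -/
noncomputable def nf (k : K) : ℕ := (fixS (π k)).card
def nfc (c : ℕ) : ℕ := force (hi c) fun a => countLt 24 fun i => Nat.beq (get24 a i) i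
theorem nf_eq {c : ℕ} {k : K} (h : RK c k) : nf k = nfc c := by rw [nfc, force_eq]; exact h.1.1.card_fix
theorem nf_conj (u k : K) : nf (u * k * u⁻¹) = nf k := by
  rw [nf, map_mul, map_mul, map_inv, fixS_conj, Finset.card_smul_finset, nf]

theorem gn_nc {p : ℕ} (hp : p.Prime) (h2 : p ≠ 2) (ho : orderOf t = p) {s : K} (h : (r, s) ∈ PD g)
    (hn : nf r ≠ nf t ∨ nf s ≠ nf t) : Gn g t M r := by
  intro u v s' hs e1 e2
  refine absurd hn (not_or.2 ⟨not_not.2 ?_, not_not.2 ?_⟩)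
  · rw [← e1, ← nf_conj u]; congr 1; group
  · have h1 := gn_ne1 hp ho e1 e2
    have h3 : orderOf s' = p := by
      rw [← Nat.card_zpowers, zpowers_eq_of_prime (ho ▸ hp) hs h1, Nat.card_zpowers, ho]
    rw [← PD_fn e2 h, nf_conj, nf, nf, fixS_eq_of_prime (y := π t) (by rwa [order_π hp h2 ho])
      (by rw [← MonoidHom.map_zpowers]; exact ⟨_, hs, rfl⟩) fun e => ?_]
    have := order_π hp h2 h3
    rw [e, orderOf_one] at this
    exact hp.one_lt.ne this

/-! ### words -/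

noncomputable def kw (w : List ℕ) : K := ev (getL ysE 1) w
noncomputable def kc (w : List ℕ) : ℕ := wdc kmul kone csE w kone
theorem RK_kw (w : List ℕ) : RK (kc w) (kw w) := mdK.rw alE w
theorem ι_kw (w : List ℕ) : ev (getL (ysE.map ι) 1) w = ι (kw w) := X.map ι ysE (.w w)
theorem RJ_kw (w : List ℕ) {Y : ℕ} {y : J} (h : RJ Y y) : RJ (wdc mJ oJ AE w Y) (ι (kw w) * y) :=
  ι_kw w ▸ mdJ.wd al27 w h
theorem RJ_kw1 (w : List ℕ) : RJ (wdc mJ oJ AE w oJ) (ι (kw w)) := mul_one (ι (kw w)) ▸ RJ_kw w mdJ.one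
theorem kw_eq {w : List ℕ} {c : ℕ} {k : K} (h : RK c k) (e : Nat.beq (kc w) c = true) : kw w = k :=
  mdK.func (congr_beq (RK_kw w) e) h

noncomputable def prOK (D : ℕ) (w : List ℕ × List ℕ) : Bool := Nat.beq (wdc mJ oJ AE w.1 D) (mJ D (wdc mJ oJ AE w.2 oJ))
theorem pr_mem {D : ℕ} (hD : RJ D g) {w : List ℕ × List ℕ} (h : prOK D w = true) : (kw w.1, kw w.2) ∈ PD g :=
  mdJ.func (congr_beq (RJ_kw w.1 hD) h) (mdJ.mul hD (RJ_kw1 w.2))

theorem al_map {G α : Type} [Group G] {R : ℕ → G → Prop} {mul : ℕ → ℕ → ℕ} {one : ℕ} (M : Md R mul one)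
    {f : α → ℕ} {y : α → G} (h : ∀ a, R (f a) (y a)) (l : List α) : Al R one (l.map f) (l.map y) := by
  induction l with
  | nil => exact M.nil
  | cons a l ih => exact Al.cons (h a) ih

theorem pr_words {ps : List (List ℕ × List ℕ)} (h : ∀ w ∈ ps, (kw w.1, kw w.2) ∈ PD g) (w : List ℕ) :
    (ev (getL (ps.map fun w => kw w.1) 1) w, ev (getL (ps.map fun w => kw w.2) 1) w) ∈ PD g := by
  have h1 := X.mem (ys := ps.map fun w => (kw w.1, kw w.2)) (H := PD g) (fun y hy => by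
    obtain ⟨w, hw, rfl⟩ := List.mem_map.1 hy; exact h w hw) (.w w)
  have h2 := X.map (MonoidHom.fst K K) (ps.map fun w => (kw w.1, kw w.2)) (.w w)
  have h3 := X.map (MonoidHom.snd K K) (ps.map fun w => (kw w.1, kw w.2)) (.w w)
  rw [List.map_map] at h2 h3
  exact (Prod.ext h2 h3 : (_, _) = X.g _ _) ▸ h1

theorem lists_closed {gs l : List ℕ} {H : Subgroup K} (hg : H ≤ closure (genSet RK gs))
    (h : band (memL kone l) (allL gs fun c => allL l fun a => force (kmul c a) fun b => memL b l) = true) : Lists RK l H := by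
  simp only [band_eq, Bool.and_eq_true, allL_iff, force_eq, memL_iff] at h
  intro x hx
  have := closure_mapsTo_of_finite (X := K) (S := {y | ∃ a ∈ l, RK a y}) (Set.toFinite _) (T := genSet RK gs)
    (by rintro y ⟨c, hc, hy⟩ z ⟨a, ha, hz⟩; exact ⟨_, h.2 c hc a ha, mdK.mul hy hz⟩) (hg hx) 1 ⟨_, h.1, mdK.one⟩
  rwa [smul_eq_mul, mul_one] at this

theorem len_le_card {l : List ℕ} {H : Subgroup K} (hl : CodesIn RK l H) (h : nodupL l = true) : lenL l ≤ Nat.card H := by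
  have := length_le_ncard_of_hash (P := RK) (hash := fun a => a) (L := l) (S := (H : Set K)) (Set.toFinite _)
    (fun _ _ _ h h' => mdK.canon h h') (by simpa using nodupL_iff.1 h) hl
  rwa [lenL_eq]

noncomputable def cds (ps : List (List ℕ × List ℕ)) (ws : List (List ℕ)) (k : List ℕ → List ℕ → List ℕ → Bool) : Bool :=
  forceL (ps.map fun w => kc w.1) fun rs => forceL (ps.map fun w => kc w.2) fun ss =>
    forceL (ws.map fun w => wdc kmul kone rs w kone) fun l => k rs ss l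

def gnQ (tp : List ℕ) (n : ℕ) (UV : List (ℕ × ℕ)) (a b : ℕ) : Bool :=
  bor (not (Nat.beq (nfc a) n)) (bor (not (Nat.beq (nfc b) n)) (anyL UV fun x =>
    band (memL (kmul x.1 (kmul a (kinv x.1))) tp) (memL (kmul (kinv x.2) (kmul b x.2)) tp)))

theorem gn_syl {i tc p k n : ℕ} (hi : i < 7) (ht : RK tc t) (hp : p.Prime) (h2 : p ≠ 2) (ho : orderOf t = p)
    (h0 : ∀ c ∈ normalizer (zpowers t : Set K), ι c ∈ M) (ps : List (List ℕ × List ℕ)) (ws : List (List ℕ))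
    (UV : List (List ℕ × List ℕ)) (hUV : ∀ x ∈ UV, ι (kw x.1) * d i * ι (kw x.2) ∈ M)
    (hn : Spor.andB (Nat.blt 0 (getL Spor.J4D.sz 0 i)) (Nat.beq (getL Spor.J4D.sz 0 i * n) 501397585920) = true)
    (hk : ¬ p ^ (k + 1) ∣ n) (hP : allL ps (prOK (getL DA 0 i)) = true)
    (hc : cds ps ws (fun rs ss l => band (band (nodupL l) (Nat.beq (lenL l) (p ^ k)))
      (band (band (memL kone l) (allL rs fun c => allL l fun a => force (kmul c a) fun b => memL b l))
      (forceL ((List.range p).map (pwc kmul kone tc)) fun tp => allL ws fun w =>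
        force (wdc kmul kone rs w kone) fun a => force (wdc kmul kone ss w kone) fun b =>
          gnQ tp (nfc tc) (UV.map fun x => (kc x.1, kc x.2)) a b))) = true) (r : K) : Gn (d i) t M r := by
  simp only [cds, forceL_eq, force_eq, band_eq (band _ _), Bool.and_eq_true] at hc
  obtain ⟨h1, h3, h4⟩ := hc
  rw [band_eq, Bool.and_eq_true] at h1
  have hP' : ∀ w ∈ ps, (kw w.1, kw w.2) ∈ PD (d i) := fun w hw => pr_mem (rDA i hi) (allL_iff.1 hP w hw)
  have a1 := al_map mdK (fun w : List ℕ × List ℕ => RK_kw w.1) ps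
  have a2 := al_map mdK (fun w : List ℕ × List ℕ => RK_kw w.2) ps
  set H := closure (genSet RK (ps.map fun w => kc w.1))
  have hH : H ≤ Fd ι (d i) := by
    rw [closure_le]
    rintro x ⟨c, hc, hx⟩
    obtain ⟨w, hw, rfl⟩ := List.mem_map.1 hc
    exact mdK.func (RK_kw _) hx ▸ PD_Fd (hP' w hw)
  have hl : CodesIn RK (ws.map fun w => wdc kmul kone (ps.map fun w => kc w.1) w kone) H := by
    intro c hc
    obtain ⟨w, -, rfl⟩ := List.mem_map.1 hc
    refine ⟨_, X.mem (fun y hy => ?_) (.w w), mdK.rw a1 w⟩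
    obtain ⟨w, hw, rfl⟩ := List.mem_map.1 hy
    exact subset_closure ⟨_, List.mem_map.2 ⟨w, hw, rfl⟩, RK_kw _⟩
  have hL := lists_closed (H := H) le_rfl (by simpa only [force_eq] using h3)
  have hcard : Nat.card H = p ^ k := by
    rw [← Nat.eq_of_beq_eq_true h1.2]
    exact le_antisymm (hL.card_le mdK.func) (len_le_card hl h1.1)
  intro u v s hs e1 e2
  obtain ⟨f, hf, hx⟩ := exists_conj_mem_sylow (j := 1) hp hH hcard (card_Fd J4F.orbs hi cardK hn) hk (PD_Fd e2)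
    (by rw [← e1, pow_one, show u⁻¹ * t * u = u⁻¹ * t * u⁻¹⁻¹ by group, conj_pow, ← ho, pow_orderOf_eq_one]; group)
  have key : Gn (d i) t M (f * r * f⁻¹) := by
    obtain ⟨c, hc, hx⟩ := hL _ hx
    obtain ⟨w, hw, rfl⟩ := List.mem_map.1 hc
    have b1 := mdK.rw a1 w
    have b2 := mdK.rw a2 w
    have b3 := pr_words hP' w
    rw [mdK.func b1 hx] at b3
    have h5 := allL_iff.1 h4 w hw
    simp only [gnQ, bor_eq, Bool.or_eq_true, Bool.not_eq_true', nbeq_false, anyL_iff, band_eq,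
      Bool.and_eq_true, memL_iff, List.mem_map] at h5
    rcases h5 with h5 | h5 | ⟨_, ⟨x, hx', rfl⟩, ⟨a, -, ha⟩, b, -, hb⟩
    · exact gn_nc hp h2 ho b3 (.inl (by rwa [nf_eq hx, nf_eq ht]))
    · exact gn_nc hp h2 ho b3 (.inr (by rwa [nf_eq b2, nf_eq ht]))
    · refine gn_mem hp ho h0 b3 ?_ ?_ (hUV x hx')
      · rw [mul_assoc, mdK.func (mdK.mul (RK_kw _) (mdK.mul hx (grpK.inv (RK_kw _)))) (ha ▸ mdK.pow ht a)]
        exact npow_mem_zpowers _ _
      · rw [mul_assoc, mdK.func (mdK.mul (grpK.inv (RK_kw _)) (mdK.mul b2 (RK_kw _))) (hb ▸ mdK.pow ht b)]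
        exact npow_mem_zpowers _ _
  have := key.conj ((Fd ι (d i)).inv_mem hf)
  rw [show f⁻¹ * (f * r * f⁻¹) * f⁻¹⁻¹ = r by group] at this
  exact this u v s hs e1 e2

end Cfsg.Agent.J4F
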