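import Cfsg.Agent.J4F.Trio
import Cfsg.Agent.J4F.Fix

/-! Elements of order seven of `J₄` (helper16). -/

set_option autoImplicit false
set_option maxRecDepth 100000
set_option exponentiation.threshold 100000

namespace Cfsg.Agent.J4F
open Subgroup Cfsg.Agent.Comp Cfsg.Agent.Golay Cfsg.Agent.J4T Cfsg.Agent.J4T.C
open Cfsg.Agent.Spor (ev getL genL genW seq seq_eq basePt)

theorem cent_split {G A B : Type*} [Group G] [Group A] [Group B] [Finite G] {M : Subgroup G} (γ : M →* A × B)
    (hγ : Function.Surjective γ) {p : ℕ} (hp : p.Prime) (hk : ¬ p ∣ Nat.card γ.ker) {s : M} (hs : orderOf s = p)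
    (hC : centralizer {s.1} ≤ M) (h1 : (γ s).1 = 1) (h2 : ∀ c : M, c * s = s * c → (γ c).2 ∈ zpowers (γ s).2) :
    ∃ I : Subgroup G, IsInternalDirectProduct (zpowers s.1) I (centralizer (zpowers s.1 : Set G)) ∧
      Nat.card (centralizer (zpowers s.1 : Set G)) = p * Nat.card I ∧ (∀ x : M, x.1 ∈ I ↔ x * s = s * x ∧ (γ x).2 = 1) ∧
      ∃ φ : I →* A, Function.Surjective φ ∧ ∀ (x : I) (h : x.1 ∈ M), φ x = (γ ⟨x, h⟩).1 := by
  let I := (centralizer {s} ⊓ ((MonoidHom.snd A B).comp γ).ker).map M.subtype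
  have hI (x : M) : x.1 ∈ I ↔ x * s = s * x ∧ (γ x).2 = 1 :=
    (mem_map_iff_mem (subtype_injective M)).trans (and_congr_left' mem_centralizer_singleton_iff)
  have hle : I ≤ M := map_subtype_le _
  have hc : I ≤ centralizer (zpowers s.1 : Set G) := fun x hx => by
    rw [centralizer_zpowers]
    exact mem_centralizer_singleton_iff.2 (congrArg Subtype.val ((hI ⟨x, hle hx⟩).1 hx).1)
  have hd : zpowers s.1 ⊓ I = ⊥ := eq_bot_iff.2 <| by
    rintro _ ⟨⟨n, rfl⟩, h⟩
    have h3 : s ^ n ∈ γ.ker := Prod.ext (by simp [h1]) ((hI (s ^ n)).1 h).2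
    by_contra h4
    exact hk (hs ▸ γ.ker.orderOf_dvd_natCard (zpowers_le.2 h3 ((zpowers_eq_of_prime (hs ▸ hp) (zpow_mem_zpowers s n)
      fun e => h4 (congrArg Subtype.val e)).ge (mem_zpowers s))))
  have h3 : zpowers s.1 ≤ centralizer (zpowers s.1 : Set G) := by
    rw [centralizer_zpowers, zpowers_le]; exact mem_centralizer_singleton_iff.2 rfl
  have h4 : zpowers s.1 ⊔ I = centralizer (zpowers s.1 : Set G) := le_antisymm (sup_le h3 hc) fun x hx => by
    rw [centralizer_zpowers] at hx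
    have h5 : (⟨x, hC hx⟩ : M) * s = s * ⟨x, hC hx⟩ := Subtype.ext (mem_centralizer_singleton_iff.1 hx)
    obtain ⟨n, hn⟩ := h2 _ h5
    rw [← mul_inv_cancel_left (s.1 ^ n) x]
    refine mul_mem_sup (zpow_mem_zpowers _ n) ((hI ((s ^ n)⁻¹ * ⟨x, hC hx⟩)).2 ⟨?_, by simp [← hn]⟩)
    rw [mul_assoc, h5]; group
  refine ⟨I, ⟨h3, hc, fun a ha b hb => hc hb a ha, hd, h4⟩, ?_, hI,
    (MonoidHom.fst A B).comp (γ.comp (inclusion hle)), fun a => ?_, fun _ _ => rfl⟩
  · rw [← h4, Solv.card_sup_of_disjoint (hc.trans (centralizer_le_normalizer _)) hd, Nat.card_zpowers, orderOf_coe, hs]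
  · obtain ⟨m, hm⟩ := hγ (a, 1)
    have h5 : s ^ p ^ 1 = 1 := by rw [pow_one, ← hs, pow_orderOf_eq_one]
    obtain ⟨u, hu, e⟩ := conj_of_ker γ hp hk h5 (y := m * s * m⁻¹) (by rw [conj_pow, h5]; group)
      (Prod.ext (by simp [hm, h1]) (by simp [hm]))
    refine ⟨⟨(u * m).1, (hI _).2 ⟨?_, by simp [hu, hm]⟩⟩, show (γ (u * m)).1 = a by simp [hu, hm]⟩
    exact mul_inv_eq_iff_eq_mul.1 (Eq.trans (by group) e)

theorem sylJ {p : ℕ} [hp : Fact p.Prime] {x : J} (ho : orderOf x = p) (h : p ^ 1 ∣ 86775571046077562880)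
    (h' : ¬ p ^ (1 + 1) ∣ 86775571046077562880) : ∃ P : Sylow p J, (P : Subgroup J) = zpowers x :=
  ⟨Sylow.ofCard (zpowers x) (by rw [Nat.card_zpowers, ho, factJ hp.out h h', pow_one]), rfl⟩

theorem norm_SG {gs l : List ℕ} (hl : CodesIn RK l (SG gs)) {c : ℕ} {x : K} (hx : RK c x)
    (h : allL gs (fun a => memL (kmul (kmul c a) (kinv c)) l) = true) : x ∈ normalizer (SG gs : Set K) :=
  mem_normalizer_closure fun _ ⟨a, ha, e⟩ =>
    hl.mem (mdK.mul (mdK.mul hx e) (grpK.inv hx)) (memL_iff.1 (allL_iff.1 h a ha))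

theorem ker_γ {A : Type*} [Group A] {γ : MM →* A} (h : ∀ x, γ x = 1 ↔ x.1 ∈ LJ) : Nat.card γ.ker = 2 ^ 15 := by
  rw [show γ.ker = LJ.subgroupOf MM from Subgroup.ext h, Nat.card_congr (subgroupOfEquivOfLe LJ_le).toEquiv, card_LJ]

theorem pow_eq_one_cop {A : Type*} [Group A] {a : A} {p : ℕ} (h : a ^ p = 1) (hc : (Nat.card A).Coprime p) : a = 1 :=
  orderOf_eq_one_iff.1 (Nat.eq_one_of_dvd_coprimes hc (orderOf_dvd_natCard a) (orderOf_dvd_of_pow_eq_one h))

def w7 : List ℕ := [13, 0, 7, 15, 13, 2, 0, 17, 19, 20, 22, 23, 25]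
noncomputable def t7 : K := kw w7
def c7 : ℕ := 3103138494991408634025123473039309931226
theorem RK_t7 : RK c7 t7 := congr_beq (RK_kw w7) (by decide +kernel)
theorem ord_t7 : orderOf t7 = 7 := mdK.order RK_t7 (by norm_num) (by decide +kernel)
theorem t7_KT : t7 ∈ KT := norm_SG ZK_spec.1 RK_t7 (by decide +kernel)

/-- the relation `s³ + s² + 1 = 0` -/
def Wr (s v : K) : Prop := s ^ 3 * v * (s ^ 3)⁻¹ * (s ^ 2 * v * (s ^ 2)⁻¹) * v = 1
noncomputable def wr (a b : ℕ) : Bool := force (pwc kmul kone a 3) fun x => force (pwc kmul kone a 2) fun y =>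
  Nat.beq (kmul (kmul (kmul (kmul x b) (kinv x)) (kmul (kmul y b) (kinv y))) b) kone

theorem Wr.conj {s v : K} (h : Wr s v) (c : K) : Wr (c * s * c⁻¹) (c * v * c⁻¹) := by
  rw [Wr, conj_pow, conj_pow]
  exact Eq.trans (by group) (conj_eq_one_iff.2 h : c * _ * c⁻¹ = 1)

theorem Wr_of {a b : ℕ} {s v : K} (ha : RK a s) (hb : RK b v) (h : wr a b = true) : Wr s v := by
  rw [wr, force_eq, force_eq] at h
  exact mdK.func (congr_beq (mdK.mul (mdK.mul (mdK.mul (mdK.mul (mdK.pow ha 3) hb) (grpK.inv (mdK.pow ha 3)))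
    (mdK.mul (mdK.mul (mdK.pow ha 2) hb) (grpK.inv (mdK.pow ha 2)))) hb) h) mdK.one

theorem Wr_ZK {v : K} (hv : v ∈ V) (h : Wr t7 v) : v ∈ ZK := by
  have h1 := allLt_iff.1 (force_eq _ _ ▸ force_eq _ _ ▸ (show force (mt1 (hi (pwc kmul kone c7 3))) (fun x =>
    force (mt1 (hi (pwc kmul kone c7 2))) fun y => allLt 4096 fun m => bor (not (tb EV m))
      (bor (not (Nat.beq (Nat.xor (app x m) (app y m)) m)) (memL m LZ))) = true by decide +kernel)) _ (sy_lt v)
  have h2 := congrArg sy h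
  have h3 {a : K} (ha : a ∈ V) (b : K) : sy (a * b) = sy b ^^^ sy a := by
    rw [sy_mul (c := one24) (π_V ha ▸ grpM.one), act_one grpM.one (sy_lt _)]
  have h4 := V_normal.conj_mem _ hv
  rw [h3 (V.mul_mem (h4 _) (h4 _)), h3 (h4 _), sy_conj (mdK.pow RK_t7 3).1.1 hv, sy_conj (mdK.pow RK_t7 2).1.1 hv, sy_one,
    Nat.xor_eq_zero_iff] at h2
  simp only [bor_eq, Bool.or_eq_true, Bool.not_eq_true', tb_eq, EV_bit, nbeq_false, memL_iff, Bool.true_eq_false, false_or,
    app_mt1 (mdK.pow RK_t7 3).1.1 _ (sy_lt v), app_mt1 (mdK.pow RK_t7 2).1.1 _ (sy_lt v)] at h1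
  refine mem_ZK.2 ⟨hv, h1.resolve_left (not_not.2 ?_)⟩
  generalize act _ (sy v) = x at h2 ⊢
  generalize act _ (sy v) = y at h2 ⊢
  rw [h2]
  exact Nat.eq_of_testBit_eq fun i => by simp only [Nat.xor_eq, Nat.testBit_xor]; cases x.testBit i <;> cases y.testBit i <;> rfl

theorem h0_7 : ∀ c ∈ normalizer (zpowers t7 : Set K), ι c ∈ MM := fun c hc => by
  classical
  have h1 : c⁻¹ * t7 * c ∈ zpowers t7 := inv_conj_mem_of_normalizer hc _ (mem_zpowers _)
  rw [mem_zpowers_iff_mem_range_orderOf, ord_t7] at h1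
  obtain ⟨a, ha, e⟩ := Finset.mem_image.1 h1
  have key {v : K} (hv : v ∈ V) (h : Wr (t7 ^ a) v) : c * v * c⁻¹ ∈ ZK := by
    have := h.conj c
    rw [e, show c * (c⁻¹ * t7 * c) * c⁻¹ = t7 by group] at this
    exact Wr_ZK (V_normal.conj_mem _ hv c) this
  have h2 := allLt_iff.1 (show allLt 7 (fun a => force (pwc kmul kone c7 a) fun x => bor (Nat.beq a 0) (bor (allL (LZ.map (pk one24)) (wr x))
    (allL ([0, 78, 153, 215, 275, 349, 394, 452, 523].map (pk one24)) fun b => band (okK b) (band (Nat.beq (hi b) one24) (wr x b))))) = true by decide +kernel)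
    a (Finset.mem_range.1 ha)
  simp only [force_eq, bor_eq, Bool.or_eq_true, nbeq] at h2
  rcases h2 with rfl | h2 | h2
  · rw [pow_zero, eq_comm, mul_assoc, inv_mul_eq_one, eq_comm, mul_eq_right] at e
    exact absurd (e ▸ ord_t7) (by simp)
  · refine ι_norm.2 (mem_normalizer_fintype fun z hz => ?_)
    obtain ⟨b, hb, h3⟩ := ZK_spec.2.1.forall h2 hz
    exact key (ZK_le hz) (Wr_of (mdK.pow RK_t7 a) hb h3)
  · have h3 := len_le_card (H := mp (MulAut.conj c).symm ZK) (l := [0, 78, 153, 215, 275, 349, 394, 452, 523].map (pk one24)) (fun b hb => by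
      have h4 := allL_iff.1 h2 b hb
      simp only [band_eq, Bool.and_eq_true, nbeq] at h4
      exact ⟨_, mem_mp.2 (key ((RK_el h4.1).mem_V.2 h4.2.1) (Wr_of (mdK.pow RK_t7 a) (RK_el h4.1) h4.2.2)), RK_el h4.1⟩)
      (by decide +kernel)
    rw [mp_card, ZK_spec.2.2] at h3
    exact absurd h3 (by decide)

theorem norm7 : normalizer (zpowers (ι t7) : Set J) ≤ MM := by
  have k {i n : ℕ} (hi : i < 7) := gn_syl (k := 0) (n := n) hi RK_t7 (by norm_num) (by decide) ord_t7 h0_7 [] [[]] [] (by simp)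
  refine norm_le fun i hi => ?_
  interval_cases i
  exacts [d0 ▸ gn_one h0_7, gn_syl (k := 1) (n := 33030144) (by decide) RK_t7 (by norm_num) (by decide) ord_t7 h0_7
    [(w7, [13, 13, 5, 2, 4, 7, 10, 17, 19, 20, 22, 23, 25])] [[], [0], [0, 0], [0, 0, 0], [0, 0, 0, 0], [0, 0, 0, 0, 0], [0, 0, 0, 0, 0, 0]] [([], [2, 12, 15, 11, 5, 0, 1, 4])]
    (fun x hx => by
      obtain rfl := List.mem_singleton.1 hx
      exact MM.mul_mem (MM.mul_mem (ι_norm.2 KT.one_mem) (d1 ▸ T_MM)) (ι_norm.2 (norm_SG ZK_spec.1 (RK_kw _) (by decide +kernel))))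
    (by decide) (by norm_num) (by decide +kernel) (by decide +kernel),
    k (n := 147456) (by decide) (by decide) (by norm_num) rfl (by decide +kernel),
    k (n := 15360) (by decide) (by decide) (by norm_num) rfl (by decide +kernel),
    k (n := 17694720) (by decide) (by decide) (by norm_num) rfl (by decide +kernel),
    k (n := 9216) (by decide) (by decide) (by norm_num) rfl (by decide +kernel),
    k (n := 6072) (by decide) (by decide) (by norm_num) rfl (by decide +kernel)]

theorem LJ_t7 {x : J} (hx : x ∈ LJ) (h : x * ι t7 = ι t7 * x) : x = 1 := by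
  obtain ⟨k, hk, rfl⟩ := hx
  rw [← map_mul, ← map_mul] at h
  have h := ι_inj h
  obtain ⟨-, -, -, -, ⟨c, hc, e⟩, h9⟩ := LK_dec hk
  have h1 := allL_iff.1 (show allL lO (fun c => bor (Nat.beq (hi c) one24)
    (not (Nat.beq (mul24 (hi c) (hi c7)) (mul24 (hi c7) (hi c))))) = true by decide +kernel) c hc
  simp only [bor_eq, Bool.or_eq_true, Bool.not_eq_true', (mdM.comm_iff e RK_t7.1).1 (by rw [← map_mul, h, map_mul]),
    Bool.true_eq_false, or_false, nbeq] at h1
  have hV := mem_V_of (mdM.func (h1 ▸ e) mdM.one)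
  have h2 := allL_iff.1 (show allL L9 (fun m => bor (Nat.beq m 0) (not (Nat.beq (act (hi c7) m) m))) = true
    by decide +kernel) _ (mem_L9 h9)
  simp only [bor_eq, act_fix RK_t7.1.1 hV h.symm, Nat.beq_refl, Bool.not_true, Bool.or_false, nbeq] at h2
  rw [sy_inj hV V.one_mem (h2.trans sy_one.symm), map_one]

theorem reg7 {c : J} (hc : c ∈ MM) (h : c * ι t7 = ι t7 * c) : ∃ i : ℕ, (ι t7 ^ i)⁻¹ * c ∈ centralizer (Z0 : Set J) := by
  have r : RK (pk one24 216) (el (pk one24 216)) := RK_el (by decide +kernel)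
  have key {y : J} (hy : y ∈ Z0) : y = 1 ∨ ∃ i : ℕ, y = ι t7 ^ i * ι (el (pk one24 216)) * (ι t7 ^ i)⁻¹ := by
    obtain ⟨y, hy, rfl⟩ := hy
    obtain ⟨b, hb, h1⟩ := ZK_spec.2.1.forall (f := fun b => bor (Nat.beq b kone) (anyL (List.range 7) fun i =>
      force (pwc kmul kone c7 i) fun x => Nat.beq (kmul x (pk one24 216)) (kmul b x))) (by decide +kernel) hy
    simp only [bor_eq, Bool.or_eq_true, anyL_iff, force_eq] at h1
    rcases h1 with h1 | ⟨i, -, h1⟩
    · exact .inl (by rw [mdK.func (congr_beq hb h1) mdK.one, map_one])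
    · exact .inr ⟨i, by rw [← mdK.semi r hb (mdK.pow RK_t7 i) h1]; simp⟩
  obtain h1 | ⟨i, h1⟩ := key ((mem_normalizer_iff.1 hc _).1 ⟨_, mem_SG r (gs := gZ) (by decide +kernel), rfl⟩)
  · rw [conj_eq_one_iff, map_eq_one_iff ι ι_inj] at h1
    exact absurd ((mdK.eq_iff r mdK.one).1 h1) (by decide +kernel)
  refine ⟨i, fun y hy => ?_⟩
  obtain rfl | ⟨j, rfl⟩ := key hy
  · simp
  have h2 : Commute (ι t7 ^ j) ((ι t7 ^ i)⁻¹ * c) :=
    ((Commute.pow_pow_self _ j i).inv_right).mul_right (Commute.pow_left h.symm j)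
  have h3 : Commute (ι (el (pk one24 216))) ((ι t7 ^ i)⁻¹ * c) := by
    rw [mul_inv_eq_iff_eq_mul] at h1
    rw [Commute, SemiconjBy, mul_assoc (ι t7 ^ i)⁻¹, h1]; group
  exact ((h2.mul_left h3).mul_left h2.inv_left).eq

/-- the statement on subgroups of order seven -/
def P7 {G : Type*} [Group G] (S : Subgroup G) : Prop :=
  (∃ I : Subgroup G, IsInternalDirectProduct S I (centralizer (S : Set G)) ∧ Nonempty (I ≃* Equiv.Perm (Fin 5))) ∧
    Nat.card (normalizer (S : Set G)) = 3 * Nat.card (centralizer (S : Set G)) ∧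
    Nat.card (normalizer (S : Set G)) = 2 ^ 3 * 3 ^ 2 * 5 * 7

instance fact7 : Fact (Nat.Prime 7) := ⟨by norm_num⟩
theorem ord_ι7 : orderOf (ι t7) = 7 := (orderOf_injective ι ι_inj _).trans ord_t7

theorem P7_t7 : P7 (zpowers (ι t7)) ∧ Nat.card (centralizer (zpowers (ι t7) : Set J)) = 840 := by
  obtain ⟨γ, h1, h2, h3⟩ := exγ
  have ho : orderOf (⟨ι t7, ι_norm.2 t7_KT⟩ : MM) = 7 := (orderOf_coe _).symm.trans ord_ι7
  obtain ⟨I, hI, hc, h4, φ, h5, h6⟩ := cent_split γ h1 (p := 7) (by norm_num) (by rw [ker_γ h2]; norm_num) ho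
    (centralizer_zpowers (ι t7) ▸ (centralizer_le_normalizer _).trans norm7)
    (pow_eq_one_cop (p := 7) (by rw [← Prod.pow_fst, ← map_pow, ← ho, pow_orderOf_eq_one, map_one]; rfl)
      (by rw [Nat.card_perm, Nat.card_fin]; decide)) fun c hc => by
        obtain ⟨i, hi⟩ := reg7 c.2 (congrArg Subtype.val hc)
        have := (h3 ((⟨ι t7, ι_norm.2 t7_KT⟩ ^ i)⁻¹ * c)).2 hi
        rw [map_mul, map_inv, map_pow, Prod.snd_mul, Prod.snd_inv, inv_mul_eq_one] at this
        exact this ▸ npow_mem_zpowers _ i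
  have hle : I ≤ MM := hI.2.1.trans ((centralizer_le_normalizer _).trans norm7)
  have e := MulEquiv.ofBijective φ ⟨(injective_iff_map_eq_one φ).2 fun x hx => Subtype.ext (by
    have h7 := (h4 ⟨x, hle x.2⟩).1 x.2
    exact LJ_t7 ((h2 _).1 (Prod.ext ((h6 x _).symm.trans hx) h7.2)) (congrArg Subtype.val h7.1)), h5⟩
  rw [Nat.card_congr e.toEquiv, Nat.card_perm, Nat.card_fin] at hc
  obtain ⟨P, hP⟩ := sylJ ord_ι7 (by norm_num) (by norm_num)
  obtain ⟨a, n, k1, k2, k3, k4⟩ := norm_of_selfc P (by rw [hP, Nat.card_zpowers, ord_ι7])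
  simp only [Nat.factorial] at hc
  rw [hP, hc] at k3 k4
  rw [cardJ] at k3
  have := Nat.le_of_dvd (by norm_num) k1
  refine ⟨⟨⟨I, hI, ⟨e⟩⟩, ?_⟩, hc⟩
  rw [k4, hc]
  interval_cases a <;> omega

section
variable {H G : Type*} [Group H] [Group G] (f : H ≃* G)

theorem idp_mp {A B C : Subgroup H} (h : IsInternalDirectProduct A B C) :
    IsInternalDirectProduct (mp f A) (mp f B) (mp f C) :=
  ⟨mp_le.2 h.1, mp_le.2 h.2.1, by
    rintro _ ⟨a, ha, rfl⟩ _ ⟨b, hb, rfl⟩
    rw [← map_mul, h.2.2.1 a ha b hb, map_mul], by rw [mp_inf, h.2.2.2.1, mp_bot], by rw [mp_sup, h.2.2.2.2]⟩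

theorem P7.tr {S : Subgroup H} (h : P7 S) : P7 (mp f S) := by
  obtain ⟨⟨I, h1, ⟨e⟩⟩, h2⟩ := h
  rw [P7, mp_norm, mp_cent, mp_card, mp_card]
  exact ⟨⟨_, idp_mp f h1, ⟨(mpE f I).symm.trans e⟩⟩, h2⟩

end

theorem prime_mp {G : Type*} [Group G] (f : J ≃* G) {p : ℕ} (hp : p.Prime) (h : ¬ p ^ 2 ∣ 86775571046077562880) {x : J}
    (hx : orderOf x = p) {S : Subgroup G} (hS : Nat.card S = p) : ∃ f' : J ≃* G, mp f' (zpowers x) = S := by
  obtain ⟨S, rfl⟩ := mp_surj f S
  obtain ⟨y, hy, rfl⟩ := exists_zpowers_of_prime hp ((mp_card S).symm.trans hS)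
  obtain ⟨g, hg⟩ := exists_conj_zpowers hp cardJ h hy hx
  exact ⟨(MulAut.conj g).trans f, by rw [← mp_trans, ← mp_zpowers, ← hg]; rfl⟩

theorem r73 {G : Type*} [Group G] (f : J ≃* G) {S : Subgroup G} (hS : Nat.card S = 7) : ¬ 49 ∣ Nat.card G ∧ P7 S := by
  obtain ⟨f', rfl⟩ := prime_mp f (by norm_num) (by norm_num) ord_ι7 hS
  exact ⟨by rw [← Nat.card_congr f.toEquiv, cardJ]; norm_num, P7_t7.1.tr f'⟩

theorem cent7 {x : J} (h : orderOf x = 7) : Nat.card (centralizer ({x} : Set J)) = 840 := by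
  obtain ⟨f, hf⟩ := prime_mp (MulEquiv.refl J) (by norm_num) (by norm_num) ord_ι7 ((Nat.card_zpowers x).trans h)
  rw [← centralizer_zpowers, ← hf, mp_cent, mp_card, P7_t7.2]

def gX : List ℕ := [2580433213384875048256896512565633650616, 3102153903838828233710851988147115609127, 2755492186023295129521543934895721208130]
def lX : List ℕ := [4033815529618450547112136865621959901184, 2580433213384875048256896512565633650616, 3102153903838828233710851988147115609127, 2755492186023295129521543934895721208130, 3239662834918570938473668969273292576905, 602578311899807430840733948369128712709, 2755761676642958529093657521918803762482, 3099805032965743241071228451889737453218, 1885720765665976248546294132407244337001, 2066521739633072218376822829856015422970, 4031784194020324119506807276400112304795, 3101257132368219487464119360501408419380, 2757595532930974225012123837412584381566, 4032454582637224086947579952460599132627, 1884622613252479417393505783182780442235,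 1883591211559438721302943508822011585100, 2065288602741381608120991504936850330792, 2064397448728115104675690103287954706639, 2581132885809416702055988373125716935996, 2756528658642357705516739064242433610124, 3101974256790515153659275807414404596609, 2582075094236389918032420857404399191603, 3239548708661341875040876837197901814211, 3238049921608092346668878768693691898625, 602350000678561728535760355607760661335, 600882367425653132893070084954525592005, 3239398644146766125679010900558222155252, 604303478299915431866832860634425781191, 4031660080690964707895201232269741787548, 3103324703501228489654689567529230352860, 2754216120765157585020844496781793090243, 4033597253431639792311530015365339678436, 3240208783702627347719499987222981858012, 600861578461499848737519875035017044362, 602360362638035048530597896790519375586, 2580251620239684146018214096375879601198, 604183836684789593407982767486534610016, 2580911695317876053329449947393239582460, 2580308776171029382869445408604033682399,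 3239569434715292576034389892055595310524, 2582028419482360843154031144579915221325, 3240265926958496525848778870671222333230, 1882294512091085774235065033036762227897, 2064666784787316587105095995518821374674, 2578758023657321011224095172354263256700, 2755870519442814456198463843854578933348, 3101200483322734866420086783518574333284, 2580974041586955283488005526560439046126, 1885585540767418384368779505837353641339, 2064366222277925016822586862214169925760, 2065397620845756135131816156830770567514, 4032655054751219453623997153943289463761, 2065197148682945854436129732448496688501, 4033617981464593141802029662967790700462, 4032597898783203630118831288397796082322, 1884560270526549445143626917313515793577, 4032423489470466472527726395935838439157, 1885580413851957750733330554232685635790, 1884349553066835687315208237922340611515, 2064734307384122539278431415384869740261, 2064697877858836983402411530801018868672, 3241377368160647393453874856382543388066, 603025628063556239265962877984294366328,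 4031929394821217684995191838928365946146, 3101469800326543502259805413425539271387, 2757725421740492708485385948103088198948, 4032587534115038971691118777103785526644, 3238075838233664545183404311001485369142, 604178660197057057700393789685094080837, 1884391048837665744565253157081376924234, 1882299709221484967863856729351040835782, 2066495771532172543305618162363098372740, 3101164056469932311083172836410074546899, 2757694331618198683644875955136899505828, 2063007198606697083087276202152736628005, 2066396975537365021200204557874059187509, 3101963895002714739902250691876860284774, 2754273274659715782912825989980046022997, 3101143330303945414371726460289089752757, 2757704693613880341533482528955558976464, 1883565296403932260907292321744813727886, 1885725943526372727389406808065609737707, 3099872555479070799503390641275030817664, 2757559106178726749307838045022510307970, 3241367003570628184033106144196203338998, 604355340109407653265602571548999477509, 604350153096409493699076109724945672845,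 1884458569472141239779225201154208866909, 2582267326039086073180203291793978199151, 2580199759843869279412372244479835933323, 2065124558850712976907456260634279976701, 3241325507763127540129126671719827725749, 3239383041118237362167585610870286931750, 602474491593432054346147408317589548323, 2754210931912894548371011740773838019884, 3101423123493262401468312345305118232566, 602142833333232242463246316259542494256, 2757486515197693535133745706490013864158, 3101532141659687382008691803613217245893, 3239735425854725814776064587069869350054, 2755544048647194230617377353552777370261, 3101969072874409343249108931040796035991, 603082781037161353429710374696634869680, 2578778751869969698396947093837358860361, 2581080926559942154815305989293904924606, 2581075742689796335501502684880540174811, 3239377852328028254606181294531991527010, 1882263282404891354865733354327401867112, 1885554450689999826286114139800563787322, 3240367648346068298062852718221351672274, 602251850954170736612450359465267097315,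 3239600664356302657519108744247811593844, 602375963926555973203925272375448890722, 2063069519655113164148104534138284710720, 2066355424685880938091202325572565769329, 603077583794725964082985357119064959958, 2578773624990717402655267174868591611197, 2580469572458117026255822574944291949210, 3239730299694100282942125220213146607221, 4033592066402858681579406626107325023668, 2755927664541437471249936124844513220534, 4031950186811628462305833870599810975718, 2582298556096374329681981491474688282348, 3240393615201157235820818960340484313921, 4032485812780545188111433021221394714107, 3099830999851009974457246039408798156009, 2755896438059062681183537357496946841931, 4031924218689530920486431513867435901057, 602515988625012102008820382389240131488, 2580474769019900282118716269643922964489, 4033763569103739671542296861710393409883, 3102138301401509843505957839650427193537, 2066339821636460912287841652547687192584, 4031597739408420081609898804450838577475, 4031825746736059384469115455387315209908,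 4031789320068607455611572555539989139003, 3240162106880647242545604576414651998000, 1883684287501985234253751900749305520344, 2063017560416936741411167713812043046833, 1884581062338941405196075111211627356564, 2065392422869830144887749761562195434615, 602210298193557133778445459742144521407, 4031654882726339713268732494313257829488, 4033779171472507563861826211857333093335, 1885783086668432338510758892432548603775, 2580937612039079976520269116460728353953, 3103319573909795895641247575091418713788, 1883788110656690659730580439677627048532, 2582095886277399344361625311995658931438, 2755596009109450057113007675474294005156, 3103298784977827313698992891445691760705, 2582194735903579655621385652215778281313, 2066454272893895263843433541060951971904, 2755766873234919580584602562018362840953, 2065176420753977198479254121765585853671, 2756533834829906016699704267924043914294, 3101329722539009291774730059385276025745, 2755699350718341924272455120888099558019, 3101298629485832379788867203653144494620,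 600918723505653201464170046149012287210, 1883751752508739560863974780499294463977, 1883518621711422892608673109573834023196, 2064361092740962085133966979652297331026, 3240429974277649311699730274464112531131, 2756487160054679075073116865860101921617, 3102086438779618858026419426407076810108, 3238044745097770059869573265376391549006, 604246182889494734550022836310837748504]

theorem exL32 : ∃ X : Subgroup J, X ≤ MM ∧ Nonempty (X ≃* SL3) := by
  obtain ⟨γ, -, -, h3⟩ := exγ
  obtain ⟨-, h1, h2⟩ := sg_spec (gs := gX) (l := lX) (n := 168) [[], [0], [1], [2], [0, 1], [0, 2], [1, 0], [2, 0], [0, 1, 0], [0, 2, 0], [1, 0, 1], [1, 0, 2], [2, 0, 1], [2, 0, 2], [0, 1, 0, 1], [0, 1, 0, 2], [0, 2, 0, 1], [0, 2, 0, 2], [1, 0, 1, 0], [1, 0, 2, 0], [2, 0, 1, 0], [2, 0, 2, 0], [0, 1, 0, 1, 0], [0, 1, 0, 2, 0], [0, 2, 0, 1, 0], [0, 2, 0, 2, 0], [1, 0, 1, 0, 1], [1, 0, 1, 0, 2], [1, 0, 2, 0, 1], [1, 0, 2, 0, 2], [2, 0, 1, 0, 1], [2, 0, 1, 0, 2], [2, 0, 2, 0, 1], [2, 0, 2, 0,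 2], [0, 1, 0, 1, 0, 1], [0, 1, 0, 1, 0, 2], [0, 1, 0, 2, 0, 1], [0, 1, 0, 2, 0, 2], [0, 2, 0, 1, 0, 1], [0, 2, 0, 1, 0, 2], [0, 2, 0, 2, 0, 1], [0, 2, 0, 2, 0, 2], [1, 0, 1, 0, 1, 0], [1, 0, 1, 0, 2, 0], [1, 0, 2, 0, 1, 0], [1, 0, 2, 0, 2, 0], [2, 0, 1, 0, 1, 0], [2, 0, 1, 0, 2, 0], [2, 0, 2, 0, 1, 0], [2, 0, 2, 0, 2, 0], [0, 1, 0, 1, 0, 1, 0], [0, 1, 0, 1, 0, 2, 0], [0, 1, 0, 2, 0, 1, 0], [0, 1, 0, 2, 0, 2, 0], [0, 2, 0, 1, 0, 1, 0], [0, 2, 0, 1, 0, 2, 0], [0, 2, 0, 2, 0, 1, 0], [0, 2, 0, 2, 0, 2, 0], [1, 0, 1, 0, 1, 0, 2], [1, 0, 1, 0, 2, 0, 1], [1, 0, 1, 0, 2, 0, 2], [1, 0, 2, 0, 1, 0, 1], [1, 0, 2, 0, 1, 0, 2], [1, 0, 2, 0, 2, 0, 1], [1, 0, 2, 0, 2, 0, 2], [2, 0, 1, 0, 1, 0, 1], [2, 0, 1, 0, 1, 0, 2], [2, 0, 1, 0, 2, 0, 1], [2, 0, 1, 0, 2, 0, 2], [2, 0, 2, 0, 1, 0, 1], [2, 0, 2, 0, 1, 0, 2], [2, 0, 2, 0, 2, 0, 1], [0, 1, 0, 1, 0, 2, 0, 1], [0, 1, 0, 1, 0, 2, 0, 2], [0, 1, 0, 2, 0, 1, 0, 1], [0, 1, 0, 2, 0, 1, 0, 2], [0, 1, 0, 2, 0, 2, 0, 1], [0, 1, 0,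 2, 0, 2, 0, 2], [0, 2, 0, 1, 0, 1, 0, 1], [0, 2, 0, 1, 0, 1, 0, 2], [0, 2, 0, 1, 0, 2, 0, 1], [0, 2, 0, 1, 0, 2, 0, 2], [0, 2, 0, 2, 0, 1, 0, 1], [0, 2, 0, 2, 0, 1, 0, 2], [1, 0, 1, 0, 1, 0, 2, 0], [1, 0, 1, 0, 2, 0, 1, 0], [1, 0, 1, 0, 2, 0, 2, 0], [1, 0, 2, 0, 1, 0, 1, 0], [1, 0, 2, 0, 2, 0, 1, 0], [2, 0, 1, 0, 1, 0, 2, 0], [2, 0, 1, 0, 2, 0, 2, 0], [2, 0, 2, 0, 1, 0, 1, 0], [2, 0, 2, 0, 1, 0, 2, 0], [2, 0, 2, 0, 2, 0, 1, 0], [0, 1, 0, 1, 0, 2, 0, 1, 0], [0, 1, 0, 1, 0, 2, 0, 2, 0], [0, 1, 0, 2, 0, 1, 0, 1, 0], [0, 1, 0, 2, 0, 2, 0, 1, 0], [0, 2, 0, 1, 0, 1, 0, 2, 0], [0, 2, 0, 1, 0, 2, 0, 2, 0], [0, 2, 0, 2, 0, 1, 0, 1, 0], [0, 2, 0, 2, 0, 1, 0, 2, 0], [1, 0, 1, 0, 1, 0, 2, 0, 1], [1, 0, 1, 0, 1, 0, 2, 0, 2], [1, 0, 1, 0, 2, 0, 1, 0, 1], [1, 0, 1, 0, 2, 0, 2, 0, 1], [1, 0, 1, 0, 2, 0, 2, 0, 2], [1, 0, 2, 0, 1, 0, 1, 0, 1], [1, 0, 2, 0, 1, 0, 1, 0, 2], [1, 0, 2, 0, 2, 0, 1, 0, 1], [1, 0, 2, 0, 2, 0, 1, 0, 2], [2, 0, 1, 0, 1, 0, 2, 0, 1], [2, 0, 1, 0, 1,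 0, 2, 0, 2], [2, 0, 1, 0, 2, 0, 2, 0, 1], [2, 0, 1, 0, 2, 0, 2, 0, 2], [2, 0, 2, 0, 1, 0, 1, 0, 1], [2, 0, 2, 0, 1, 0, 1, 0, 2], [2, 0, 2, 0, 2, 0, 1, 0, 1], [2, 0, 2, 0, 2, 0, 1, 0, 2], [0, 1, 0, 1, 0, 2, 0, 1, 0, 1], [0, 1, 0, 1, 0, 2, 0, 2, 0, 1], [0, 1, 0, 1, 0, 2, 0, 2, 0, 2], [0, 1, 0, 2, 0, 1, 0, 1, 0, 1], [0, 1, 0, 2, 0, 1, 0, 1, 0, 2], [0, 1, 0, 2, 0, 2, 0, 1, 0, 1], [0, 1, 0, 2, 0, 2, 0, 1, 0, 2], [0, 2, 0, 1, 0, 1, 0, 2, 0, 1], [0, 2, 0, 1, 0, 1, 0, 2, 0, 2], [0, 2, 0, 1, 0, 2, 0, 2, 0, 1], [0, 2, 0, 1, 0, 2, 0, 2, 0, 2], [0, 2, 0, 2, 0, 1, 0, 1, 0, 1], [0, 2, 0, 2, 0, 1, 0, 1, 0, 2], [1, 0, 1, 0, 1, 0, 2, 0, 1, 0], [1, 0, 1, 0, 1, 0, 2, 0, 2, 0], [1, 0, 1, 0, 2, 0, 1, 0, 1, 0], [1, 0, 1, 0, 2, 0, 2, 0, 1, 0], [1, 0, 2, 0, 1, 0, 1, 0, 2, 0], [1, 0, 2, 0, 2, 0, 1, 0, 1, 0], [1, 0, 2, 0, 2, 0, 1, 0, 2, 0], [2, 0, 1, 0, 1, 0, 2, 0, 1, 0], [2, 0, 1, 0, 1, 0, 2, 0, 2, 0], [2, 0, 1, 0, 2, 0, 2, 0, 1, 0], [2, 0, 2, 0, 1, 0, 1, 0, 2, 0], [2, 0, 2, 0,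 2, 0, 1, 0, 1, 0], [2, 0, 2, 0, 2, 0, 1, 0, 2, 0], [0, 1, 0, 1, 0, 2, 0, 1, 0, 1, 0], [0, 1, 0, 1, 0, 2, 0, 2, 0, 1, 0], [0, 1, 0, 2, 0, 1, 0, 1, 0, 2, 0], [0, 1, 0, 2, 0, 2, 0, 1, 0, 1, 0], [0, 1, 0, 2, 0, 2, 0, 1, 0, 2, 0], [0, 2, 0, 1, 0, 1, 0, 2, 0, 1, 0], [0, 2, 0, 1, 0, 1, 0, 2, 0, 2, 0], [0, 2, 0, 1, 0, 2, 0, 2, 0, 1, 0], [0, 2, 0, 2, 0, 1, 0, 1, 0, 2, 0], [1, 0, 1, 0, 1, 0, 2, 0, 1, 0, 1], [1, 0, 1, 0, 1, 0, 2, 0, 2, 0, 2], [1, 0, 1, 0, 2, 0, 1, 0, 1, 0, 1], [1, 0, 1, 0, 2, 0, 1, 0, 1, 0, 2], [1, 0, 1, 0, 2, 0, 2, 0, 1, 0, 1], [1, 0, 2, 0, 1, 0, 1, 0, 2, 0, 1], [1, 0, 2, 0, 2, 0, 1, 0, 1, 0, 2], [2, 0, 1, 0, 1, 0, 2, 0, 1, 0, 1], [2, 0, 1, 0, 1, 0, 2, 0, 2, 0, 1], [2, 0, 1, 0, 2, 0, 2, 0, 1, 0, 2], [2, 0, 2, 0, 1, 0, 1, 0, 2, 0, 2], [2, 0, 2, 0, 2, 0, 1, 0, 1, 0, 1], [0, 1, 0, 1, 0, 2, 0, 1, 0, 1, 0, 1], [0, 1, 0, 1, 0, 2, 0, 1, 0, 1, 0, 2]] (by decide +kernel)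
  have hle : (SG gX).map ι ≤ MM := by
    rw [map_le_iff_le_comap, MM_K]
    exact SG_le fun c hc x hx => norm_SG ZK_spec.1 hx (allL_iff.1 (show allL _ (fun c => allL gZ fun a =>
      memL (kmul (kmul c a) (kinv c)) (LZ.map (pk one24))) = true by decide +kernel) c hc)
  refine ⟨_, hle, ⟨MulEquiv.ofBijective ((MonoidHom.snd _ _).comp (γ.comp (inclusion hle)))
    ((Nat.bijective_iff_injective_and_card _).2 ⟨(injective_iff_map_eq_one _).2 ?_, by rw [card_mapι, h2, card_SL3]⟩)⟩⟩
  rintro ⟨_, x, hx, rfl⟩ h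
  obtain ⟨c, hc, h4⟩ := h1.forall (f := fun c => bor (Nat.beq c kone) (anyL gZ fun a => band (okK a)
    (not (Nat.beq (kmul a c) (kmul c a))))) (by decide +kernel) hx
  simp only [bor_eq, Bool.or_eq_true, anyL_iff, band_eq, Bool.and_eq_true, Bool.not_eq_true'] at h4
  rcases h4 with h4 | ⟨a, ha, h4, h5⟩
  · exact Subtype.ext ((congrArg ι (mdK.func (congr_beq hc h4) mdK.one)).trans (map_one _))
  · rw [(mdK.comm_iff (RK_el h4) hc).1 (ι_cent.1 ((h3 _).1 h) _ (mem_SG (RK_el h4) ha))] at h5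
    exact absurd h5 (by decide)

end Cfsg.Agent.J4F
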