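import Cfsg.Agent.J4F.Tv
import Cfsg.Agent.LES.Holo
import Cfsg.Agent.Comp.Lin
import Cfsg.Agent.Golay.Rank

/-! The subgroup `2^{3+12}.(S₅ × L₃(2))` of `J₄` (helper16). -/

set_option autoImplicit false
set_option maxRecDepth 100000
set_option exponentiation.threshold 100000

namespace Cfsg.Agent.J4F
open Subgroup Cfsg.Agent.Comp Cfsg.Agent.Golay Cfsg.Agent.J4T Cfsg.Agent.J4T.C
open Cfsg.Agent.Spor (ev getL genL genW seq seq_eq basePt)
open Cfsg.Agent.Spor.Ct (Fd mem_Fd card_Fd)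
open scoped commutatorElement
attribute [local instance 2000] Subgroup.instMulAction

abbrev SL3 : Type := Matrix.SpecialLinearGroup (Fin 3) (ZMod 2)

theorem card_SL3 : Nat.card SL3 = 168 := by rw [card_SL2F 3 (by decide)]; decide

theorem autSL {G : Type*} [Group G] [Finite G] {A : Subgroup G} (h : ∀ x ∈ A, x * x = 1) (hc : Nat.card A = 2 ^ 3) :
    Nonempty (MulAut A ≃* SL3) := by
  obtain ⟨e⟩ := @LES.aut_GL'' 3 2 _ A { (inferInstance : Group A) with mul_comm := (ea_of_sq h).1.1.1 } _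
    (fun x => Subtype.ext ((ea_of_sq h).2 x x.2)) hc
  have h2 := Classical.card_units_mul_card_SL (ι := Fin 3) (R := ZMod 2)
  rw [Nat.card_units, Nat.card_zmod, show 2 - 1 = 1 from rfl, one_mul] at h2
  exact ⟨e.trans (MulEquiv.ofBijective Matrix.SpecialLinearGroup.toGL ((Nat.bijective_iff_injective_and_card _).2
      ⟨Matrix.SpecialLinearGroup.toGL_injective, h2⟩)).symm⟩

theorem special_of {G : Type*} [Group G] [Finite G] {L Z : Subgroup G} (hp : IsPGroup 2 L)
    (h1 : L ⊓ centralizer (L : Set G) = Z) (h2 : ∀ x ∈ L, x * x ∈ Z) (h3 : Z ≤ ⁅L, L⁆) :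
    IsSpecial 2 L ∧ center L = Z.subgroupOf L := by
  have hc : center L = Z.subgroupOf L := by
    ext x
    rw [mem_subgroupOf, ← h1, mem_center_iff]
    exact ⟨fun h => ⟨x.2, fun y hy => congrArg Subtype.val (h ⟨y, hy⟩)⟩, fun h y => Subtype.ext (h.2 y y.2)⟩
  have h4 : ∀ x : L, x ^ 2 ∈ center L := fun x => by rw [hc, sq]; exact h2 x x.2
  have h5 : commutator L = center L := by
    refine le_antisymm (commutator_le.2 fun a _ b _ => ?_) fun x hx => ?_
    · have := mul_mem (mul_mem (h4 (a * b)) ((inferInstance : (center L).Normal).conj_mem _ (h4 a⁻¹) b⁻¹)) (h4 b⁻¹)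
      convert this using 1
      simp only [commutatorElement_def, sq]; group
    · obtain ⟨y, hy, e⟩ := (map_subtype_commutator L).ge (h3 (mem_subgroupOf.1 (hc ▸ hx)))
      exact Subtype.ext e ▸ hy
  have := hp.isNilpotent
  exact ⟨⟨hp, le_antisymm (Solv.frattini_le_of_commutator_le h5.le h4) (h5 ▸ Solv.commutator_le_frattini), h5⟩, hc⟩

/-! ### the centre `2^3` -/

def gZ : List ℕ := [pk one24 216, pk one24 1642, pk one24 2073]
noncomputable def ZK : Subgroup K := SG gZ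
theorem ZK_spec : CodesIn RK (LZ.map (pk one24)) ZK ∧ Lists RK (LZ.map (pk one24)) ZK ∧ Nat.card ZK = 8 :=
  sg_spec [[], [0], [1], [0, 1], [2], [0, 2], [1, 2], [0, 1, 2]] (by decide +kernel)

theorem mem_ZK {x : K} : x ∈ ZK ↔ x ∈ V ∧ sy x ∈ LZ := by
  refine ⟨fun h => ?_, fun h => ZK_spec.1.mem (RK_V h.1) (List.mem_map.2 ⟨_, h.2, rfl⟩)⟩
  obtain ⟨c, hc, e⟩ := ZK_spec.2.1.forall (f := fun c => band (Nat.beq (hi c) one24) (memL (lo c) LZ)) (by decide +kernel) h
  rw [band_eq, Bool.and_eq_true, nbeq, memL_iff] at e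
  exact ⟨hc.mem_V.2 e.1, hc.2 ▸ e.2⟩

theorem ZK_le : ZK ≤ V := fun _ h => (mem_ZK.1 h).1
noncomputable def Z0 : Subgroup J := ZK.map ι
noncomputable abbrev MM : Subgroup J := normalizer (Z0 : Set J)
noncomputable abbrev KT : Subgroup K := normalizer (ZK : Set K)
noncomputable abbrev CZ : Subgroup K := centralizer (ZK : Set K)
theorem card_Z0 : Nat.card Z0 = 2 ^ 3 := (card_mapι _).trans ZK_spec.2.2
theorem Z0_sq : ∀ x ∈ Z0, x * x = 1 := by
  rintro _ ⟨x, hx, rfl⟩; rw [← map_mul, ea_sq V_elem x (ZK_le hx), map_one]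

theorem ι_norm {A : Subgroup K} {k : K} : ι k ∈ normalizer (A.map ι : Set J) ↔ k ∈ normalizer (A : Set K) := by
  refine ⟨fun h => mem_normalizer_fintype fun x hx => ?_, fun h => le_normalizer_map ι ⟨k, h, rfl⟩⟩
  obtain ⟨y, hy, e⟩ := (mem_normalizer_iff.1 h _).1 ⟨x, hx, rfl⟩
  rw [← map_inv, ← map_mul, ← map_mul] at e
  exact ι_inj e ▸ hy

theorem ι_cent {A : Subgroup K} {k : K} : ι k ∈ centralizer (A.map ι : Set J) ↔ k ∈ centralizer (A : Set K) :=
  ⟨fun h x hx => ι_inj (by rw [map_mul, map_mul]; exact h _ ⟨x, hx, rfl⟩), by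
    rintro h _ ⟨x, hx, rfl⟩; rw [← map_mul, h x hx, map_mul]⟩

theorem T_cent : T ∈ centralizer (Z0 : Set J) := by
  have : ZK ≤ (centralizer {T}).comap ι := SG_le fun c hc x hx => by
    have h1 := allL_iff.1 (show allL gZ (fun c => anyL (b9.take 3) fun w => band (Nat.beq (kc w.1) c) (Nat.beq (kc w.2) c)) = true
      by decide +kernel) c hc
    simp only [anyL_iff, band_eq, Bool.and_eq_true] at h1
    obtain ⟨w, hw, h1, h2⟩ := h1
    have := pr_mem (rDA 1 (by decide)) (allL_iff.1 b9_ok w (List.mem_of_mem_take hw))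
    rw [kw_eq hx h1, kw_eq hx h2, d1] at this
    exact mem_centralizer_singleton_iff.2 this
  rintro _ ⟨x, hx, rfl⟩
  exact mem_centralizer_singleton_iff.1 (this hx)

theorem T_MM : T ∈ MM := centralizer_le_normalizer _ T_cent
theorem V_CZ : V ≤ CZ := fun _ hv _ hz => comm_of_sq (ea_sq V_elem) (ZK_le hz) hv
theorem CZ_KT : CZ ≤ KT := centralizer_le_normalizer _

theorem F1_KT : F1 ≤ KT := fun f hf => mem_normalizer_fintype fun z hz => by
  obtain ⟨f', e⟩ := mem_Fd.1 hf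
  have h1 : (z, z) ∈ PD T := T_cent _ ⟨z, hz, rfl⟩
  have h2 := V_normal.conj_mem _ (ZK_le hz)
  exact mem_ZK.2 ⟨h2 f, ((VV1 ((PD T).mul_mem ((PD T).mul_mem (mem_PD.2 e) h1) ((PD T).inv_mem (mem_PD.2 e))) (h2 f)).2 (h2 f')).1⟩

theorem sy_inj {x y : K} (hx : x ∈ V) (hy : y ∈ V) (h : sy x = sy y) : x = y := ext_K ((π_V hx).trans (π_V hy).symm) h

theorem MM_cases {g : J} (hg : g ∈ MM) : (∃ u ∈ KT, g = ι u) ∨ ∃ u ∈ KT, ∃ v : K, g = ι u * T * ι v := by
  obtain ⟨i, hi, u, v, rfl⟩ := dcoset g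
  have key : ∀ z ∈ ZK, u⁻¹ * z * u ∈ V ∧ ∃ y ∈ V, (u⁻¹ * z * u, y) ∈ PD (d i) := fun z hz => by
    obtain ⟨z', hz', e⟩ := inv_conj_mem_of_normalizer hg _ ⟨z, hz, rfl⟩
    exact ⟨by simpa using V_normal.conj_mem _ (ZK_le hz) u⁻¹, _, V_normal.conj_mem _ (ZK_le hz') v, PD_of_conj e.symm⟩
  rcases (by omega : i = 0 ∨ i = 1 ∨ 2 ≤ i) with rfl | rfl | h2
  · rw [d0, mul_one, ← map_mul] at hg ⊢
    exact .inl ⟨_, ι_norm.1 hg, rfl⟩
  · rw [d1] at key ⊢
    refine .inr ⟨u, KT.inv_mem_iff.1 (mem_normalizer_fintype fun z hz => ?_), v, rfl⟩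
    obtain ⟨h1, y, hy, e⟩ := key z hz
    rw [inv_inv]
    exact mem_ZK.2 ⟨h1, ((VV1 e h1).2 hy).1⟩
  · exfalso
    have h3 : ∀ z ∈ ZK, z = 1 ∨ sy (u⁻¹ * z * u) = 3755 := fun z hz => by
      obtain ⟨h1, y, hy, e⟩ := key z hz
      refine (VV h2 hi e h1 hy).imp_left fun h => ?_
      have := sy_inj h1 V.one_mem (h.trans sy_one.symm)
      rwa [mul_assoc, inv_mul_eq_one, eq_comm, mul_eq_right] at this
    have r1 : RK (pk one24 216) (el (pk one24 216)) := RK_el (by decide +kernel)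
    have r2 : RK (pk one24 1642) (el (pk one24 1642)) := RK_el (by decide +kernel)
    have m1 := mem_SG r1 (gs := gZ) (by decide +kernel)
    have m2 := mem_SG r2 (gs := gZ) (by decide +kernel)
    have := sy_inj (key _ m1).1 (key _ m2).1
      (((h3 _ m1).resolve_left ((mdK.eq_iff r1 mdK.one).not.2 (by decide +kernel))).trans
        ((h3 _ m2).resolve_left ((mdK.eq_iff r2 mdK.one).not.2 (by decide +kernel))).symm)
    exact absurd ((mdK.eq_iff r1 r2).1 (mul_left_cancel (mul_right_cancel this))) (by decide +kernel)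

/-- `K` acting on `V` by conjugation -/
noncomputable def kV : Keyed RK (Cj K) where
  P m x := (show K from x) ∈ V ∧ sy x = m
  act c m := act (hi c) m
  key m := m
  isAct _ g _ x hc h := ⟨V_normal.conj_mem _ h.1 g, h.2 ▸ sy_conj hc.1.1 h.1⟩
  can _ _ _ h h' := h.2.symm.trans h'.2
  inj _ _ _ _ h h' e := sy_inj h.1 h'.1 (h.2.trans (e.trans h'.2.symm))

theorem kV_P {m : ℕ} (h : okV m = true) : ∃ x, kV.P m x := let ⟨k, h1, h2⟩ := exists_K 1 h; ⟨k, mem_V_of h1, h2⟩

theorem card_CZ_le : Nat.card CZ ≤ 2 ^ 11 * 384 := by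
  have h := Comp.chainK_mul_le (C := kV) (fun a => a) 2000 [216, 1642, 2073]
    (fun b hb => kV_P (allL_iff.1 (show allL [216, 1642, 2073] okV = true by decide +kernel) b hb)) (H := CZ)
    (fun b hb (x : K) hx g hg => show g * x * g⁻¹ = x from mul_inv_eq_iff_eq_mul.2 (hg x (mem_ZK.2 ⟨hx.1, hx.2 ▸ (by decide : ∀ b ∈ [216, 1642, 2073], b ∈ LZ) b hb⟩)).symm)
    [2404779417719596749881137686593180606464, 1438424932131107681252893034984186724352, 243142218634888826972212965390012391424, 1824379284172935319684951920127049097216, 1896352962719099665698343217310565597184, 2501527365721062654104708629401288011776] ⊤ (codesK (by decide +kernel)) le_top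
  rw [card_top, cardK, show Comp.chainK _ _ _ _ _ = 637560 by decide +kernel] at h
  omega

theorem card_norm_le {G : Type*} [Group G] [Finite G] {A : Subgroup G} (h : ∀ x ∈ A, x * x = 1) (hc : Nat.card A = 2 ^ 3) :
    ∃ k ≤ 168, k = Nat.card A.normalizerMonoidHom.range ∧
      Nat.card (normalizer (A : Set G)) = k * Nat.card (centralizer (A : Set G)) := by
  obtain ⟨e⟩ := autSL h hc
  have : Finite (MulAut A) := Finite.of_equiv _ e.symm.toEquiv
  refine ⟨_, (card_le_card_group _).trans ((Nat.card_congr e.toEquiv).trans card_SL3).le, rfl, ?_⟩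
  rw [← card_ker_mul A.normalizerMonoidHom, normalizerMonoidHom_ker,
    Nat.card_congr (subgroupOfEquivOfLe (centralizer_le_normalizer _)).toEquiv]

theorem KT_spec : F1 ⊔ V = KT ∧ Nat.card KT = 2 ^ 21 * 63 ∧ Nat.card ↥(F1 ⊓ V) = 512 := by
  obtain ⟨k, hk, -, h⟩ := card_norm_le (fun x hx => ea_sq V_elem x (ZK_le hx)) ZK_spec.2.2
  have h1 := card_sup_normal F1 V
  have h2 : Nat.card ↥(F1 ⊓ V) ≤ 512 := by rw [F1, ← d1]; exact cVF1
  have h3 := card_le_of_le (sup_le F1_KT (V_CZ.trans CZ_KT))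
  have h4 := Nat.mul_le_mul hk card_CZ_le
  rw [card_F1, cardV] at h1
  have h5 := Nat.mul_le_mul_left (Nat.card ↥(F1 ⊔ V)) h2
  have h7 : Nat.card KT ≤ 168 * (2 ^ 11 * 384) := h.le.trans h4
  have h6 := Nat.mul_le_mul_right (Nat.card ↥(F1 ⊓ V)) (h3.trans h7)
  exact ⟨eq_of_le_of_card_ge (sup_le F1_KT (V_CZ.trans CZ_KT)) (by omega), by omega, by omega⟩

noncomputable abbrev pt0 : J ⧸ ι.range := basePt ι.range
noncomputable abbrev Dl : Set (J ⧸ ι.range) := MulAction.orbit MM pt0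

theorem ι_pt0 (k : K) : ι k • pt0 = pt0 := (Spor.smul_basePt_eq_iff _ _).2 ⟨k, rfl⟩
theorem fix_q {k : K} : ι k • T • pt0 = T • pt0 ↔ k ∈ F1 := Iff.rfl
theorem q_ne (k : K) : ι k • T • pt0 ≠ pt0 := fun e =>
  absurd (J4F.orbs.dis 0 (by decide) 1 (by decide) pt0 ⟨1, by simp [d0]⟩ ⟨k, by simpa [d1] using e⟩) (by decide)
theorem q_mem {k : K} (h : k ∈ KT) : ι k • T • pt0 ∈ Dl := ⟨⟨ι k * T, MM.mul_mem (ι_norm.2 h) T_MM⟩, mul_smul (ι k) T pt0⟩

theorem Dl_eq : Dl = insert pt0 (MulAction.orbit (KT.map ι) (T • pt0)) := by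
  ext x
  constructor
  · rintro ⟨⟨g, hg⟩, rfl⟩
    rcases MM_cases hg with ⟨u, -, rfl⟩ | ⟨u, hu, v, rfl⟩
    · exact .inl (ι_pt0 u)
    · exact .inr ⟨⟨ι u, u, hu, rfl⟩, show ι u • T • pt0 = (ι u * T * ι v) • pt0 by rw [mul_smul, mul_smul, ι_pt0]⟩
  · rintro (rfl | ⟨⟨_, u, hu, rfl⟩, rfl⟩)
    exacts [MulAction.mem_orbit_self _, q_mem hu]

theorem stab_pt0 {A : Subgroup J} : A ⊓ MulAction.stabilizer J pt0 = (A.comap ι).map ι := by
  rw [map_comap_eq, inf_comm]
  congr 1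
  ext x; exact Spor.smul_basePt_eq_iff _ _

theorem card_Dl : Dl.ncard = 5 := by
  have h := card_eq_ncard_orbit_mul (KT.map ι) (T • pt0)
  have e : KT.map ι ⊓ MulAction.stabilizer J (T • pt0) = F1.map ι := by
    ext x
    exact ⟨fun ⟨⟨k, _, e⟩, h⟩ => ⟨k, fix_q.1 (e ▸ h), e⟩, fun ⟨k, h, e⟩ => ⟨⟨k, F1_KT h, e⟩, e ▸ fix_q.2 h⟩⟩
  rw [e, card_mapι, card_mapι, KT_spec.2.1, card_F1] at h
  have h2 : pt0 ∉ MulAction.orbit (KT.map ι) (T • pt0) := by
    rintro ⟨⟨_, u, hu, rfl⟩, h3⟩; exact q_ne u h3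
  rw [Dl_eq, Set.ncard_insert_of_notMem h2]
  omega

theorem MM_K : MM.comap ι = KT := by ext; exact ι_norm

theorem card_MM : Nat.card MM = 2 ^ 15 * (120 * 168) := by
  rw [card_eq_ncard_orbit_mul MM pt0, card_Dl, stab_pt0, card_mapι, MM_K, KT_spec.2.1]; norm_num

theorem CM_spec : Nat.card (centralizer (Z0 : Set J)) = 2 ^ 15 * 120 ∧ Function.Surjective Z0.normalizerMonoidHom := by
  obtain ⟨k, hk, h0, h⟩ := card_norm_le Z0_sq card_Z0
  have h1 := card_eq_ncard_orbit_mul (centralizer (Z0 : Set J)) pt0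
  have h2 : (MulAction.orbit (centralizer (Z0 : Set J)) pt0).ncard ≤ 5 := card_Dl ▸ Set.ncard_le_ncard (by
    rintro _ ⟨g, rfl⟩; exact ⟨⟨g.1, centralizer_le_normalizer _ g.2⟩, rfl⟩)
  rw [stab_pt0, card_mapι, show (centralizer (Z0 : Set J)).comap ι = CZ by ext; exact ι_cent] at h1
  have h3 := Nat.mul_le_mul h2 card_CZ_le
  have h4 := Nat.mul_le_mul_right (Nat.card (centralizer (Z0 : Set J))) hk
  rw [← h1] at h3
  rw [card_MM] at h
  have h5 : Nat.card (centralizer (Z0 : Set J)) = 2 ^ 15 * 120 := by omega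
  obtain ⟨e⟩ := autSL Z0_sq card_Z0
  have : Finite (MulAut Z0) := Finite.of_equiv _ e.symm.toEquiv
  refine ⟨h5, MonoidHom.range_eq_top.1 (eq_top_of_card_eq _ ?_)⟩
  rw [h5] at h
  rw [Nat.card_congr e.toEquiv, card_SL3, ← h0]; omega

noncomputable def αM : MM →* Equiv.Perm Dl := MulAction.toPermHom MM Dl
theorem αM_eq {x : MM} : αM x = 1 ↔ ∀ q ∈ Dl, x.1 • q = q :=
  ⟨fun h q hq => (congrArg Subtype.val (DFunLike.congr_fun h ⟨q, hq⟩) :), fun h => Equiv.ext fun q => Subtype.ext (h q q.2)⟩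

theorem mem_CZ {c : ℕ} {k : K} (hc : CM c (π k)) (h : allL [216, 1642, 2073] (fun m => Nat.beq (act c m) m) = true) : k ∈ CZ := by
  rw [CZ, ← zpowers_le, le_centralizer_iff, centralizer_zpowers]
  refine SG_le fun a ha x hx => mem_centralizer_singleton_iff.2 (mul_inv_eq_iff_eq_mul.1 ?_).symm
  obtain ⟨m, hm, rfl⟩ := List.mem_map.1 (show a ∈ [216, 1642, 2073].map (pk one24) from ha)
  have h1 := (by decide : ∀ m ∈ [216, 1642, 2073], m < 4096) m hm
  have hV := hx.mem_V.2 (hi_pk _ h1)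
  refine sy_inj (V_normal.conj_mem _ hV k) hV ?_
  rw [sy_conj hc.1 hV, ← hx.2, lo_pk _ h1]
  exact nbeq.1 (allL_iff.1 h m hm)

theorem q_eq {k v : K} (hk : k ∈ F1) : ι k • ι v • T • pt0 = ι v • T • pt0 ↔ v⁻¹ * (k * v * k⁻¹) ∈ F1 := by
  rw [← F1.mul_mem_cancel_right hk, ← fix_q, show v⁻¹ * (k * v * k⁻¹) * k = v⁻¹ * (k * v) by group, map_mul, map_mul, mul_smul,
    mul_smul, map_inv, inv_smul_eq_iff]

theorem αM_top : (αM.comp (inclusion (centralizer_le_normalizer (Z0 : Set J)))).range = ⊤ := by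
  classical
  have := Fintype.ofFinite Dl
  set α := αM.comp (inclusion (centralizer_le_normalizer (Z0 : Set J)))
  have h5 : Fintype.card Dl = 5 := by rw [← Nat.card_eq_fintype_card, Nat.card_coe_set_eq, card_Dl]
  have hs : kw [4, 1, 0, 6, 0, 6, 12, 11, 22, 24, 25] ∈ F1 := by
    rw [F1, ← d1]; exact PD_Fd (pr_mem (rDA 1 (by decide)) (w := (_, [0, 15, 0, 8, 8, 8, 10, 10, 16, 23, 24, 25])) (by decide +kernel))
  have hc : kw [4, 1, 0, 6, 0, 6, 12, 11, 22, 24, 25] ∈ CZ := mem_CZ (RK_kw _).1 (by decide +kernel)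
  have k (w : List ℕ) (h : Nat.beq (hi (kc w)) one24 = true) : kw w ∈ V ∧ (ι (kw [4, 1, 0, 6, 0, 6, 12, 11, 22, 24, 25]) • ι (kw w) • T • pt0 = ι (kw w) • T • pt0 ↔
      F9.testBit (lo (kmul (kinv (kc w)) (kmul (kmul (kc [4, 1, 0, 6, 0, 6, 12, 11, 22, 24, 25]) (kc w)) (kinv (kc [4, 1, 0, 6, 0, 6, 12, 11, 22, 24, 25]))))) = true) := by
    have hv := (RK_kw w).mem_V.2 (nbeq.1 h)
    have h1 := V.mul_mem (V.inv_mem hv) (V_normal.conj_mem _ hv (kw [4, 1, 0, 6, 0, 6, 12, 11, 22, 24, 25]))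
    rw [q_eq hs, (mdK.mul (grpK.inv (RK_kw w)) (mdK.mul (mdK.mul (RK_kw _) (RK_kw w)) (grpK.inv (RK_kw _)))).2]
    exact ⟨hv, F1_V h1, mem_F1 h1⟩
  obtain ⟨ha, ka⟩ := k [16, 17] (by decide +kernel)
  obtain ⟨hb, kb⟩ := k [16, 21] (by decide +kernel)
  refine Equiv.Perm.subgroup_eq_top_of_swap_mem (τ := α ⟨_, ι_cent.2 hc⟩) (by rw [h5]; norm_num) ?_ ⟨_, rfl⟩ ?_
  · have h1 := card_ker_mul α
    have h2 : Nat.card α.ker ∣ 2 ^ 21 * 63 := by
      rw [← KT_spec.2.1, ← card_mapι, ← card_map_of_injective (subtype_injective _), ← MM_K, ← stab_pt0]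
      refine card_dvd_of_le ?_
      rintro _ ⟨x, hx, rfl⟩
      exact ⟨centralizer_le_normalizer _ x.2, αM_eq.1 hx _ (MulAction.mem_orbit_self _)⟩
    rw [h5, ← Nat.card_eq_fintype_card]
    refine ((Nat.Prime.dvd_mul Nat.prime_five).1 (by rw [h1, CM_spec.1]; norm_num)).resolve_right fun h => ?_
    exact absurd (h.trans h2) (by norm_num)
  · rw [← Equiv.Perm.card_support_eq_two]
    refine le_antisymm ?_ (Equiv.Perm.two_le_card_support_of_ne_one fun e => ?_)
    · let S : Finset Dl := {⟨pt0, MulAction.mem_orbit_self _⟩, ⟨_, q_mem KT.one_mem⟩, ⟨_, q_mem (CZ_KT (V_CZ ha))⟩}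
      have h3 : S.card = 3 := Finset.card_eq_three.2 ⟨_, _, _, fun e => q_ne _ (congrArg Subtype.val e).symm,
        fun e => q_ne _ (congrArg Subtype.val e).symm, fun e => by
          have := congrArg Subtype.val e
          simp only [map_one, one_smul] at this
          have := F1_V ha (fix_q.1 this.symm)
          rw [← (RK_kw _).2] at this
          exact absurd this (by decide +kernel), rfl⟩
      refine (Finset.card_le_card (t := Sᶜ) fun x hx => Finset.mem_compl.2 fun h => Equiv.Perm.mem_support.1 hx ?_).trans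
        (by rw [Finset.card_compl, h5, h3])
      simp only [S, Finset.mem_insert, Finset.mem_singleton] at h
      rcases h with rfl | rfl | rfl
      · exact Subtype.ext (ι_pt0 _)
      · exact Subtype.ext ((q_eq hs).2 (by simp))
      · exact Subtype.ext (ka.2 (by decide +kernel))
    · exact absurd (kb.1 (αM_eq.1 e _ (q_mem (CZ_KT (V_CZ hb))))) (by decide +kernel)

/-! ### the subgroup `2^{3+12}` -/

def gO : List ℕ := [2812693715908917295790564477369068638208, 2757754019521182143649160890984656142336, 3245054330327022154737186349465587056640, 2745261353438032083211474898790885785600, 1878606673260750530135395670235689025536, 2575765272244652882861132425087733911552]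
def lO : List ℕ := [4033815529618450547112136865621959901184, 2812693715908917295790564477369068638208, 2757754019521182143649160890984656142336, 3245054330327022154737186349465587056640, 2745261353438032083211474898790885785600, 1878606673260750530135395670235689025536, 2575765272244652882861132425087733911552, 3918614037475114066608934837817399136256, 533090598790205554395400497300767678464, 3925280946324541699070453119355145854976, 3095841565990843742313734747575577387008, 2054532577078938282944223597097051152384, 549378834510849814311357422736794746880, 3941569182045185958986408638833586634752, 3154665100428819160676127038846360387584, 2070659851597014809032988798693729947648, 604406799311331033195478780765321035776, 2582297182484939435695999830497027162112, 1965375148598978726909618878646693171200, 3103354820178992058757973672302372978688, 2162101393157182924845276268223491379200, 3273336771473869177675714080323297382400, 3260667567455953825942097326070636519424,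 2760874590566963754416387281353521537024, 1989924327353846744417608993153879285760, 2591539470576152287893235125532131647488, 3349705075570690736557881390846030598144, 2078962333956862778294302717235551621120, 3181010813896685373561356137864527822848, 1898186824872708595747904595837065711616, 2644002440728582735110123027880869707776, 538506165205932657954979652995115204608, 3241596260936122199785612229940819525632, 2066557936286458784599334496685895057408, 3071292387235975724805745195485751971840, 1885782427202304602052937781244995436544, 2587453132314706470985377660022892433408, 524492155509387552276671056929480151040, 2075332917818954728071052497395126534144, 3075555262639972152070760072269131337728, 3947529937888049466589227225618063740928, 518121207580929952672569703178785574912, 542374425414827937323142327481558847488, 2562800107305767498270100149005607194624, 1904952386728616743020624206836495761408, 3083857744999820121332072584853366722560,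 2048509513039987556325416021892495392768, 3255449308320838352233154774347855904768, 2558833192822741103862502200009279971328, 1895024715293517454250171670322513633280, 2729777924839611626604789879677274349568, 3266789284501385067372106230736875610112, 2670825845507549906855760065800861548544, 1911151989811593980338938277876778717184, 2841609616321852695770857427587093942272, 3325451857736792751907308204125896626176, 2752276147286145752297656435024647720960, 2133481453665217557722400245792518217728, 3091329460971471557102861366755942785024, 4005839434936880030067765291897217409024, 629599822876593900781973343978737819648, 3951964160039002156482378469673441771520, 3937950150342457050804068467650220429312, 2734388684133114926855098535006792531968]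
noncomputable def OK : Subgroup K := SG gO
theorem OK_spec : CodesIn RK lO OK ∧ Lists RK lO OK ∧ Nat.card OK = 64 :=
  sg_spec [[], [0], [1], [2], [3], [4], [5], [0, 1], [0, 2], [0, 3], [0, 4], [0, 5], [1, 2], [1, 3], [1, 4], [1, 5], [2, 3], [2, 4], [2, 5], [3, 4], [3, 5], [4, 5], [0, 1, 2], [0, 1, 3], [0, 1, 4], [0, 1, 5], [0, 2, 3], [0, 2, 4], [0, 2, 5], [0, 3, 4], [0, 3, 5], [0, 4, 5], [1, 2, 3], [1, 2, 4], [1, 2, 5], [1, 3, 4], [1, 3, 5], [1, 4, 5], [2, 3, 4], [2, 3, 5], [2, 4, 5], [3, 4, 5], [0, 1, 2, 3], [0, 1, 2, 4], [0, 1, 2, 5], [0, 1, 3, 4], [0, 1, 3, 5], [0, 1, 4, 5], [0, 2, 3, 4], [0, 2, 3, 5], [0, 2, 4, 5], [0, 3, 4, 5], [1, 2, 3, 4], [1, 2, 3, 5], [1, 2, 4, 5], [1, 3, 4, 5], [2, 3, 4, 5], [0, 1, 2, 3, 4], [0, 1, 2, 3, 5], [0, 1, 2, 4, 5], [0, 1, 3, 4, 5], [0, 2, 3, 4, 5], [1, 2, 3, 4, 5], [0, 1, 2, 3, 4, 5]] (by decide +kernel)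

theorem OK_F1 : OK ≤ F1 := SG_le fun c hc x hx => by
  have h0 : allL [([1, 7, 10, 7, 8, 8, 11, 12], [1, 7, 10, 7, 8, 8, 11, 12]), ([1, 0, 8, 8, 15, 11, 5, 15], [1, 0, 8, 8, 15, 11, 5, 15]), ([0, 2, 4, 2, 14, 2, 13], [0, 2, 4, 2, 14, 2, 13]), ([7, 0, 4, 2, 4, 7, 10], [7, 0, 4, 2, 4, 7, 10]), ([1, 14, 12, 5, 15, 0, 15, 10], [1, 14, 12, 5, 15, 0, 15, 10]), ([7, 8, 6, 13, 7, 11, 15], [7, 8, 6, 13, 7, 11, 15])] (prOK (getL DA 0 1)) = true := by decide +kernel
  have h1 := allL_iff.1 (show allL gO (fun c => anyL [([1, 7, 10, 7, 8, 8, 11, 12], [1, 7, 10, 7, 8, 8, 11, 12]), ([1, 0, 8, 8, 15, 11, 5, 15], [1, 0, 8, 8, 15, 11, 5, 15]), ([0, 2, 4, 2, 14, 2, 13], [0, 2, 4, 2, 14, 2, 13]), ([7, 0, 4, 2, 4, 7, 10], [7, 0, 4, 2, 4, 7, 10]), ([1, 14, 12, 5, 15, 0, 15, 10], [1, 14, 12, 5, 15, 0, 15, 10]), ([7, 8, 6, 13, 7, 11, 15], [7, 8, 6, 13, 7, 11, 15])] fun w => Nat.beq (kc w.1) c) = true by decide +kernel) c hc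
  obtain ⟨w, hw, h1⟩ := anyL_iff.1 h1
  rw [← kw_eq hx h1, F1, ← d1]
  exact PD_Fd (pr_mem (rDA 1 (by decide)) (allL_iff.1 h0 w hw))

noncomputable def LK : Subgroup K := (OK.map π).comap π ⊓ F1
noncomputable def LJ : Subgroup J := LK.map ι
theorem OK_LK : OK ≤ LK := le_inf (le_comap_map _ _) OK_F1
theorem V9_LK {v : K} (hv : v ∈ V) (h : v ∈ F1) : v ∈ LK := ⟨mem_comap.2 (by rw [π_V hv]; exact one_mem _), h⟩

theorem LK_dec {k : K} (h : k ∈ LK) : ∃ o ∈ OK, k * o⁻¹ ∈ V ∧ k * o⁻¹ ∈ F1 ∧ (∃ c ∈ lO, CM (hi c) (π k)) ∧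
    F9.testBit (sy k) = true := by
  obtain ⟨⟨o, ho, e⟩, h⟩ := h
  have h1 : k * o⁻¹ ∈ V := mem_V_of (by rw [map_mul, map_inv, e, mul_inv_cancel])
  have h2 := F1.mul_mem h (F1.inv_mem (OK_F1 ho))
  obtain ⟨c, hc, h3⟩ := OK_spec.2.1 o ho
  refine ⟨o, ho, h1, h2, ⟨c, hc, e ▸ h3.1⟩, ?_⟩
  have h4 := sy_mul (c := one24) (a := k * o⁻¹) (π_V h1 ▸ grpM.one) o
  rw [inv_mul_cancel_right, ← h3.2, nbeq.1 (allL_iff.1 (show allL lO (fun c => Nat.beq (lo c) 0) = true by decide +kernel) c hc),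
    act_zero grpM.one, Nat.zero_xor] at h4
  exact h4 ▸ F1_V h1 h2

theorem LK_ker : LK ≤ (centralizer (Z0 : Set J) ⊓ fixingSubgroup J Dl).comap ι := by
  have key {k : K} (hF : k ∈ F1) (hZ : k ∈ CZ) (h : ∀ v ∈ V, v⁻¹ * (k * v * k⁻¹) ∈ F1) :
      k ∈ (centralizer (Z0 : Set J) ⊓ fixingSubgroup J Dl).comap ι := by
    refine ⟨ι_cent.2 hZ, (mem_fixingSubgroup_iff J).2 fun q hq => ?_⟩
    rw [Dl_eq] at hq
    rcases hq with rfl | ⟨⟨_, u, hu, rfl⟩, rfl⟩
    · exact ι_pt0 k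
    · rw [← KT_spec.1, sup_comm] at hu
      obtain ⟨v, hv, f, hf, rfl⟩ := (normal_mul V F1).le hu
      show ι k • ι (v * f) • T • pt0 = ι (v * f) • T • pt0
      rw [map_mul, mul_smul, fix_q.2 hf]
      exact (q_eq hF).2 (h v hv)
  intro k hk
  obtain ⟨o, ho, h1, h2, -⟩ := LK_dec hk
  rw [← inv_mul_cancel_right k o]
  refine mul_mem (key h2 (V_CZ h1) fun v hv => ?_) ((SG_le fun c hc x hx => ?_ : OK ≤ _) ho)
  · rw [comm_of_sq (ea_sq V_elem) h1 hv, mul_inv_cancel_right, inv_mul_cancel]; exact one_mem _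
  · have h3 := allL_iff.1 (show allL gO (fun c => band (allL [216, 1642, 2073] (fun m => Nat.beq (act (hi c) m) m))
      (force (mt1 (hi c)) fun a => allLt 4096 fun m => bor (not (tb EV m)) (tb F9 (app a m)))) = true by decide +kernel) c hc
    simp only [band_eq, Bool.and_eq_true, force_eq, allLt_iff, bor_eq, tb_eq] at h3
    refine key (OK_F1 (mem_SG hx hc)) (mem_CZ hx.1 h3.1) fun v hv => ?_
    have h4 := V.mul_mem (V.inv_mem hv) (V_normal.conj_mem _ hv x)
    refine mem_F1 h4 ?_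
    rw [sy_mul (c := one24) (π_V (V.inv_mem hv) ▸ grpM.one), act_one grpM.one (sy_lt _), sy_conj hx.1.1 hv,
      inv_eq_of_mul_eq_one_right (ea_sq V_elem v hv), ← app_mt1 hx.1.1 _ (sy_lt _)]
    simpa [EV_bit] using h3.2 _ (sy_lt v)

theorem mem_LJ {x : J} (hx : x ∈ MM) : x ∈ LJ ↔ αM ⟨x, hx⟩ = 1 ∧ x ∈ centralizer (Z0 : Set J) := by
  have h1 := card_ker_mul (αM.comp (inclusion (centralizer_le_normalizer (Z0 : Set J))))
  have := Fintype.ofFinite Dl
  classical
  rw [αM_top, card_top, Nat.card_perm, Nat.card_coe_set_eq, card_Dl, CM_spec.1,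
    ← card_map_of_injective (subtype_injective _)] at h1
  have h2 : LJ = (αM.comp (inclusion (centralizer_le_normalizer (Z0 : Set J)))).ker.map (Subgroup.subtype _) := by
    refine eq_of_le_of_card_ge ?_ ?_
    · rintro _ ⟨k, hk, rfl⟩
      exact ⟨⟨_, (LK_ker hk).1⟩, αM_eq.2 ((mem_fixingSubgroup_iff J).1 (LK_ker hk).2), rfl⟩
    · have a1 := card_split LK
      have a2 := card_split OK
      have a3 : OK ⊓ V = ⊥ := eq_bot_iff.2 fun x hx => by
        obtain ⟨c, hc, e⟩ := OK_spec.2.1.forall (f := fun c => bor (not (Nat.beq (hi c) one24)) (Nat.beq c kone))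
          (by decide +kernel) hx.1
        simp only [hc.mem_V.1 hx.2, bor_eq, Nat.beq_refl, Bool.not_true, Bool.false_or, nbeq] at e
        exact mdK.func (e ▸ hc) mdK.one
      rw [a3, card_bot, mul_one, OK_spec.2.2] at a2
      have a4 := Nat.mul_le_mul (a2.ge.trans (card_le_of_le (map_mono (f := π) OK_LK)))
        (KT_spec.2.2.ge.trans (card_le_of_le (show F1 ⊓ V ≤ LK ⊓ V from fun x hx => ⟨V9_LK hx.2 hx.1, hx.2⟩)))
      rw [LJ, card_mapι]
      simp only [Nat.factorial] at h1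
      omega
  rw [h2]
  exact ⟨by rintro ⟨y, hy, rfl⟩; exact ⟨hy, y.2⟩, fun h => ⟨⟨x, h.2⟩, h.1, rfl⟩⟩

theorem LJ_le : LJ ≤ MM := by rintro _ ⟨k, hk, rfl⟩; exact centralizer_le_normalizer _ (LK_ker hk).1

theorem exγ : ∃ γ : MM →* Equiv.Perm (Fin 5) × SL3, Function.Surjective γ ∧ (∀ x, γ x = 1 ↔ x.1 ∈ LJ) ∧
    ∀ x, (γ x).2 = 1 ↔ x.1 ∈ centralizer (Z0 : Set J) := by
  obtain ⟨e⟩ := autSL Z0_sq card_Z0
  have e' : Equiv.Perm Dl ≃* Equiv.Perm (Fin 5) :=
    (Finite.equivFinOfCardEq ((Nat.card_coe_set_eq _).trans card_Dl)).permCongrHom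
  have h (x : MM) : e (Z0.normalizerMonoidHom x) = 1 ↔ x.1 ∈ centralizer (Z0 : Set J) := by
    rw [e.map_eq_one_iff, ← MonoidHom.mem_ker, normalizerMonoidHom_ker, mem_subgroupOf]
  refine ⟨(e'.toMonoidHom.comp αM).prod (e.toMonoidHom.comp Z0.normalizerMonoidHom), fun ⟨a, b⟩ => ?_, fun x => ?_, h⟩
  · obtain ⟨m, hm⟩ := CM_spec.2 (e.symm b)
    obtain ⟨c, hc⟩ := αM_top.ge (mem_top (e'.symm a * (αM m)⁻¹))
    refine ⟨inclusion (centralizer_le_normalizer _) c * m, Prod.ext ?_ ?_⟩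
    · show e' (αM _) = a
      rw [map_mul, show αM (inclusion _ c) = _ from hc, inv_mul_cancel_right, e'.apply_symm_apply]
    · show e (Z0.normalizerMonoidHom _) = b
      rw [map_mul, map_mul, (h _).2 c.2, hm, one_mul, e.apply_symm_apply]
  · rw [mem_LJ x.2, Prod.ext_iff, ← h, ← e'.map_eq_one_iff]; rfl

theorem card_LJ : Nat.card LJ = 2 ^ 15 := by
  obtain ⟨γ, h1, h2, -⟩ := exγ
  have := card_ker_mul γ
  rw [MonoidHom.range_eq_top.2 h1, card_top, Nat.card_prod, Nat.card_perm, Nat.card_fin, card_SL3, card_MM,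
    show γ.ker = LJ.subgroupOf MM from Subgroup.ext h2, Nat.card_congr (subgroupOfEquivOfLe LJ_le).toEquiv] at this
  simp only [Nat.factorial] at this
  omega

def L9 : List ℕ := filterL (tb F9) (List.range 4096)
theorem mem_L9 {k : K} (h : F9.testBit (sy k) = true) : sy k ∈ L9 := by
  rw [L9, filterL_eq, List.mem_filter, tb_eq]; exact ⟨List.mem_range.2 (sy_lt k), h⟩

theorem ZK_LK : ZK ≤ LK := fun x hx => V9_LK (ZK_le hx) (mem_Fd.2 ⟨x, T_cent _ ⟨x, hx, rfl⟩⟩)

theorem LK_sq {k : K} (h : k ∈ LK) : k * k ∈ ZK := by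
  obtain ⟨-, -, -, -, ⟨c, hc, e⟩, h9⟩ := LK_dec h
  have h1 := allL_iff.1 (forceL_eq L9 _ ▸ (show forceL L9 (fun l => allL lO fun c => force (hi c) fun c =>
    band (Nat.beq (mul24 c c) one24) (force (mt1 c) fun a => allL l fun m => force (app a m) fun n => memL n LZ)) = true by
      decide +kernel)) c hc
  simp only [force_eq, band_eq, Bool.and_eq_true, nbeq, allL_iff, memL_iff] at h1
  refine mem_ZK.2 ⟨mem_V_of (by rw [map_mul]; exact mdM.func (h1.1 ▸ mdM.mul e e) mdM.one), ?_⟩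
  rw [sy_mul e.1, ← app_mt1 e.1 _ (sy_lt _)]
  exact h1.2 _ (mem_L9 h9)

theorem LK_cent : LK ⊓ centralizer (LK : Set K) = ZK := by
  refine le_antisymm (fun k hk => ?_) (le_inf ZK_LK (le_centralizer_iff.1 fun k hk => ι_cent.1 (LK_ker hk).1))
  obtain ⟨-, -, -, -, ⟨c, hc, e⟩, h9⟩ := LK_dec hk.1
  have h1 := allL_iff.1 (show allL lO (fun c => bor (Nat.beq (hi c) one24) (anyL [216, 1642, 2073, 6, 9, 17, 65, 258, 514] fun m =>
    band (band (okV m) (tb F9 m)) (not (Nat.beq (act (hi c) m) m)))) = true by decide +kernel) c hc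
  simp only [bor_eq, Bool.or_eq_true, nbeq, anyL_iff, band_eq, Bool.and_eq_true, tb_eq, Bool.not_eq_true', nbeq_false] at h1
  have hV : k ∈ V := by
    refine mem_V_of (mdM.func (h1.resolve_right ?_ ▸ e) mdM.one)
    rintro ⟨m, -, ⟨h2, h3⟩, h4⟩
    obtain ⟨v, h5, rfl⟩ := exists_K 1 h2
    exact h4 (act_fix e.1 (mem_V_of h5) (hk.2 v (V9_LK (mem_V_of h5) (mem_F1 (mem_V_of h5) h3))).symm)
  have h2 := allL_iff.1 (show allL L9 (fun m => bor (memL m LZ) (anyL gO fun c => band (okK c)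
    (not (Nat.beq (act (hi c) m) m)))) = true by decide +kernel) _ (mem_L9 h9)
  simp only [bor_eq, Bool.or_eq_true, memL_iff, anyL_iff, band_eq, Bool.and_eq_true, Bool.not_eq_true', nbeq_false] at h2
  refine mem_ZK.2 ⟨hV, h2.resolve_right ?_⟩
  rintro ⟨a, ha, h3, h4⟩
  exact h4 (act_fix (RK_el h3).1.1 hV (hk.2 _ (OK_LK (mem_SG (RK_el h3) ha))))

theorem ZK_comm : ZK ≤ ⁅LK, LK⁆ := SG_le fun c hc x hx => by
  have h1 := allL_iff.1 (show allL gZ (fun c => anyL [(2812693715908917295790564477369068638208, 338), (2812693715908917295790564477369068638208, 80), (2812693715908917295790564477369068638208, 17)] fun w =>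
    band (band (band (okK w.1) (memL w.1 gO)) (band (band (okK (pk one24 w.2)) (Nat.blt w.2 4096)) (tb F9 w.2))) (Nat.beq
      (kmul (kmul (kmul w.1 (pk one24 w.2)) (kinv w.1)) (kinv (pk one24 w.2))) c)) = true by decide +kernel) c hc
  simp only [anyL_iff, band_eq, Bool.and_eq_true, memL_iff, nblt, tb_eq] at h1
  obtain ⟨w, -, ⟨⟨h1, h2⟩, ⟨h3, h4⟩, h5⟩, h6⟩ := h1
  have r := RK_el h3
  have hV := r.mem_V.2 (hi_pk _ h4)
  rw [← mdK.func (congr_beq (mdK.mul (mdK.mul (mdK.mul (RK_el h1) r) (grpK.inv (RK_el h1))) (grpK.inv r)) h6) hx]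
  exact commutator_mem_commutator (OK_LK (mem_SG (RK_el h1) h2)) (V9_LK hV (mem_F1 hV (by rw [← r.2, lo_pk _ h4]; exact h5)))

theorem LJ_cent : LJ ⊓ centralizer (LJ : Set J) = Z0 := by
  rw [Z0, ← LK_cent, ← mapι_inf]
  ext x
  refine and_congr_right ?_
  rintro ⟨k, -, rfl⟩
  exact ι_cent.trans (mem_map_iff_mem ι_inj).symm

theorem LJ_special : IsSpecial 2 LJ ∧ Nat.card (center LJ) = 8 := by
  obtain ⟨h1, h2⟩ := special_of (IsPGroup.of_card card_LJ) LJ_cent
    (by rintro _ ⟨k, hk, rfl⟩; exact ⟨_, LK_sq hk, map_mul _ _ _⟩) (by rw [LJ, ← map_commutator]; exact map_mono ZK_comm)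
  exact ⟨h1, by rw [h2, Nat.card_congr (subgroupOfEquivOfLe (show Z0 ≤ LJ from map_mono ZK_LK)).toEquiv]; exact card_Z0⟩

theorem norm_LJ : normalizer (LJ : Set J) = MM := by
  obtain ⟨γ, -, h2, -⟩ := exγ
  refine le_antisymm (fun x hx => mem_normalizer_fintype fun y hy => ?_) fun x hx => mem_normalizer_fintype fun y hy => ?_
  · rw [← LJ_cent, ← mp_conj_self hx, mp_cent, mp_inf, LJ_cent]
    exact mem_mp'.2 hy
  · exact (h2 (⟨x, hx⟩ * ⟨y, LJ_le hy⟩ * ⟨x, hx⟩⁻¹)).1 (by rw [map_mul, map_mul, (h2 ⟨y, LJ_le hy⟩).2 hy]; simp)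

end Cfsg.Agent.J4F
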