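import Cfsg.Agent.J4F.Three

/-! Intersections of `V` with its conjugates in `J₄`; small subgroups of `K` given by codes (helper16). -/

set_option autoImplicit false
set_option maxRecDepth 100000
set_option exponentiation.threshold 100000

namespace Cfsg.Agent.J4F
open Subgroup Cfsg.Agent.Comp Cfsg.Agent.Golay Cfsg.Agent.J4T Cfsg.Agent.J4T.C
open Cfsg.Agent.Spor (ev getL genL genW seq seq_eq)
open Cfsg.Agent.Spor.Ct (Fd mem_Fd card_Fd)

/-- the subgroup generated by the elements with the given codes -/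
noncomputable def SG (gs : List ℕ) : Subgroup K := closure (genSet RK gs)

theorem mem_SG {gs : List ℕ} {c : ℕ} {x : K} (h : RK c x) (hc : c ∈ gs) : x ∈ SG gs := subset_closure ⟨c, hc, h⟩

theorem SG_le {gs : List ℕ} {H : Subgroup K} (h : ∀ c ∈ gs, ∀ x, RK c x → x ∈ H) : SG gs ≤ H := by
  rw [SG, closure_le]; rintro x ⟨c, hc, hx⟩; exact h c hc x hx

noncomputable def wl (gs : List ℕ) (ws : List (List ℕ)) : List ℕ := ws.map fun w => wdc kmul kone gs w kone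

theorem codes_wl {gs : List ℕ} (h : allL gs okK = true) (ws : List (List ℕ)) : CodesIn RK (wl gs ws) (SG gs) := by
  intro c hc
  obtain ⟨w, -, rfl⟩ := List.mem_map.1 hc
  refine ⟨_, X.mem (fun y hy => ?_) (.w w), mdK.rw (alK h) w⟩
  obtain ⟨c, hc, rfl⟩ := List.mem_map.1 hy
  exact mem_SG (RK_el (allL_iff.1 h c hc)) hc

theorem sg_spec {gs l : List ℕ} (ws : List (List ℕ)) {n : ℕ} (h : band (allL gs okK) (forceL l fun l =>
    band (band (band (wl gs ws == l) (nodupL l)) (Nat.beq (lenL l) n))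
      (band (memL kone l) (allL gs fun c => allL l fun a => force (kmul c a) fun b => memL b l))) = true) :
    CodesIn RK l (SG gs) ∧ Lists RK l (SG gs) ∧ Nat.card (SG gs) = n := by
  rw [forceL_eq, band_eq, Bool.and_eq_true, band_eq, Bool.and_eq_true, band_eq, Bool.and_eq_true, band_eq,
    Bool.and_eq_true, beq_iff_eq, nbeq] at h
  obtain ⟨h1, ⟨⟨rfl, h2⟩, rfl⟩, h3⟩ := h
  have h4 := lists_closed (H := SG gs) le_rfl h3
  exact ⟨codes_wl h1 ws, h4, le_antisymm (h4.card_le mdK.func) (len_le_card (codes_wl h1 ws) h2)⟩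

theorem _root_.Cfsg.Agent.Comp.CodesIn.mem {l : List ℕ} {H : Subgroup K} (h : CodesIn RK l H) {c : ℕ} {x : K} (hx : RK c x)
    (hc : c ∈ l) : x ∈ H := let ⟨_, hy, e⟩ := h c hc; mdK.func e hx ▸ hy

theorem codes_π {L : List ℕ} {H : Subgroup K} (h : CodesIn RK L H) : CodesIn RM (L.map hi) (H.map π) := by
  intro c hc
  obtain ⟨a, ha, rfl⟩ := List.mem_map.1 hc
  obtain ⟨x, hx, e⟩ := h a ha
  exact ⟨_, ⟨x, hx, rfl⟩, e.1.1⟩

theorem cardVF {i N n : ℕ} (hi7 : i < 7) (ps : List (List ℕ × List ℕ)) (B : List ℕ)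
    (hn : Spor.andB (Nat.blt 0 (getL Spor.J4D.sz 0 i)) (Nat.beq (getL Spor.J4D.sz 0 i * (N * n)) 501397585920) = true)
    (hP : allL ps (prOK (getL DA 0 i)) = true) (h : band (Nat.blt 0 N) (band (allL B (fun b => Nat.blt b 24))
      (Nat.ble N (chainL get24 (fun a => a) 30 B (slpW mul24 inv24 one24 [] ((ps.map fun w => kc w.1).map hi))))) = true) :
    Nat.card ↥(Fd ι (d i) ⊓ V) ≤ n := by
  rw [band_eq, Bool.and_eq_true, nblt] at h
  have h1 : CodesIn RK (ps.map fun w => kc w.1) (Fd ι (d i)) := by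
    intro c hc
    obtain ⟨w, hw, rfl⟩ := List.mem_map.1 hc
    exact ⟨_, PD_Fd (pr_mem (rDA i hi7) (allL_iff.1 hP w hw)), RK_kw _⟩
  have h2 := le_card_slp (codes_π h1) B [] h.2
  have h3 := card_split (Fd ι (d i))
  rw [card_Fd J4F.orbs hi7 cardK hn] at h3
  exact Nat.le_of_mul_le_mul_left (h3 ▸ Nat.mul_le_mul_right _ h2) h.1

def subs (k : ℕ) : List (List ℕ) :=
  Nat.rec (motive := fun _ => List (List ℕ)) [[]] (fun j ih => appendL ih (mapL (fun w => j :: w) ih)) k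

theorem enum_V {i n : ℕ} (hi7 : i < 7) (hn : Nat.card ↥(Fd ι (d i) ⊓ V) ≤ n) (ps : List (List ℕ × List ℕ)) (k : ℕ)
    (Q : ℕ → ℕ → Bool) (hP : allL ps (prOK (getL DA 0 i)) = true)
    (hc : cds ps (subs k) (fun rs ss l => band (band (nodupL l) (Nat.ble n (lenL l)))
      (band (allL l fun c => Nat.beq (hi c) one24) (allL (subs k) fun w =>
        force (wdc kmul kone rs w kone) fun a => force (wdc kmul kone ss w kone) fun b => Q a b))) = true)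
    {x y : K} (h : (x, y) ∈ PD (d i)) (hx : x ∈ V) : ∃ a b, RK a x ∧ RK b y ∧ Q a b = true := by
  simp only [cds, forceL_eq, force_eq, band_eq, Bool.and_eq_true, nble, allL_iff, nbeq] at hc
  obtain ⟨⟨h1, h2⟩, h3, h4⟩ := hc
  have hP' : ∀ w ∈ ps, (kw w.1, kw w.2) ∈ PD (d i) := fun w hw => pr_mem (rDA i hi7) (allL_iff.1 hP w hw)
  have a1 := al_map mdK (fun w : List ℕ × List ℕ => RK_kw w.1) ps
  have a2 := al_map mdK (fun w : List ℕ × List ℕ => RK_kw w.2) ps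
  obtain ⟨a, ha, e⟩ := (keyedCj grpK canK).forall_of_list (U := ((Fd ι (d i) ⊓ V : Subgroup K) : Set K)) (Set.toFinite (α := K) _)
    (fun c hc => by
      obtain ⟨w, hw, rfl⟩ := List.mem_map.1 hc
      exact ⟨_, ⟨PD_Fd (pr_words hP' w), (mdK.rw a1 w).mem_V.2 (h3 _ hc)⟩, mdK.rw a1 w⟩)
    ((List.map_id' _).symm ▸ nodupL_iff.1 h1) (hn.trans (lenL_eq _ ▸ h2)) (x := x) ⟨PD_Fd h, hx⟩
  obtain ⟨w, hw, rfl⟩ := List.mem_map.1 ha
  have b3 := pr_words hP' w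
  rw [mdK.func (mdK.rw a1 w) e] at b3
  exact ⟨_, _, e, PD_fn b3 h ▸ mdK.rw a2 w, h4 w hw⟩

theorem cVF1 : Nat.card ↥(Fd ι (d 1) ⊓ V) ≤ 512 :=
  cardVF (N := 64512) (by decide) [([6, 0, 9, 1, 9, 10, 14, 17, 18, 21, 26], [0, 6, 15, 6, 13, 9, 7, 0, 16, 18, 20, 22, 25]), ([7, 0, 12, 7, 7, 1, 7, 2, 19, 22, 23], [5, 2, 4, 2, 7, 15, 13, 5, 19, 22, 23]), ([9, 12, 6, 15, 11, 8, 13, 17, 19, 20, 21, 22, 23, 25, 26], [1, 13, 6, 10, 14, 4, 13, 7, 17, 19, 20, 21, 22, 23, 25, 26]), ([6, 6, 10, 13, 6, 8, 4, 16, 18, 19, 21, 23, 24, 26], [0, 8, 1, 8, 1, 13, 8, 5, 16, 18, 19, 21, 23, 24, 26]), ([1, 6, 14, 6, 1, 9, 4, 12, 16, 17, 20, 22, 23, 25], [4, 11, 13, 11, 2, 4, 9, 5, 21, 23, 26]), ([2, 13, 0, 15, 10, 5, 15, 8, 22, 23], [2, 12, 8, 10, 4, 7, 14, 8, 22, 23])]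
    [0, 1, 3, 2, 4] (by decide) (by decide +kernel) (by decide +kernel)

theorem cVF2 : Nat.card ↥(Fd ι (d 2) ⊓ V) ≤ 16 :=
  cardVF (N := 9216) (by decide) [([7, 15, 12, 14, 14, 1, 8, 6, 16, 18, 20, 22, 23, 24], [7, 7, 11, 1, 4, 7, 17, 19, 21, 22, 25, 26]), ([13, 4, 7, 12, 2, 6, 5, 22, 25, 26], [0, 10, 14, 4, 11, 9, 12, 14, 17, 21, 22, 23, 24]), ([0, 15, 15, 5, 12, 12, 15, 7, 16, 17, 19, 20, 21, 22, 25, 26], [6, 9, 15, 8, 14, 8, 8, 16, 20, 21, 22, 24, 25, 26]), ([7, 11, 14, 9, 0, 12, 4, 16, 17, 19, 20, 21], [0, 6, 2, 11, 6, 4, 0, 15, 16, 17, 20, 23, 25, 26]), ([9, 4, 13, 9, 5, 1, 12, 22, 24, 25], [0, 1, 5, 9, 2, 13, 1, 7, 18, 23, 25]), ([0, 5, 10, 5, 15, 1, 12, 11, 16, 17, 19, 20, 21], [0, 6, 8, 6, 5, 12, 2, 5, 16, 17, 20, 23, 25, 26]), ([0, 15, 2, 11, 9, 1, 5, 6, 19, 22, 23], [10, 6, 11, 5, 13, 0, 1, 8, 18, 19, 20, 22, 23, 24])]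
    [0, 3, 1, 4] (by decide) (by decide +kernel) (by decide +kernel)

theorem cVF3 : Nat.card ↥(Fd ι (d 3) ⊓ V) ≤ 2 :=
  cardVF (N := 7680) (by decide) [([1, 15, 8, 10, 10, 9, 5, 6, 18, 22, 23, 25], [1, 15, 8, 10, 10, 9, 5, 6, 17, 18, 19, 21, 23, 26]), ([2, 5, 12, 6, 9, 6, 12, 11, 16, 17, 22, 23, 24, 26], [14, 9, 2, 9, 14, 14, 8, 16, 17, 18, 21, 24]), ([0, 15, 1, 5, 12, 7, 2, 0, 17, 20, 21, 23, 24], [6, 5, 14, 10, 0, 12, 6, 8, 18, 19, 22, 23, 24, 25, 26]), ([0, 5, 0, 8, 8, 12, 12, 2, 19, 20, 21, 22, 23, 26], [6, 2, 10, 0, 14, 5, 7, 9, 16, 18, 20, 21, 22, 24, 26]), ([0, 2, 8, 0, 11, 5, 14, 17, 19, 20, 21, 23, 25], [0, 13, 0, 1, 5, 7, 11, 13, 16, 18, 22, 23, 26])]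
    [0, 1, 3] (by decide) (by decide +kernel) (by decide +kernel)

theorem cVF4 : Nat.card ↥(Fd ι (d 4) ⊓ V) ≤ 128 :=
  cardVF (N := 138240) (by decide) [([0, 10, 7, 14, 7, 12, 10, 17, 22, 24], [7, 14, 7, 7, 4, 4, 6, 13, 16, 18, 19, 21, 22, 26]), ([0, 2, 8, 2, 9, 12, 12, 1, 16, 20, 22, 24, 25, 26], [4, 8, 0, 5, 1, 8, 10, 0, 18, 19, 20, 21, 25]), ([7, 5, 14, 9, 1, 8, 10, 16, 17, 19, 20, 22, 25], [2, 4, 9, 7, 10, 13, 15, 5, 16, 17, 18, 21, 23, 25]), ([5, 5, 0, 10, 0, 2, 5, 9, 18, 24], [1, 15, 5, 11, 12, 1, 12, 4, 16, 17, 20, 25]), ([2, 12, 11, 7, 14, 4, 12, 12, 17, 18, 20, 22, 23, 24, 25], [1, 13, 11, 13, 1, 7, 10, 5, 16, 17, 19, 21, 23, 24]), ([4, 9, 12, 11, 2, 13, 15, 17, 18, 19, 22, 24, 25], [0, 13, 14, 13, 13, 0, 15, 8, 16, 19, 22, 23, 26]), ([2, 0, 6, 15, 10, 4, 6, 0, 17, 18, 22, 24, 25], [2, 15, 6, 13, 7, 7, 15, 16, 18, 24, 25])]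
    [0, 1, 2, 3, 4, 5] (by decide) (by decide +kernel) (by decide +kernel)

theorem cVF5 : Nat.card ↥(Fd ι (d 5) ⊓ V) ≤ 1 :=
  cardVF (N := 9216) (by decide) [([6, 8, 8, 0, 10, 4, 16, 18, 19, 21, 22, 23, 24, 25], [8, 0, 14, 14, 0, 2, 17, 18, 20, 24, 26]), ([5, 13, 4, 8, 11, 8, 15, 6, 16, 17, 18, 20, 21, 23, 25], [9, 1, 12, 6, 8, 5, 7, 19, 23, 24]), ([0, 15, 5, 8, 15, 7, 13, 19, 21, 22, 24, 25, 26], [0, 4, 4, 15, 9, 1, 5, 9, 18, 19, 20, 21, 22, 25]), ([0, 13, 11, 12, 7, 5, 1, 0, 17, 18, 21, 22, 23, 24, 25, 26], [7, 11, 14, 9, 11, 14, 18, 20, 22, 24]), ([0, 11, 0, 1, 8, 4, 12, 16, 17, 18, 21, 22, 23, 25], [9, 0, 10, 4, 4, 12, 2, 9, 18, 19, 20, 21, 22, 23, 25])]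
    [0, 1, 3, 2] (by decide) (by decide +kernel) (by decide +kernel)

theorem cVF6 : Nat.card ↥(Fd ι (d 6) ⊓ V) ≤ 1 :=
  cardVF (N := 6072) (by decide) [([5, 12, 15, 7, 0, 6, 12, 12, 17, 20, 22, 24], [9, 14, 13, 4, 6, 11, 7, 14, 16, 17, 18, 20, 21, 23, 25, 26]), ([2, 11, 2, 7, 11, 14, 2, 9, 16, 19, 22, 23, 24, 25], [2, 4, 14, 2, 0, 4, 10, 15, 17, 18, 21, 26]), ([10, 10, 8, 0, 12, 6, 2, 18, 19, 20, 21, 23, 24], [15, 8, 4, 7, 8, 12, 4, 16, 19, 23, 24])]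
    [0, 1, 2] (by decide) (by decide +kernel) (by decide +kernel)

theorem VV_of {m : ℕ} {x y : K} (hy : y ∈ V) (h : ∃ a b, RK a x ∧ RK b y ∧
    bor (not (Nat.beq (hi b) one24)) (bor (Nat.beq (lo a) 0) (Nat.beq (lo a) m)) = true) : sy x = 0 ∨ sy x = m := by
  obtain ⟨a, b, ha, hb, h⟩ := h
  simpa [hb.mem_V.1 hy, bor_eq, nbeq, ha.2] using h

theorem VV {i : ℕ} (h2 : 2 ≤ i) (h7 : i < 7) {x y : K} (h : (x, y) ∈ PD (d i)) (hx : x ∈ V) (hy : y ∈ V) :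
    sy x = 0 ∨ sy x = 3755 := by
  interval_cases i
  · exact VV_of hy (enum_V (by decide) cVF2 [([16, 19, 22, 23], [4, 9, 6, 5, 2, 13, 9, 16, 18, 21, 25, 26]), ([18, 19, 20, 24], [4, 1, 15, 5, 7, 14, 9, 9, 16, 18, 19, 20, 21, 22, 23, 25, 26]), ([16, 17, 19, 20, 21, 22, 25, 26], [0, 13, 2, 5, 11, 6, 12, 2, 16, 20, 21, 22, 24, 25, 26]), ([16, 19, 20], [2, 12, 15, 11, 5, 0, 1, 4, 16, 17, 22, 23, 24])]
      4 _ (by decide +kernel) (by decide +kernel) h hx)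
  · exact VV_of hy (enum_V (by decide) cVF3 [([16, 17, 19, 21, 23, 25, 26], [0, 14, 10, 15, 8, 11, 4, 1, 19, 20, 22, 24, 25])]
      1 _ (by decide +kernel) (by decide +kernel) h hx)
  · exact VV_of hy (enum_V (by decide) cVF4 [([16, 20], [5, 1, 6, 15, 1, 11, 12, 17, 18, 20, 21, 22, 23, 24, 25, 26]), ([19, 22], [0, 2, 5, 10, 9, 14, 11, 15, 17, 18, 19, 24, 25]), ([16, 23], [2, 14, 8, 10, 5, 1, 0, 14, 16, 21, 23, 26]), ([18, 24], [1, 0, 15, 15, 4, 2, 15, 7, 17, 20, 21, 22, 23, 25, 26]), ([17, 25], [2, 0, 6, 10, 9, 2, 15, 16, 17, 19, 20, 21, 22, 25, 26]), ([21, 26], [2, 10, 10, 7, 9, 12, 9, 18, 19, 20, 21, 22, 23, 24, 26]), ([19], [5, 0, 8, 14, 12, 5, 9, 6, 16, 18, 19, 23, 24])]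
      7 _ (by decide +kernel) (by decide +kernel) h hx)
  · exact VV_of hy (enum_V (by decide) cVF5 []
      0 _ (by decide +kernel) (by decide +kernel) h hx)
  · exact VV_of hy (enum_V (by decide) cVF6 []
      0 _ (by decide +kernel) (by decide +kernel) h hx)

def LZ : List ℕ := [0, 216, 1642, 1714, 2073, 2241, 3699, 3755]
def F9 : ℕ := 0x8241418200000000418282410000000041828241000000008241418200000000281414280000000014282814000000001428281400000000281414280000000028141428000000001428281400000000142828140000000028141428000000008241418200000000418282410000000041828241000000008241418200000000000000008241418200000000418282410000000041828241000000008241418200000000281414280000000014282814000000001428281400000000281414280000000028141428000000001428281400000000142828140000000028141428000000008241418200000000418282410000000041828241000000008241418241828241000000008241418200000000824141820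000000041828241000000001428281400000000281414280000000028141428000000001428281400000000142828140000000028141428000000002814142800000000142828140000000041828241000000008241418200000000824141820000000041828241000000000000000041828241000000008241418200000000824141820000000041828241000000001428281400000000281414280000000028141428000000001428281400000000142828140000000028141428000000002814142800000000142828140000000041828241000000008241418200000000824141820000000041828241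
def b9 : List (List ℕ × List ℕ) := [([19, 20, 22, 23], [19, 20, 22, 23]), ([17, 19, 21, 22, 25, 26], [17, 19, 21, 22, 25, 26]), ([16, 19, 20], [16, 19, 20]), ([17, 18], [0, 10, 2, 9, 14, 1, 13, 17, 18]), ([16, 19], [0, 2, 15, 11, 0, 14, 7, 2, 16, 19]), ([16, 20], [0, 1, 14, 14, 6, 6, 15, 16, 20]), ([16, 22], [0, 4, 1, 10, 6, 11, 4, 4, 16, 22]), ([17, 24], [2, 12, 15, 11, 5, 0, 1, 4, 17, 24]), ([17, 25], [0, 12, 2, 15, 8, 1, 11, 17, 25])]

theorem b9_ok : allL b9 (prOK (getL DA 0 1)) = true := by decide +kernel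

theorem VV1 {x y : K} (h : (x, y) ∈ PD T) (hx : x ∈ V) : F9.testBit (sy x) = true ∧ (y ∈ V → sy x ∈ LZ ∧ sy y = sy x) := by
  obtain ⟨a, b, ha, hb, h⟩ := enum_V (by decide) cVF1 b9 9 (fun a b => band (tb F9 (lo a)) (bor (not (Nat.beq (hi b) one24))
    (band (memL (lo a) LZ) (Nat.beq (lo b) (lo a))))) b9_ok (by decide +kernel) (d1.symm ▸ h) hx
  simp only [band_eq, bor_eq, Bool.and_eq_true, Bool.or_eq_true, tb_eq, Bool.not_eq_true', nbeq_false, memL_iff, nbeq,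
    ha.2, hb.2] at h
  exact ⟨h.1, fun hy => h.2.resolve_left (not_not.2 (hb.mem_V.1 hy))⟩

noncomputable abbrev F1 : Subgroup K := Fd ι T

theorem mem_F1 {x : K} (hx : x ∈ V) (h : F9.testBit (sy x) = true) : x ∈ F1 := by
  have h1 : forceL (mapL lo (wl (b9.map fun w => kc w.1) (subs 9))) (fun l => Nat.beq (mkM l) F9) = true := by decide +kernel
  rw [forceL_eq, nbeq] at h1
  rw [← h1, mkM_bit, mapL_eq] at h
  obtain ⟨c, hc, e⟩ := List.mem_map.1 h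
  obtain ⟨w, hw, rfl⟩ := List.mem_map.1 hc
  have a1 := mdK.rw (al_map mdK (fun w : List ℕ × List ℕ => RK_kw w.1) b9) w
  have hV : ∀ y ∈ b9.map fun w => kw w.1, y ∈ V := fun y hy => by
    obtain ⟨w, hw, rfl⟩ := List.mem_map.1 hy
    exact (RK_kw _).mem_V.2 (nbeq.1 (allL_iff.1 (show allL b9 (fun w => Nat.beq (hi (kc w.1)) one24) = true by
      decide +kernel) w hw))
  rw [← ext_K ((π_V (X.mem hV (.w w))).trans (π_V hx).symm) (a1.2.symm.trans e), F1, ← d1]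
  exact PD_Fd (pr_words (fun w hw => pr_mem (rDA 1 (by decide)) (allL_iff.1 b9_ok w hw)) w)

theorem F1_V {x : K} (hx : x ∈ V) (h : x ∈ F1) : F9.testBit (sy x) = true := let ⟨_, e⟩ := mem_Fd.1 h; (VV1 e hx).1

theorem card_F1 : Nat.card F1 = 2 ^ 19 * 63 := by
  rw [F1, ← d1]; exact card_Fd J4F.orbs (by decide) cardK (by decide)

end Cfsg.Agent.J4F
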